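import Groth.Agent.AlgSp.K640.Equalizer
import Groth.Prelude.Def_AlgSpSub

/-!
Elementary distinguished squares of algebraic spaces.
-/

set_option autoImplicit false
universe u v
open CategoryTheory CategoryTheory.Limits AlgebraicGeometry Opposite
open AlgSp K613.Basic K613.Cover K640.Joint K640.Equalizer

namespace K640.ElemDist

variable {S : Scheme.{u}} {F G P Q U V W : Sp S}

/-- the spectrum of the residue field of a point as a scheme over `S` -/
noncomputable abbrev resPt {R : Over S} (r : R.left) : Over S := Over.mk (R.left.fromSpecResidueField r ≫ R.hom)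

/-- the morphism from the spectrum of the residue field of a point -/
noncomputable abbrev resMap {R : Over S} (r : R.left) : resPt r ⟶ R := Over.homMk (R.left.fromSpecResidueField r) rfl

theorem resMap_apply {R : Over S} (r : R.left) (k : (resPt r).left) : (resMap r).left k = r := by
  have : (R.left.fromSpecResidueField r) k ∈ Set.range (R.left.fromSpecResidueField r) := ⟨k, rfl⟩
  rw [Scheme.range_fromSpecResidueField] at this
  exact this

/-- A field point of `W` whose class lies in the image of a closed subspace `i` factors through `i`. -/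
theorem factor_of_mem_range {T : Sp S} {i : T ⟶ W} (hi : RepWith @IsClosedImmersion i) {R : Over S} (r : R.left)
    (g : (yon S).obj R ⟶ W) (hr : Points.ofPt g r ∈ Set.range (Points.map i)) :
    ∃ τ : (yon S).obj (resPt r) ⟶ T, τ ≫ i = (yon S).map (resMap r) ≫ g := by
  obtain ⟨C, c, fst, sq⟩ := hi.1 ((yon S).map (resMap r) ≫ g)
  have hc : IsClosedImmersion c.left := hi.2 _ fst c sq
  let k : (resPt r).left := IsLocalRing.closedPoint _
  have hk : Points.ofPt ((yon S).map (resMap r) ≫ g) k = Points.ofPt g r := by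
    rw [K610.Base.ofPt_map_comp, resMap_apply]
  obtain ⟨z, hz⟩ := hr
  obtain ⟨x, hx1, hx2⟩ := K610.Base.exists_of_isPullback_yon sq z k (by rw [hz, hk])
  have hsurj : Surjective c.left := by
    refine ⟨fun y => ⟨x, ?_⟩⟩
    rw [hx2]
    have : Subsingleton (resPt r).left := inferInstanceAs (Subsingleton (PrimeSpectrum _))
    exact Subsingleton.elim _ _
  have : IsReduced (resPt r).left := inferInstanceAs (IsReduced (Spec _))
  have hiso : IsIso c.left := isIso_of_isClosedImmersion_of_surjective c.left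
  have hiso' : IsIso c := by
    have : IsIso ((Over.forget S).map c) := hiso
    exact isIso_of_reflects_iso c (Over.forget S)
  exact ⟨(yon S).map (inv c) ≫ fst, by
    rw [Category.assoc, sq.w, ← Category.assoc, ← Functor.map_comp, IsIso.inv_hom_id, CategoryTheory.Functor.map_id,
      Category.id_comp]⟩

/-- the two maps of an elementary distinguished square are jointly locally surjective -/
theorem jSurj_of_isElemDistSq (hV : IsAlgSpace V) {j : U ⟶ W} {f : V ⟶ W} (h : IsElemDistSq j f) :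
    JSurj (famMap j f) := by
  obtain ⟨hj, hf, T, P', i, p₁, p₂, ⟨hi, hrange, hred⟩, sq, hiso⟩ := h
  obtain ⟨V₀, q, hq, hqs⟩ := hV.atlas
  have hqf := hf q hq
  refine JSurj.mk₂ fun R g => ?_
  obtain ⟨R₁, c₁, z₁, sq₁⟩ := hj.1 g
  obtain ⟨R₂, c₂, z₂, sq₂⟩ := hqf.1 g
  have h₁ : IsOpenImmersion c₁.left := hj.2 _ z₁ c₁ sq₁
  have h₂ : Etale c₂.left := hqf.2 _ z₂ c₂ sq₂
  refine ⟨R₁, R₂, c₁, c₂, z₁, z₂ ≫ q, ⟨inferInstance, inferInstance, inferInstance, inferInstance, fun t => ?_⟩,
    sq₁.w, by rw [Category.assoc, sq₂.w]⟩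
  by_cases ht : Points.ofPt g t ∈ Set.range (Points.map j)
  · obtain ⟨x, hx⟩ := ht
    obtain ⟨y, -, hy⟩ := K610.Base.exists_of_isPullback_yon sq₁ x t hx
    exact Or.inl ⟨y, hy⟩
  · have ht' : Points.ofPt g t ∈ Set.range (Points.map i) := by rw [hrange]; exact ht
    obtain ⟨x, hx⟩ := ht'
    have h3 : Points.map f (Points.map p₂ (Points.map (inv p₁) x)) = Points.ofPt g t := by
      rw [← Points.map_comp, ← Points.map_comp, ← sq.w, IsIso.inv_hom_id_assoc, hx]
    obtain ⟨y, hy⟩ := K610.Base.surjective_points_of_repWith hqs (Points.map p₂ (Points.map (inv p₁) x))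
    obtain ⟨w, -, hw⟩ := K610.Base.exists_of_isPullback_yon sq₂ y t (by rw [Points.map_comp, hy, h3])
    exact Or.inr ⟨w, hw⟩

/-- two maps to `V` with the same composition to `W` either agree or factor through `U`, locally -/
theorem fpC₂_of_isElemDistSq (hV : IsAlgSpace V) {j : U ⟶ W} {f : V ⟶ W} (h : IsElemDistSq j f)
    {R : Over S} (u v : (yon S).obj R ⟶ V) (huv : u ≫ f = v ≫ f) :
    ∃ (R₁ R₂ : Over S) (c₁ : R₁ ⟶ R) (c₂ : R₂ ⟶ R) (z₁ : (yon S).obj R₁ ⟶ U), FpC₂ c₁ c₂ ∧
      z₁ ≫ j = (yon S).map c₁ ≫ u ≫ f ∧ (yon S).map c₂ ≫ u = (yon S).map c₂ ≫ v := by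
  obtain ⟨hj, hf, T, P', i, p₁, p₂, ⟨hi, hrange, hred⟩, sq, hiso⟩ := h
  obtain ⟨R₁, c₁, z₁, sq₁⟩ := hj.1 (u ≫ f)
  have h₁ : IsOpenImmersion c₁.left := hj.2 _ z₁ c₁ sq₁
  obtain ⟨E, e, -, -, he⟩ := exists_isEq hV.diag u v
  have h₂ : Etale e.left := etale_of_isEq hV hf huv he
  refine ⟨R₁, E, c₁, e, z₁, ⟨inferInstance, inferInstance, inferInstance, inferInstance, fun t => ?_⟩, sq₁.w, he.w⟩
  by_cases ht : Points.ofPt (u ≫ f) t ∈ Set.range (Points.map j)
  · obtain ⟨x, hx⟩ := ht
    obtain ⟨y, -, hy⟩ := K610.Base.exists_of_isPullback_yon sq₁ x t hx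
    exact Or.inl ⟨y, hy⟩
  · have ht' : Points.ofPt (u ≫ f) t ∈ Set.range (Points.map i) := by rw [hrange]; exact ht
    obtain ⟨τ, hτ⟩ := factor_of_mem_range hi t (u ≫ f) ht'
    have h3 : (yon S).map (resMap t) ≫ u = (yon S).map (resMap t) ≫ v := by
      have hu : τ ≫ i = ((yon S).map (resMap t) ≫ u) ≫ f := by rw [Category.assoc, hτ]
      have hv : τ ≫ i = ((yon S).map (resMap t) ≫ v) ≫ f := by rw [Category.assoc, hτ, huv]
      have h4 : sq.lift _ _ hu = sq.lift _ _ hv := by
        rw [← cancel_mono p₁, sq.lift_fst, sq.lift_fst]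
      rw [← sq.lift_snd _ _ hu, h4, sq.lift_snd]
    obtain ⟨l, hl⟩ := he.lift _ _ h3
    refine Or.inr ⟨l.left (IsLocalRing.closedPoint _), ?_⟩
    have : (l ≫ e).left (IsLocalRing.closedPoint _) = t := by rw [hl, resMap_apply]
    exact this

/-- An elementary distinguished square is a pushout of fppf sheaves. -/
theorem isPushout_of_isElemDistSq (hV : IsAlgSpace V) {j : U ⟶ W} {f : V ⟶ W} (h : IsElemDistSq j f)
    {p : P ⟶ U} {q : P ⟶ V} (hP : IsPullback p q j f) : IsPushout p q j f := by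
  refine isPushout_of_jSurj (jSurj_of_isElemDistSq hV h) hP (fun R u v huv F x₁ x₂ hx => ?_)
    (fun R u v huv F x₁ x₂ hx => ?_)
  · obtain ⟨R', d, fst', sq'⟩ := h.1.1 (u ≫ j)
    have hd : IsOpenImmersion d.left := h.1.2 _ _ _ sq'
    -- `j` is a monomorphism
    obtain ⟨a, ha⟩ := (yon S).map_surjective (sq'.lift u (𝟙 _) (by rw [Category.id_comp]))
    obtain ⟨b, hb⟩ := (yon S).map_surjective (sq'.lift v (𝟙 _) (by rw [Category.id_comp, huv]))
    have hmono : Mono d := by
      refine ⟨fun x y hxy => Over.OverMorphism.ext ?_⟩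
      rw [← cancel_mono d.left]
      exact congrArg (fun z => z.left) hxy
    have hab : a = b := by
      rw [← cancel_mono d]
      apply (yon S).map_injective
      rw [Functor.map_comp, Functor.map_comp, ha, hb, sq'.lift_snd, sq'.lift_snd]
    have : u = v := by
      rw [← sq'.lift_fst u (𝟙 _) (by rw [Category.id_comp]), ← ha, hab, hb, sq'.lift_fst]
    rw [this]
  · obtain ⟨R₁, R₂, c₁, c₂, z₁, hc, hz₁, h2⟩ := fpC₂_of_isElemDistSq hV h u v huv
    refine hc.ext ?_ ?_
    · have hu : z₁ ≫ j = ((yon S).map c₁ ≫ u) ≫ f := by rw [Category.assoc, hz₁]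
      have hv : z₁ ≫ j = ((yon S).map c₁ ≫ v) ≫ f := by rw [Category.assoc, hz₁, huv]
      rw [← Category.assoc, ← Category.assoc, ← hP.lift_snd _ _ hu, ← hP.lift_snd _ _ hv, Category.assoc,
        Category.assoc, ← hx, ← Category.assoc, ← Category.assoc, hP.lift_fst, hP.lift_fst]
    · rw [← Category.assoc, ← Category.assoc, h2]

end K640.ElemDist
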