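import Groth.Agent.AlgSp.K640.Joint
import Mathlib.AlgebraicGeometry.Morphisms.LocalFlatDescent

/-!
Equalizers of two maps from a scheme to an algebraic space.
-/

set_option autoImplicit false
universe u v
open CategoryTheory CategoryTheory.Limits AlgebraicGeometry Opposite
open AlgSp K613.Basic K613.Cover K640.Joint

namespace K640.Equalizer

variable {S : Scheme.{u}} {F G P Q : Sp S}

/-- `e : E ⟶ R` represents the locus where `u, v : h_R ⟶ F` agree. -/
structure IsEq {R E : Over S} (e : E ⟶ R) (u v : (yon S).obj R ⟶ F) : Prop where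
  w : (yon S).map e ≫ u = (yon S).map e ≫ v
  lift : ∀ (T : Over S) (t : T ⟶ R), (yon S).map t ≫ u = (yon S).map t ≫ v → ∃ l : T ⟶ E, l ≫ e = t
  mono : Mono e

/-- The locus where two maps to an algebraic space agree is represented by a scheme. -/
theorem exists_isEq (hF : Representable (Limits.diag F)) {R : Over S} (u v : (yon S).obj R ⟶ F) :
    ∃ (E : Over S) (e : E ⟶ R) (fst : (yon S).obj E ⟶ F),
      IsPullback fst ((yon S).map e) (Limits.diag F) (prod.lift u v) ∧ IsEq e u v := by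
  obtain ⟨E, e, fst, sq⟩ := hF (prod.lift u v)
  have h1 : fst = (yon S).map e ≫ u := by
    have := congrArg (fun z => z ≫ prod.fst) sq.w
    rwa [Category.assoc, Category.assoc, prod.lift_fst, prod.lift_fst, Category.comp_id] at this
  have h2 : fst = (yon S).map e ≫ v := by
    have := congrArg (fun z => z ≫ prod.snd) sq.w
    rwa [Category.assoc, Category.assoc, prod.lift_snd, prod.lift_snd, Category.comp_id] at this
  refine ⟨E, e, fst, sq, h1.symm.trans h2, fun T t ht => ?_, ?_⟩
  · obtain ⟨l, hl⟩ := (yon S).map_surjective (sq.lift ((yon S).map t ≫ u) ((yon S).map t) (by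
      apply Limits.prod.hom_ext
      · simp only [Category.assoc, prod.lift_fst, Category.comp_id]
      · simp only [Category.assoc, prod.lift_snd, Category.comp_id, ht]))
    refine ⟨l, (yon S).map_injective ?_⟩
    rw [Functor.map_comp, hl, sq.lift_snd]
  · refine ⟨fun {Z} a b hab => (yon S).map_injective (sq.hom_ext ?_ ?_)⟩
    · rw [h1, ← Category.assoc, ← Category.assoc, ← Functor.map_comp, ← Functor.map_comp, hab]
    · rw [← Functor.map_comp, ← Functor.map_comp, hab]

/-- base change of an equalizer -/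
theorem IsEq.isPullback {R E R' E' : Over S} {e : E ⟶ R} {u v : (yon S).obj R ⟶ F} (h : IsEq e u v) (r : R' ⟶ R)
    {e' : E' ⟶ R'} (h' : IsEq e' ((yon S).map r ≫ u) ((yon S).map r ≫ v)) :
    ∃ l : E' ⟶ E, IsPullback l e' e r := by
  have hm := h.mono
  have hm' := h'.mono
  obtain ⟨l, hl⟩ := h.lift E' (e' ≫ r) (by
    rw [Functor.map_comp, Category.assoc, Category.assoc, h'.w])
  have key : ∀ s : PullbackCone e r, ∃ k : s.pt ⟶ E', k ≫ e' = s.snd := fun s => h'.lift s.pt s.snd (by
    rw [← Category.assoc, ← Category.assoc, ← Functor.map_comp, ← s.condition, Functor.map_comp, Category.assoc,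
      Category.assoc, h.w])
  refine ⟨l, ⟨⟨hl⟩, ⟨PullbackCone.IsLimit.mk _ (fun s => (key s).choose) (fun s => ?_) (fun s => (key s).choose_spec)
    (fun s m h1 h2 => ?_)⟩⟩⟩
  · rw [← cancel_mono e, Category.assoc, hl, ← Category.assoc, (key s).choose_spec, s.condition]
  · rw [← cancel_mono e', h2, (key s).choose_spec]

/-- If `F` is an algebraic space and `f : F ⟶ G` is étale, the locus where two maps `h_R ⟶ F` with the same composition
to `G` agree is étale over `R`. -/
theorem etale_of_isEq (hF : IsAlgSpace F) {f : F ⟶ G} (hf : IsEtaleMor f) {R E : Over S} {e : E ⟶ R}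
    {u v : (yon S).obj R ⟶ F} (huv : u ≫ f = v ≫ f) (h : IsEq e u v) : Etale e.left := by
  obtain ⟨V, q, hq, hqs⟩ := hF.atlas
  have hE : ESurj q := ESurj.of_repWith hq hqs
  have hqf : RepWith @Etale (q ≫ f) := hf q hq
  -- lift `u` and `v` to `V`
  obtain ⟨R₁, c₁, u₁, hc₁, hu₁⟩ := hE R u
  obtain ⟨R₂, c₂, v₂, hc₂, hv₂⟩ := hE R₁ ((yon S).map c₁ ≫ v)
  have hc : EtC (c₂ ≫ c₁) := hc₁.comp hc₂
  have huc : ((yon S).map c₂ ≫ u₁) ≫ q = (yon S).map (c₂ ≫ c₁) ≫ u := by
    rw [Category.assoc, hu₁, Functor.map_comp, Category.assoc]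
  have hvc : v₂ ≫ q = (yon S).map (c₂ ≫ c₁) ≫ v := by
    rw [hv₂, Functor.map_comp, Category.assoc]
  -- the schemes `V ×_F V` and `V ×_G V`
  obtain ⟨V₂, s₂, t₂, sqV⟩ := hq.1 q
  obtain ⟨W₂, a₂, b₂, sqW⟩ := hqf.1 (q ≫ f)
  have hs₂ : Etale s₂.left := hq.2 q t₂ s₂ sqV
  have ha₂ : Etale a₂.left := hqf.2 (q ≫ f) b₂ a₂ sqW
  obtain ⟨m, hm⟩ := (yon S).map_surjective (sqW.lift t₂ ((yon S).map s₂) (by
    rw [← Category.assoc, ← Category.assoc, sqV.w]))
  have hma : m ≫ a₂ = s₂ := by
    apply (yon S).map_injective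
    rw [Functor.map_comp, hm, sqW.lift_snd]
  have hmb : (yon S).map m ≫ b₂ = t₂ := by rw [hm, sqW.lift_fst]
  have hm' : Etale m.left := by
    have h1 : Etale (m.left ≫ a₂.left) := by
      rw [← Over.comp_left, hma]
      exact hs₂
    exact Etale.of_comp m.left a₂.left
  -- the map from the cover of `R` to `V ×_G V`
  obtain ⟨r, hr⟩ := (yon S).map_surjective (sqW.lift ((yon S).map c₂ ≫ u₁) v₂ (by
    rw [← Category.assoc, ← Category.assoc, huc, hvc, Category.assoc, Category.assoc, huv]))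
  have hra : (yon S).map r ≫ (yon S).map a₂ = v₂ := by rw [hr, sqW.lift_snd]
  have hrb : (yon S).map r ≫ b₂ = (yon S).map c₂ ≫ u₁ := by rw [hr, sqW.lift_fst]
  -- `m` is an equalizer
  have hmeq : IsEq m (b₂ ≫ q) ((yon S).map a₂ ≫ q) := by
    refine ⟨?_, fun T t ht => ?_, ?_⟩
    · rw [← Category.assoc, hmb, ← Category.assoc, ← Functor.map_comp, hma, sqV.w]
    · obtain ⟨l, hl⟩ := (yon S).map_surjective (sqV.lift ((yon S).map t ≫ b₂) ((yon S).map (t ≫ a₂)) (by
        rw [Category.assoc, ht, Functor.map_comp, Category.assoc]))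
      refine ⟨l, (yon S).map_injective (sqW.hom_ext ?_ ?_)⟩
      · rw [Functor.map_comp, Category.assoc, hmb, hl, sqV.lift_fst]
      · rw [← Functor.map_comp, Category.assoc, hma, Functor.map_comp, hl, sqV.lift_snd, Functor.map_comp]
    · refine ⟨fun {Z} a b hab => (yon S).map_injective (sqV.hom_ext ?_ ?_)⟩
      · rw [← hmb, ← Category.assoc, ← Category.assoc, ← Functor.map_comp, ← Functor.map_comp, hab]
      · rw [← hma, ← Functor.map_comp, ← Functor.map_comp, ← Category.assoc, ← Category.assoc, hab]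
  -- the equalizer on the cover
  obtain ⟨E', e', fst', -, he'⟩ := exists_isEq hF.diag ((yon S).map r ≫ b₂ ≫ q) ((yon S).map r ≫ (yon S).map a₂ ≫ q)
  obtain ⟨l, hl⟩ := hmeq.isPullback r he'
  have he'2 : Etale e'.left := MorphismProperty.of_isPullback (P := @Etale) (hl.map (Over.forget S)) hm'
  have e1 : (yon S).map r ≫ b₂ ≫ q = (yon S).map (c₂ ≫ c₁) ≫ u := by rw [← Category.assoc, hrb, huc]
  have e2 : (yon S).map r ≫ (yon S).map a₂ ≫ q = (yon S).map (c₂ ≫ c₁) ≫ v := by rw [← Category.assoc, hra, hvc]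
  rw [e1, e2] at he'
  obtain ⟨l', hl'⟩ := h.isPullback (c₂ ≫ c₁) he'
  exact MorphismProperty.of_isPullback_of_descendsAlong (P := @Etale) (Q := fppf)
    ((hl'.map (Over.forget S)).flip) hc.fpC.mem he'2

end K640.Equalizer
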