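import Groth.Agent.Etbase.FpqcDescent
import Groth.Agent.AlgSp.K640.Equalizer

/-!
Descent of properties of morphisms of schemes along flat, locally finitely presented, jointly surjective families.
-/

set_option autoImplicit false
universe u v
open CategoryTheory CategoryTheory.Limits AlgebraicGeometry Opposite
open AlgSp K613.Basic K613.Cover K640.Joint K640.Equalizer

namespace K640.SchFam

theorem of_family {Pr : MorphismProperty Scheme.{u}} [Pr.DescendsAlong fppf.{u}] [Pr.IsStableUnderBaseChange]
    [IsZariskiLocalAtTarget Pr] {X Y : Scheme.{u}} (f : X ⟶ Y) {ι : Type u} {Y' : ι → Scheme.{u}}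
    (c : ∀ i, Y' i ⟶ Y) (hf : ∀ i, Flat (c i)) (hp : ∀ i, LocallyOfFinitePresentation (c i))
    (hs : ∀ y : Y, ∃ (i : ι) (y' : Y' i), c i y' = y) (X' : ι → Scheme.{u}) (a : ∀ i, X' i ⟶ X)
    (b : ∀ i, X' i ⟶ Y' i) (sq : ∀ i, IsPullback (a i) (b i) f (c i)) (h : ∀ i, Pr (b i)) : Pr f := by
  have h1 : Surjective (Sigma.desc c) := by
    refine Surjective.sigmaDesc_of_union_range_eq_univ (Set.eq_univ_of_forall fun y => ?_)
    obtain ⟨i, y', hy⟩ := hs y
    exact Set.mem_iUnion.2 ⟨i, y', hy⟩
  have h2 : LocallyOfFinitePresentation (Sigma.desc c) := by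
    rw [IsZariskiLocalAtSource.iff_of_openCover (P := @LocallyOfFinitePresentation) (sigmaOpenCover Y')]
    intro i
    simp only [sigmaOpenCover]
    erw [Sigma.ι_desc]
    exact hp i
  have h3 : Flat (Sigma.desc c) := inferInstance
  refine MorphismProperty.of_isPullback_of_descendsAlong (P := Pr) (Q := fppf)
    (IsPullback.of_hasPullback f (Sigma.desc c)).flip ⟨⟨h1, h3⟩, h2⟩ ?_
  rw [IsZariskiLocalAtTarget.iff_of_openCover (P := Pr) (sigmaOpenCover Y')]
  intro i
  have e1 : Sigma.ι Y' i ≫ Sigma.desc c = c i := Sigma.ι_desc c i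
  have sq1 := (IsPullback.of_hasPullback (pullback.snd f (Sigma.desc c)) (Sigma.ι Y' i)).paste_horiz
    (IsPullback.of_hasPullback f (Sigma.desc c))
  rw [e1] at sq1
  change Pr (pullback.snd (pullback.snd f (Sigma.desc c)) (Sigma.ι Y' i))
  have : Pr.RespectsIso := MorphismProperty.IsStableUnderBaseChange.respectsIso
  rw [← IsPullback.isoIsPullback_inv_snd _ _ (sq i) sq1, Pr.cancel_left_of_respectsIso]
  exact h i

variable {S : Scheme.{u}} {F G P Q : Sp S}

theorem of_fpF {Pr : MorphismProperty Scheme.{u}} [Pr.DescendsAlong fppf.{u}] [Pr.IsStableUnderBaseChange]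
    [IsZariskiLocalAtTarget Pr] {E R : Over S} (e : E ⟶ R) {ι : Type u} {R' : ι → Over S} {c : ∀ i, R' i ⟶ R}
    (hc : FpF c) (h : ∀ i, ∃ (E' : Over S) (a : E' ⟶ E) (b : E' ⟶ R' i), IsPullback a b e (c i) ∧ Pr b.left) :
    Pr e.left := by
  choose E' a b sq hb using h
  exact of_family e.left (fun i => (c i).left) hc.flat hc.lfp hc.surj (fun i => (E' i).left) (fun i => (a i).left)
    (fun i => (b i).left) (fun i => (sq i).map (Over.forget S)) hb

instance : MorphismProperty.DescendsAlong @IsClosedImmersion fppf.{u} :=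
  have := Groth.Agent.Etbase.FpqcDescent.descendsAlong_isClosedImmersion
  inferInstance

/-- the pullback of the diagonal is the equalizer -/
theorem isPullback_diagonal {f : F ⟶ G} {R E : Over S} {e : E ⟶ R} {w : (yon S).obj R ⟶ pullback f f}
    (h : IsEq e (w ≫ pullback.fst f f) (w ≫ pullback.snd f f)) :
    IsPullback ((yon S).map e ≫ w ≫ pullback.fst f f) ((yon S).map e) (pullback.diagonal f) w := by
  have hm := h.mono
  refine isPullback_of_yon ?_ fun T a b hab => ?_
  · apply pullback.hom_ext
    · simp only [Category.assoc, pullback.diagonal_fst, Category.comp_id]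
    · simp only [Category.assoc, pullback.diagonal_snd, Category.comp_id]
      exact h.w
  · obtain ⟨b, rfl⟩ := (yon S).map_surjective b
    have h1 := congrArg (fun z => z ≫ pullback.fst f f) hab
    have h2 := congrArg (fun z => z ≫ pullback.snd f f) hab
    simp only [Category.assoc, pullback.diagonal_fst, pullback.diagonal_snd, Category.comp_id] at h1 h2
    obtain ⟨l, rfl⟩ := h.lift T b (h1.symm.trans h2)
    refine ⟨(yon S).map l, ⟨?_, ?_⟩, fun y hy => ?_⟩
    · rw [h1, Functor.map_comp, Category.assoc]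
    · rw [Functor.map_comp]
    · obtain ⟨y, rfl⟩ := (yon S).map_surjective y
      congr 1
      rw [← cancel_mono e]
      apply (yon S).map_injective
      rw [← hy.2, Functor.map_comp]

theorem isEq_of_isPullback_diagonal {f : F ⟶ G} {R E : Over S} {e : E ⟶ R} {w : (yon S).obj R ⟶ pullback f f}
    {fst : (yon S).obj E ⟶ F} (sq : IsPullback fst ((yon S).map e) (pullback.diagonal f) w) :
    IsEq e (w ≫ pullback.fst f f) (w ≫ pullback.snd f f) := by
  have h1 : fst = (yon S).map e ≫ w ≫ pullback.fst f f := by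
    have := congrArg (fun z => z ≫ pullback.fst f f) sq.w
    simpa only [Category.assoc, pullback.diagonal_fst, Category.comp_id] using this
  have h2 : fst = (yon S).map e ≫ w ≫ pullback.snd f f := by
    have := congrArg (fun z => z ≫ pullback.snd f f) sq.w
    simpa only [Category.assoc, pullback.diagonal_snd, Category.comp_id] using this
  refine ⟨h1.symm.trans h2, fun T t ht => ?_, ⟨fun {Z} a b hab => (yon S).map_injective (sq.hom_ext ?_ ?_)⟩⟩
  · obtain ⟨l, hl⟩ := (yon S).map_surjective (sq.lift ((yon S).map t ≫ w ≫ pullback.fst f f) ((yon S).map t) (by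
      apply pullback.hom_ext
      · simp only [Category.assoc, pullback.diagonal_fst, Category.comp_id]
      · simp only [Category.assoc, pullback.diagonal_snd, Category.comp_id, ht]))
    refine ⟨l, (yon S).map_injective ?_⟩
    rw [Functor.map_comp, hl, sq.lift_snd]
  · have h3 : (yon S).map a ≫ (yon S).map e = (yon S).map b ≫ (yon S).map e := by
      rw [← Functor.map_comp, ← Functor.map_comp, hab]
    simp only [h1, ← Category.assoc, h3]
  · rw [← Functor.map_comp, ← Functor.map_comp, hab]

theorem IsEq.uniq {R E E' : Over S} {u v : (yon S).obj R ⟶ F} {e : E ⟶ R} {e' : E' ⟶ R} (h : IsEq e u v)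
    (h' : IsEq e' u v) : ∃ i : E ≅ E', i.hom ≫ e' = e := by
  have := h.mono
  have := h'.mono
  obtain ⟨a, ha⟩ := h'.lift E e h.w
  obtain ⟨b, hb⟩ := h.lift E' e' h'.w
  exact ⟨⟨a, b, by rw [← cancel_mono e, Category.assoc, hb, ha, Category.id_comp],
    by rw [← cancel_mono e', Category.assoc, ha, hb, Category.id_comp]⟩, ha⟩

/-- `RepWith P` of the diagonal in terms of equalizers -/
theorem repWith_diagonal_iff (hF : Representable (Limits.diag F)) {f : F ⟶ G} (Pr : MorphismProperty Scheme.{u}) :
    RepWith Pr (pullback.diagonal f) ↔ ∀ (R E : Over S) (e : E ⟶ R) (u v : (yon S).obj R ⟶ F), u ≫ f = v ≫ f →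
      IsEq e u v → Pr e.left := by
  constructor
  · intro h R E e u v huv he
    have := isPullback_diagonal (w := pullback.lift u v huv) (e := e) (f := f)
      (by rwa [pullback.lift_fst, pullback.lift_snd])
    exact h.2 _ _ _ this
  · intro h
    refine ⟨fun R w => ?_, fun R E w fst snd sq => ?_⟩
    · obtain ⟨E, e, -, -, he⟩ := exists_isEq hF (w ≫ pullback.fst f f) (w ≫ pullback.snd f f)
      exact ⟨E, e, _, isPullback_diagonal he⟩
    · refine h R E snd (w ≫ pullback.fst f f) (w ≫ pullback.snd f f) ?_ (isEq_of_isPullback_diagonal sq)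
      rw [Category.assoc, Category.assoc, pullback.condition]

end K640.SchFam
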