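import Groth.Agent.AlgSp.K640.ElemDist
import Groth.Agent.AlgSp.K640.SchFam
import Groth.Prelude.Def_AlgSp4

/-!
Separatedness through an elementary distinguished square.
-/

set_option autoImplicit false
universe u v
open CategoryTheory CategoryTheory.Limits AlgebraicGeometry Opposite
open AlgSp K613.Basic K613.Cover K640.Joint K640.Equalizer K640.SchFam K640.ElemDist

namespace K640.ElemSep

variable {S : Scheme.{u}} {F G P Q U V W X Y PX PY QX QY : Sp S}

theorem _root_.K640.Equalizer.IsEq.symm {R E : Over S} {e : E ⟶ R} {u v : (yon S).obj R ⟶ F} (h : IsEq e u v) :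
    IsEq e v u :=
  ⟨h.w.symm, fun T t ht => h.lift T t ht.symm, h.mono⟩

/-- the case of a point of `U ×_Y V` -/
theorem closedImmersion_UV (g : X ⟶ Y) {j : U ⟶ X} {f : V ⟶ X} (hU : IsAlgSpace U)
    (hj : RepWith @IsOpenImmersion j)
    (hUs : IsSeparatedMor (j ≫ g)) {pX : PX ⟶ U} {qX : PX ⟶ V} (hPX : IsPullback pX qX j f)
    {pY : PY ⟶ U} {qY : PY ⟶ V} (hPY : IsPullback pY qY (j ≫ g) (f ≫ g)) {c : PX ⟶ PY} (hc₁ : c ≫ pY = pX)
    (hc₂ : c ≫ qY = qX) (hcl : IsClosedMor c) {R E : Over S} {e : E ⟶ R} (u : (yon S).obj R ⟶ U)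
    (v : (yon S).obj R ⟶ V) (huv : u ≫ j ≫ g = v ≫ f ≫ g) (he : IsEq e (u ≫ j) (v ≫ f)) :
    IsClosedImmersion e.left := by
  have hme := he.mono
  obtain ⟨R₁, c₁, z₁, sq₁⟩ := hj.1 (v ≫ f)
  have h₁ : IsOpenImmersion c₁.left := hj.2 _ z₁ c₁ sq₁
  obtain ⟨l, hl⟩ := (yon S).map_surjective (sq₁.lift ((yon S).map e ≫ u) ((yon S).map e) (by
    rw [Category.assoc, he.w]))
  have hl1 : (yon S).map l ≫ z₁ = (yon S).map e ≫ u := by rw [hl, sq₁.lift_fst]
  have hl2 : l ≫ c₁ = e := (yon S).map_injective (by rw [Functor.map_comp, hl, sq₁.lift_snd])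
  have hlm : Mono l := mono_of_mono_fac hl2
  have hl3 : IsEq l ((yon S).map c₁ ≫ u) z₁ := by
    refine ⟨?_, fun T t ht => ?_, hlm⟩
    · rw [hl1, ← Category.assoc, ← Functor.map_comp, hl2]
    · have h1 : (yon S).map (t ≫ c₁) ≫ u ≫ j = (yon S).map (t ≫ c₁) ≫ v ≫ f := by
        rw [Functor.map_comp, Category.assoc, Category.assoc, ← sq₁.w]
        have := congrArg (fun z => z ≫ j) ht
        simpa only [Category.assoc] using this
      obtain ⟨k, hk⟩ := he.lift T (t ≫ c₁) h1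
      refine ⟨k, (yon S).map_injective (sq₁.hom_ext ?_ ?_)⟩
      · rw [Functor.map_comp, Category.assoc, hl1, ← ht, ← Category.assoc, ← Functor.map_comp, hk, Functor.map_comp,
          Category.assoc]
      · rw [← Functor.map_comp, ← Functor.map_comp, Category.assoc, hl2, hk]
  have hlc : IsClosedImmersion l.left := by
    refine (repWith_diagonal_iff hU.diag (f := j ≫ g) @IsClosedImmersion).1 hUs _ _ l _ _ ?_ hl3
    rw [Category.assoc, huv, ← Category.assoc z₁, sq₁.w, Category.assoc, Category.assoc]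
  have hle : e.left = l.left ≫ c₁.left := by rw [← Over.comp_left, hl2]
  have hpre : IsPreimmersion e.left := by rw [hle]; infer_instance
  -- the range is closed
  let a : (yon S).obj R ⟶ PY := hPY.lift u v huv
  obtain ⟨b', hb1, hb2⟩ : ∃ b' : (yon S).obj E ⟶ PX, b' ≫ pX = (yon S).map e ≫ u ∧ b' ≫ qX = (yon S).map e ≫ v :=
    ⟨hPX.lift ((yon S).map e ≫ u) ((yon S).map e ≫ v) (by rw [Category.assoc, Category.assoc, he.w]),
      hPX.lift_fst _ _ _, hPX.lift_snd _ _ _⟩
  have sq₂ : IsPullback b' ((yon S).map e) c a := by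
    refine isPullback_of_yon ?_ fun T α β hαβ => ?_
    · apply hPY.hom_ext
      · rw [Category.assoc, Category.assoc, hc₁, hb1, hPY.lift_fst]
      · rw [Category.assoc, Category.assoc, hc₂, hb2, hPY.lift_snd]
    · obtain ⟨β, rfl⟩ := (yon S).map_surjective β
      have h1 : α ≫ pX = (yon S).map β ≫ u := by
        rw [← hc₁, ← Category.assoc, hαβ, Category.assoc, hPY.lift_fst]
      have h2 : α ≫ qX = (yon S).map β ≫ v := by
        rw [← hc₂, ← Category.assoc, hαβ, Category.assoc, hPY.lift_snd]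
      obtain ⟨k, rfl⟩ := he.lift T β (by
        rw [← Category.assoc, ← h1, ← Category.assoc, ← h2, Category.assoc, Category.assoc, hPX.w])
      refine ⟨(yon S).map k, ⟨?_, ?_⟩, fun y hy => ?_⟩
      · apply hPX.hom_ext
        · rw [Category.assoc, hb1, h1, Functor.map_comp, Category.assoc]
        · rw [Category.assoc, hb2, h2, Functor.map_comp, Category.assoc]
      · rw [Functor.map_comp]
      · obtain ⟨y, rfl⟩ := (yon S).map_surjective y
        congr 1
        rw [← cancel_mono e]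
        apply (yon S).map_injective
        rw [← hy.2, Functor.map_comp]
  have hrange : Set.range e.left = Points.ofPt a ⁻¹' Set.range (Points.map c) := by
    ext r
    constructor
    · rintro ⟨x, rfl⟩
      refine ⟨Points.ofPt b' x, ?_⟩
      rw [Points.map_ofPt, sq₂.w, K610.Base.ofPt_map_comp]
    · rintro ⟨z, hz⟩
      obtain ⟨x, -, hx⟩ := K610.Base.exists_of_isPullback_yon sq₂ z r hz
      exact ⟨x, hx⟩
  have hclosed : IsClosed (Set.range e.left) := by
    rw [hrange]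
    exact (IsClosedMap.isClosed_range hcl).preimage (Points.continuous_ofPt a)
  exact IsClosedImmersion.of_isPreimmersion _ hclosed

theorem isSeparatedMor_of_isElemDistSq (hU : IsAlgSpace U) (hV : IsAlgSpace V) (hX : IsAlgSpace X) (g : X ⟶ Y)
    {j : U ⟶ X} {f : V ⟶ X} (hsq : IsElemDistSq j f) (hUs : IsSeparatedMor (j ≫ g))
    {pX : PX ⟶ U} {qX : PX ⟶ V} (hPX : IsPullback pX qX j f)
    {pY : PY ⟶ U} {qY : PY ⟶ V} (hPY : IsPullback pY qY (j ≫ g) (f ≫ g)) {c : PX ⟶ PY} (hc₁ : c ≫ pY = pX)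
    (hc₂ : c ≫ qY = qX) (hcl : IsClosedMor c) {rX₁ rX₂ : QX ⟶ V} (hQX : IsPullback rX₁ rX₂ f f)
    {rY₁ rY₂ : QY ⟶ V} (hQY : IsPullback rY₁ rY₂ (f ≫ g) (f ≫ g)) (d : QX ⟶ QY) (hd₁ : d ≫ rY₁ = rX₁)
    (hd₂ : d ≫ rY₂ = rX₂) (hdcl : RepWith @IsClosedImmersion d) : IsSeparatedMor g := by
  have hjs := jSurj_of_isElemDistSq hV hsq
  refine (repWith_diagonal_iff hX.diag (f := g) @IsClosedImmersion).2 fun R E e u v huv he => ?_
  -- pass to a cover where `u` lifts
  obtain ⟨ι, R', cc, k, z, hcc, hz⟩ := hjs R u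
  refine of_fpF e hcc fun i => ?_
  obtain ⟨E', e', -, -, he'⟩ := exists_isEq hX.diag ((yon S).map (cc i) ≫ u) ((yon S).map (cc i) ≫ v)
  obtain ⟨l, hl⟩ := he.isPullback (cc i) he'
  refine ⟨E', l, e', hl, ?_⟩
  -- pass to a cover where `v` lifts
  obtain ⟨ι₂, R₂, cc₂, k₂, z₂, hcc₂, hz₂⟩ := hjs (R' i) ((yon S).map (cc i) ≫ v)
  refine of_fpF e' hcc₂ fun i₂ => ?_
  obtain ⟨E₂, e₂, -, -, he₂⟩ := exists_isEq hX.diag ((yon S).map (cc₂ i₂) ≫ (yon S).map (cc i) ≫ u)
    ((yon S).map (cc₂ i₂) ≫ (yon S).map (cc i) ≫ v)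
  obtain ⟨l₂, hl₂⟩ := he'.isPullback (cc₂ i₂) he₂
  refine ⟨E₂, l₂, e₂, hl₂, ?_⟩
  have huv' : ((yon S).map (cc₂ i₂) ≫ (yon S).map (cc i) ≫ u) ≫ g =
      ((yon S).map (cc₂ i₂) ≫ (yon S).map (cc i) ≫ v) ≫ g := by
    simp only [Category.assoc, huv]
  have hu₂ : (yon S).map (cc₂ i₂) ≫ (yon S).map (cc i) ≫ u =
      ((yon S).map (cc₂ i₂) ≫ z i) ≫ famMap j f (k i) := by rw [Category.assoc, hz]
  rw [hu₂, ← hz₂] at he₂ huv'
  generalize (yon S).map (cc₂ i₂) ≫ z i = a at he₂ huv'
  generalize z₂ i₂ = b at he₂ huv'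
  generalize k i = m at a he₂ huv'
  generalize k₂ i₂ = n at b he₂ huv'
  match m, n with
  | true, true =>
    change (yon S).obj _ ⟶ U at a b
    change IsEq e₂ (a ≫ j) (b ≫ j) at he₂
    change (a ≫ j) ≫ g = (b ≫ j) ≫ g at huv'
    have hjm : Mono j := by
      refine K610.Base.mono_of_yon fun T x y hxy => ?_
      obtain ⟨R', d, fst', sq'⟩ := hsq.1.1 (x ≫ j)
      have hd : IsOpenImmersion d.left := hsq.1.2 _ _ _ sq'
      have hmono : Mono d := by
        refine ⟨fun x y hxy => Over.OverMorphism.ext ?_⟩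
        rw [← cancel_mono d.left]
        exact congrArg (fun z => z.left) hxy
      obtain ⟨a, ha⟩ := (yon S).map_surjective (sq'.lift x (𝟙 _) (by rw [Category.id_comp]))
      obtain ⟨b, hb⟩ := (yon S).map_surjective (sq'.lift y (𝟙 _) (by rw [Category.id_comp, hxy]))
      have hab : a = b := by
        rw [← cancel_mono d]
        apply (yon S).map_injective
        rw [Functor.map_comp, Functor.map_comp, ha, hb, sq'.lift_snd, sq'.lift_snd]
      rw [← sq'.lift_fst x (𝟙 _) (by rw [Category.id_comp]), ← ha, hab, hb, sq'.lift_fst]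
    refine (repWith_diagonal_iff hU.diag (f := j ≫ g) @IsClosedImmersion).1 hUs _ _ e₂ a b
      (by simpa only [Category.assoc] using huv') ⟨?_, fun T t ht => he₂.lift T t ?_, he₂.mono⟩
    · rw [← cancel_mono j, Category.assoc, Category.assoc, he₂.w]
    · rw [← Category.assoc, ← Category.assoc, ht]
  | true, false =>
    change (yon S).obj _ ⟶ U at a
    change (yon S).obj _ ⟶ V at b
    change IsEq e₂ (a ≫ j) (b ≫ f) at he₂
    change (a ≫ j) ≫ g = (b ≫ f) ≫ g at huv'
    exact closedImmersion_UV g hU hsq.1 hUs hPX hPY hc₁ hc₂ hcl a b (by simpa only [Category.assoc] using huv') he₂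
  | false, true =>
    change (yon S).obj _ ⟶ V at a
    change (yon S).obj _ ⟶ U at b
    change IsEq e₂ (a ≫ f) (b ≫ j) at he₂
    change (a ≫ f) ≫ g = (b ≫ j) ≫ g at huv'
    exact closedImmersion_UV g hU hsq.1 hUs hPX hPY hc₁ hc₂ hcl b a (by simpa only [Category.assoc] using huv'.symm)
      he₂.symm
  | false, false =>
    change (yon S).obj _ ⟶ V at a b
    change IsEq e₂ (a ≫ f) (b ≫ f) at he₂
    change (a ≫ f) ≫ g = (b ≫ f) ≫ g at huv'
    have hme := he₂.mono
    let w := hQY.lift a b (by simpa only [Category.assoc] using huv')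
    obtain ⟨b', hb1, hb2⟩ : ∃ b' : (yon S).obj E₂ ⟶ QX, b' ≫ rX₁ = (yon S).map e₂ ≫ a ∧
        b' ≫ rX₂ = (yon S).map e₂ ≫ b :=
      ⟨hQX.lift ((yon S).map e₂ ≫ a) ((yon S).map e₂ ≫ b) (by rw [Category.assoc, Category.assoc, he₂.w]),
        hQX.lift_fst _ _ _, hQX.lift_snd _ _ _⟩
    have sq₂ : IsPullback b' ((yon S).map e₂) d w := by
      refine isPullback_of_yon ?_ fun T α β hαβ => ?_
      · apply hQY.hom_ext
        · rw [Category.assoc, Category.assoc, hd₁, hb1, hQY.lift_fst]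
        · rw [Category.assoc, Category.assoc, hd₂, hb2, hQY.lift_snd]
      · obtain ⟨β, rfl⟩ := (yon S).map_surjective β
        have h1 : α ≫ rX₁ = (yon S).map β ≫ a := by
          rw [← hd₁, ← Category.assoc, hαβ, Category.assoc, hQY.lift_fst]
        have h2 : α ≫ rX₂ = (yon S).map β ≫ b := by
          rw [← hd₂, ← Category.assoc, hαβ, Category.assoc, hQY.lift_snd]
        obtain ⟨k, rfl⟩ := he₂.lift T β (by
          rw [← Category.assoc, ← h1, ← Category.assoc, ← h2, Category.assoc, Category.assoc, hQX.w])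
        refine ⟨(yon S).map k, ⟨?_, ?_⟩, fun y hy => ?_⟩
        · apply hQX.hom_ext
          · rw [Category.assoc, hb1, h1, Functor.map_comp, Category.assoc]
          · rw [Category.assoc, hb2, h2, Functor.map_comp, Category.assoc]
        · rw [Functor.map_comp]
        · obtain ⟨y, rfl⟩ := (yon S).map_surjective y
          congr 1
          rw [← cancel_mono e₂]
          apply (yon S).map_injective
          rw [← hy.2, Functor.map_comp]
    exact hdcl.2 _ _ _ sq₂

end K640.ElemSep
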