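import Groth.Agent.AlgSp.K628.Cover
import Groth.Agent.AlgSp.K628.Props
import Groth.Agent.AlgSp.K613.Basic
import Groth.Agent.AlgSp.K598.RepKit

/-!
# Isomorphisms descend along fpqc coverings
-/

set_option autoImplicit false
universe u
open CategoryTheory CategoryTheory.Limits AlgebraicGeometry
open AlgSp

namespace K640.FpqcIso

open K628.Cov K628.Cover Groth.Agent.Ega2.QuasiAffine

variable {S : Scheme.{u}} {X Y F G : Sp S}

theorem isIso_of_repWith {f : F ⟶ G} (h : RepWith (MorphismProperty.isomorphisms Scheme.{u}) f) : IsIso f := by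
  apply K613.Basic.isIso_of_bijective
  intro T y
  have sq := h.rep.isPullback y
  have h1 : IsIso (h.rep.snd y).left := h.property_snd y
  have h2 : IsIso (h.rep.snd y) := by
    have : IsIso ((Over.forget S).map (h.rep.snd y)) := h1
    exact isIso_of_reflects_iso (h.rep.snd y) (Over.forget S)
  refine ⟨inv ((yon S).map (h.rep.snd y)) ≫ h.rep.fst y, ?_, fun x hx => ?_⟩
  · dsimp only
    rw [Category.assoc, sq.w, IsIso.inv_hom_id_assoc]
  · rw [IsIso.eq_inv_comp]
    have h3 : x = sq.lift x (𝟙 _) (by rw [hx, Category.id_comp]) ≫ h.rep.fst y := (sq.lift_fst _ _ _).symm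
    have h4 : (yon S).map (h.rep.snd y) ≫ sq.lift x (𝟙 _) (by rw [hx, Category.id_comp]) = 𝟙 _ := by
      rw [← cancel_mono ((yon S).map (h.rep.snd y)), Category.assoc, sq.lift_snd, Category.comp_id, Category.id_comp]
    conv_lhs => rw [h3]
    rw [← Category.assoc, h4, Category.id_comp]

theorem isomorphisms_le_qAff : MorphismProperty.isomorphisms Scheme.{u} ≤ QAff := fun X Y f (hf : IsIso f) =>
  K628.Props.isAffineHom_le _ _ f (inferInstanceAs (IsAffineHom f))

theorem isIso_of_qCov {ι : Type u} {Yi : ι → Sp S} {g : ∀ i, Yi i ⟶ Y} (hg : QCov Yi g)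
    (hX : IsAlgSpace X) (hY : IsAlgSpace Y) (f : X ⟶ Y)
    {Xi : ι → Sp S} {p : ∀ i, Xi i ⟶ Yi i} {q : ∀ i, Xi i ⟶ X} (sq : ∀ i, IsPullback (q i) (p i) f (g i))
    (hp : ∀ i, IsIso (p i)) : IsIso f :=
  isIso_of_repWith (repWith_of_qAff hg hX hY f sq _ isomorphisms_le_qAff fun i =>
    K598.RepKit.repWith_of_isIso (p i))

/-- If the base change of `a` to `Q` is an isomorphism, so is its base change along any map which factors
through `Q`. -/
theorem isIso_snd {X₁ X₂ Q Q₁ W P : Sp S} {a : X₁ ⟶ X₂} {q : Q ⟶ X₂} {b : Q₁ ⟶ X₁} {a' : Q₁ ⟶ Q}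
    (h : IsPullback b a' a q) [IsIso a'] {g : W ⟶ X₂} {g' : W ⟶ Q} (hg : g' ≫ q = g) {fst : P ⟶ X₁} {snd : P ⟶ W}
    (sq : IsPullback fst snd a g) : IsIso snd := by
  have hw : fst ≫ a = (snd ≫ g') ≫ q := by rw [sq.w, Category.assoc, hg]
  have h1 : IsPullback (h.lift fst (snd ≫ g') hw) snd a' g' := by
    refine IsPullback.of_right (h₁₂ := b) (v₁₃ := a) (h₂₂ := q) ?_ (h.lift_snd _ _ _) h
    rw [h.lift_fst, hg]
    exact sq
  exact (MorphismProperty.isomorphisms (Sp S)).of_isPullback h1 (inferInstanceAs (IsIso a'))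

end K640.FpqcIso
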