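import Mathlib

/-!
# The complement of a finitely presented closed subscheme of an affine scheme is quasi-compact
-/

set_option autoImplicit false
universe u
open CategoryTheory CategoryTheory.Limits AlgebraicGeometry

namespace K640.FpClosed

theorem isCompact_compl_range_spec {R : CommRingCat.{u}} {Z : Scheme.{u}} (i : Z ⟶ Spec R) [IsClosedImmersion i]
    [LocallyOfFinitePresentation i] : IsCompact (Set.range i)ᶜ := by
  obtain ⟨I, e, rfl⟩ := IsClosedImmersion.Spec_iff.1 (inferInstance : IsClosedImmersion i)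
  have h1 : LocallyOfFinitePresentation (Spec.map (CommRingCat.ofHom (Ideal.Quotient.mk I))) := by
    have h2 : LocallyOfFinitePresentation
      (e.inv ≫ (e.hom ≫ Spec.map (CommRingCat.ofHom (Ideal.Quotient.mk I)))) := inferInstance
    rwa [Iso.inv_hom_id_assoc] at h2
  rw [HasRingHomProperty.Spec_iff (P := @LocallyOfFinitePresentation)] at h1
  have h3 : I.FG := by
    have h4 : (RingHom.ker (Ideal.Quotient.mk I)).FG := by
      algebraize [Ideal.Quotient.mk I]
      have h5 : Algebra.FinitePresentation R (R ⧸ I) := h1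
      exact Algebra.FinitePresentation.ker_fG_of_surjective (Algebra.ofId R (R ⧸ I)) Ideal.Quotient.mk_surjective
    rwa [Ideal.mk_ker] at h4
  have h6 : Set.range (e.hom ≫ Spec.map (CommRingCat.ofHom (Ideal.Quotient.mk I))) = PrimeSpectrum.zeroLocus (I : Set R) := by
    rw [Scheme.Hom.comp_base, TopCat.coe_comp, Set.range_comp, Set.range_eq_univ.2 e.hom.surjective, Set.image_univ]
    have h7 := range_comap_of_surjective _ (Ideal.Quotient.mk I) Ideal.Quotient.mk_surjective
    rw [Ideal.mk_ker] at h7
    exact h7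
  rw [h6]
  exact (PrimeSpectrum.isCompact_isOpen_iff_ideal.2 ⟨I, h3, rfl⟩).1

theorem isCompact_compl_range {T Z : Scheme.{u}} [IsAffine T] (i : Z ⟶ T) [IsClosedImmersion i]
    [LocallyOfFinitePresentation i] : IsCompact (Set.range i)ᶜ := by
  have h := isCompact_compl_range_spec (i ≫ T.isoSpec.hom)
  have e : (Set.range i)ᶜ = T.isoSpec.inv '' (Set.range (i ≫ T.isoSpec.hom))ᶜ := by
    ext x
    constructor
    · intro hx
      refine ⟨T.isoSpec.hom x, ?_, by simp⟩
      rintro ⟨z, hz⟩
      apply hx
      refine ⟨z, T.isoSpec.hom.injective ?_⟩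
      simpa using hz
    · rintro ⟨y, hy, rfl⟩ ⟨z, hz⟩
      apply hy
      exact ⟨z, by simp [hz]⟩
  rw [e]
  exact h.image T.isoSpec.inv.continuous

end K640.FpClosed
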