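import Groth.Agent.AlgSp.K640.LocOne
import Groth.Agent.AlgSp.K640.FpClosed
import Groth.Agent.AlgSp.K642.Charts
import Groth.Agent.AlgSp.K609.QC
import Groth.Agent.AlgSp.K610.OpenImm
import Groth.Agent.AlgSp.K610.Factor
import Groth.Agent.AlgSp.K616.Refine
import Groth.Agent.AlgSp.K619.LocPComp
import Groth.Agent.AlgSp.K626.Cov
import Groth.Agent.AlgSp.K597.LocP
import Groth.Prelude.Def_AlgSpMor5
import Groth.Agent.Sga3C.FlatPt

/-!
# Refining `{U ⟶ X, Y ⟶ X}` by an fpqc covering
-/

set_option autoImplicit false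
set_option backward.isDefEq.respectTransparency.types false
universe u
open CategoryTheory CategoryTheory.Limits AlgebraicGeometry
open AlgSp

namespace K640.FpqcRef

variable {S : Scheme.{u}}

/-- affine étale charts of the base change of a quasi-compact morphism to an affine étale chart -/
theorem exists_chart {X Y : Sp S} (f : Y ⟶ X) (hqc : IsQuasiCompactMor f) {T : Over S} [IsAffine T.left]
    (m : (yon S).obj T ⟶ X) (hm : RepWith @Etale m) :
    ∃ (B : CommRingCat.{u}) (v : Spec B ⟶ S) (b : (yon S).obj (Over.mk v) ⟶ Y) (h : Over.mk v ⟶ T),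
      RepWith @Etale b ∧ b ≫ f = (yon S).map h ≫ m ∧
      ∀ (t : ↥T.left) (y : Points Y), Points.map f y = Points.ofPt m t →
        ∃ p : ↥(Spec B), h.left p = t ∧ Points.ofPt b p = y := by
  have hT : IsQuasiCompactSp ((yon S).obj T) :=
    ⟨T, 𝟙 _, repWith_id _ _, repWith_id _ _, inferInstance⟩
  obtain ⟨V, p, hV, hp, hs⟩ := K609.QC.exists_affine_chart
    (hqc (IsAlgSpace.yon_obj T) hT m _ _ (IsPullback.of_hasPullback f m))
  let e : Over.mk (V.left.isoSpec.inv ≫ V.hom) ⟶ V := Over.homMk V.left.isoSpec.inv rfl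
  have he : Etale e.left := inferInstanceAs (Etale V.left.isoSpec.inv)
  have hes : Surjective e.left := inferInstanceAs (Surjective V.left.isoSpec.inv)
  obtain ⟨h, hh⟩ := (yon S).map_surjective ((yon S).map e ≫ p ≫ pullback.snd f m)
  refine ⟨Γ(V.left, ⊤), V.left.isoSpec.inv ≫ V.hom, (yon S).map e ≫ p ≫ pullback.fst f m, h, ?_, ?_, ?_⟩
  · have h1 : RepWith @Etale (pullback.fst f m) :=
      MorphismProperty.of_isPullback (P := RepWith @Etale) (IsPullback.of_hasPullback f m).flip hm
    exact MorphismProperty.comp_mem _ _ _ ((repWith_yon_map_iff @Etale e).2 he)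
      (MorphismProperty.comp_mem _ _ _ hp h1)
  · rw [hh, Category.assoc, Category.assoc, pullback.condition, Category.assoc, Category.assoc]
  · intro t y hty
    obtain ⟨x, hx1, hx2⟩ := K616.Refine.exists_point_of_isPullback (IsPullback.of_hasPullback f m) y
      (Points.ofScheme T t) (by rw [hty, Points.ofPt_eq_map_ofScheme])
    obtain ⟨v, hv⟩ := K616.Refine.ofPt_surjective p hs x
    obtain ⟨v', rfl⟩ := hes.surj v
    refine ⟨v', ?_, ?_⟩
    · have h1 : Points.ofPt ((yon S).map h) v' = Points.ofScheme T t := by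
        rw [hh, K616.Refine.ofPt_comp, ← hx2, ← hv, Points.map_ofPt]
      have h2 := congrArg (Points.toScheme T) h1
      rwa [Points.toScheme_ofPt, Points.toScheme_ofScheme] at h2
    · rw [← hx1, ← hv, Points.map_ofPt]
      exact K616.Refine.ofPt_comp e (p ≫ pullback.fst f m) v'

/-- A quasi-compact open `O` of an affine scheme over `S` is the image of an étale morphism from an affine scheme. -/
theorem exists_affine_cover_open {N : Over S} (O : N.left.Opens) (hO : IsCompact (O : Set N.left)) :
    ∃ (W : Over S) (c : W ⟶ N), IsAffine W.left ∧ Etale c.left ∧ Set.range c.left = O := by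
  have : CompactSpace ↥(O : Scheme.{u}) := isCompact_iff_compactSpace.1 hO
  have : IsZariskiLocalAtSource @Etale.{u} :=
    HasRingHomProperty.instIsZariskiLocalAtSource (Q := RingHom.Etale)
  obtain ⟨Y, q, hq1, hq2, hq3⟩ := Scheme.exists_hom_isAffine_of_isZariskiLocalAtSource @Etale (O : Scheme.{u})
  refine ⟨Over.mk ((q ≫ O.ι) ≫ N.hom), Over.homMk (q ≫ O.ι) rfl, hq3, ?_, ?_⟩
  · exact inferInstanceAs (Etale (q ≫ O.ι))
  · change Set.range (q ≫ O.ι) = _
    rw [Scheme.Hom.comp_base, TopCat.coe_comp, Set.range_comp, Set.range_eq_univ.2 hq1.surj, Set.image_univ,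
      Scheme.Opens.range_ι]

theorem exists_refinement {X Y Z FZ U : Space S} (f : Y ⟶ X)
    (hqc : IsQuasiCompactMor f.hom) (i : Z ⟶ X)
    (hi : RepWith @IsClosedImmersion i.hom) (hifp : LocP @LocallyOfFinitePresentation i.hom)
    (iY : FZ ⟶ Y) (fZ : FZ ⟶ Z) (hFZ : IsPullback iY.hom fZ.hom f.hom i.hom) [IsIso fZ]
    (hflat : ∀ y ∈ Set.range (Points.map iY.hom), IsFlatAtMor f.hom y) (j : U ⟶ X)
    (hj : RepWith @IsOpenImmersion j.hom)
    (hU : Set.range (Points.map j.hom) = (Set.range (Points.map i.hom))ᶜ) :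
    ∃ (ι : Type u) (W : ι → Space S) (w : ∀ k, W k ⟶ X),
      IsFpqcCover (fun k => (W k).obj) (fun k => (w k).hom) ∧
        ∀ k, (∃ l : W k ⟶ U, l ≫ j = w k) ∨ (∃ l : W k ⟶ Y, l ≫ f = w k) := by
  obtain ⟨ι, T, m, hTa, hme, hms⟩ := K642.Charts.exists_affine_charts X.obj X.property
  choose B v b h hb hw hsurj using fun k : ι => exists_chart f.hom hqc (m k) (hme k)
  -- the closed subset of the charts over `Z`
  have hclosed : IsClosed (Set.range (Points.map i.hom)) := by
    rw [← isOpen_compl_iff, ← hU]
    exact (K610.OpenImm.isOpenEmbedding_points X.property hj).isOpen_range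
  let E : ∀ k : ι, Set ↥(Spec (B k)) := fun k => (fun p => Points.ofPt (m k) ((h k).left p)) ⁻¹' (Set.range (Points.map i.hom))
  have hE : ∀ k, IsClosed (E k) := fun k =>
    hclosed.preimage ((Points.continuous_ofPt (m k)).comp (h k).left.continuous)
  have hex : ∀ k : ι, ∃ (C : CommRingCat.{u}) (c : Spec C ⟶ Spec (B k)), Flat (c ≫ (h k).left) ∧
      E k ⊆ Set.range c := fun k => by
    refine K640.LocOne.exists_loc (h k).left (hE k) fun p hp => ?_
    rw [Groth.Agent.Sga3C.FlatPt.isFlatAt_iff_stalkMap]
    obtain ⟨z, hz⟩ := hp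
    have e : Points.map f.hom (Points.ofPt (b k) p) = Points.map i.hom z := by
      rw [Points.map_ofPt, hw, hz]
      exact K616.Refine.ofPt_comp (h k) (m k) p
    obtain ⟨x, hx, -⟩ := K616.Refine.exists_point_of_isPullback hFZ _ _ e
    exact hflat (Points.ofPt (b k) p) ⟨x, hx⟩ (b k) (m k) (h k) p (hb k) (hme k) (hw k) rfl
  choose C c hcf hcE using hex
  let cc : ∀ k : ι, Over.mk (c k ≫ v k) ⟶ Over.mk (v k) := fun k => Over.homMk (c k) rfl
  let W : Option ι → Space S := fun k => k.elim U (fun k => (ofScheme S).obj (Over.mk (c k ≫ v k)))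
  let w : ∀ k, W k ⟶ X := fun k => match k with
    | none => j
    | some k => ObjectProperty.homMk ((yon S).map (cc k ≫ h k) ≫ m k)
  refine ⟨Option ι, W, w, ⟨?_, ?_⟩, ?_⟩
  · rintro (_ | k)
    · exact K597.locP_of_repWith (P := @Flat) (fun _ _ _ e f (he : Etale e) (hf : Flat f) => inferInstance)
        (K610.Base.repWith_mono (fun _ _ e (he : IsOpenImmersion e) => (inferInstance : Flat e)) hj)
    · exact K619.LocPComp.locP_flat_comp_chart (cc k ≫ h k) (hcf k) (hme k)
  · intro N hN t
    change K626.Cov.Std N (fun N' d => ∃ (k : Option ι) (l : (yon S).obj N' ⟶ (W k).obj), l ≫ (w k).hom = (yon S).map d ≫ t)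
    have h1 : K626.Cov.Std N (fun N' d => ∃ (k : ι) (l : N' ⟶ T k), (yon S).map l ≫ m k = (yon S).map d ≫ t) := by
      refine K626.Cov.Std.of_open_family (fun k => (hme k).rep.pullback t) (fun k => (hme k).rep.snd t) (fun k => ?_)
        (fun k => ?_) (fun z => ?_) (fun k V d => ?_)
      · have : Etale ((hme k).rep.snd t).left := (hme k).property_snd t
        infer_instance
      · have : Etale ((hme k).rep.snd t).left := (hme k).property_snd t
        exact ((hme k).rep.snd t).left.isOpenMap
      · obtain ⟨k, p, hp⟩ := hms (Points.ofPt t z)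
        refine ⟨k, ?_⟩
        obtain ⟨fst, hfst⟩ := (yon S).map_surjective ((hme k).rep.fst t)
        have sq := (hme k).rep.isPullback t
        rw [← hfst] at sq
        obtain ⟨x, -, hx⟩ := K616.Refine.exists_pt_of_isPullback sq p z hp
        exact ⟨x, hx⟩
      · obtain ⟨fst, hfst⟩ := (yon S).map_surjective ((hme k).rep.fst t)
        have sq := (hme k).rep.isPullback t
        rw [← hfst] at sq
        refine ⟨k, d ≫ fst, ?_⟩
        rw [Functor.map_comp, Category.assoc, sq.w, ← Category.assoc, ← Functor.map_comp]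
    refine h1.bind fun N' d hN' ⟨k, l, hl⟩ => ?_
    -- the closed subset `D` of `T k`
    let ik : (hi.rep.pullback (m k)).left ⟶ (T k).left := (hi.rep.snd (m k)).left
    have hik : IsClosedImmersion ik := hi.property_snd (m k)
    have hikfp : LocallyOfFinitePresentation ik := by
      have h2 : RepWith @Etale (hi.rep.fst (m k)) :=
        MorphismProperty.of_isPullback (P := RepWith @Etale) (hi.rep.isPullback (m k)).flip (hme k)
      exact hifp _ _ _ h2 (hme k) (hi.rep.isPullback (m k)).w
    have hD : ∀ x : ↥(T k).left, x ∈ Set.range ik ↔ Points.ofPt (m k) x ∈ Set.range (Points.map i.hom) := by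
      intro x
      constructor
      · rintro ⟨y, rfl⟩
        refine ⟨Points.ofPt (hi.rep.fst (m k)) y, ?_⟩
        rw [Points.map_ofPt, (hi.rep.isPullback (m k)).w]
        exact K616.Refine.ofPt_comp _ _ _
      · rintro ⟨z, hz⟩
        obtain ⟨x', -, hx'⟩ := K610.Base.exists_of_isPullback_yon (hi.rep.isPullback (m k)) z x hz
        exact ⟨x', hx'⟩
    -- its preimage in `N'`
    let iN := pullback.snd ik l.left
    have hc : IsCompact (Set.range iN)ᶜ := K640.FpClosed.isCompact_compl_range iN
    have hiN : Set.range iN = l.left ⁻¹' (Set.range ik) := Scheme.Pullback.range_snd _ _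
    have hOo : IsOpen (Set.range iN)ᶜ := (iN.isClosedEmbedding.isClosed_range).isOpen_compl
    obtain ⟨V, e, hV, he, hVr⟩ := exists_affine_cover_open (N := N') ⟨_, hOo⟩ hc
    let W' : Over S := Over.mk (pullback.snd (c k ≫ (h k).left) l.left ≫ N'.hom)
    let e' : W' ⟶ N' := Over.homMk (pullback.snd (c k ≫ (h k).left) l.left) rfl
    have hTk := hTa k
    refine K626.Cov.Std.of_finite (κ := Bool) (fun b => bif b then V else W')
      (fun b => match b with | true => e | false => e') ?_ ?_ ?_ ?_
    · rintro (_ | _)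
      · exact inferInstanceAs (IsAffine (pullback (c k ≫ (h k).left) l.left))
      · exact hV
    · rintro (_ | _)
      · have := hcf k
        exact inferInstanceAs (Flat (pullback.snd (c k ≫ (h k).left) l.left))
      · exact (inferInstance : Flat e.left)
    · intro n
      by_cases hn : l.left n ∈ Set.range ik
      · refine ⟨false, ?_⟩
        obtain ⟨z, hz⟩ := (hD _).1 hn
        obtain ⟨z', hz'⟩ : ∃ z', Points.map fZ.hom z' = z := by
          refine ⟨Points.map (inv fZ).hom z, ?_⟩
          rw [← Points.map_comp]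
          have : (inv fZ).hom ≫ fZ.hom = 𝟙 _ := congrArg (fun a => a.hom) (IsIso.inv_hom_id fZ)
          rw [this, Points.map_id]
        obtain ⟨p, hp, hp'⟩ := hsurj k (l.left n) (Points.map iY.hom z') (by
          rw [← Points.map_comp, hFZ.w, Points.map_comp, hz', hz])
        have hpE : p ∈ E k := by
          change Points.ofPt (m k) ((h k).left p) ∈ Set.range (Points.map i.hom)
          rw [hp]
          exact ⟨z, hz⟩
        obtain ⟨q, hq⟩ := hcE k hpE
        obtain ⟨x, hx1, hx2⟩ := Scheme.Pullback.exists_preimage_pullback (f := c k ≫ (h k).left) (g := l.left) q n (by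
          rw [← hp, ← hq]; rfl)
        exact ⟨x, hx2⟩
      · refine ⟨true, ?_⟩
        change n ∈ Set.range e.left
        rw [hVr]
        change n ∈ (Set.range iN)ᶜ
        rw [hiN]
        exact hn
    · rintro (_ | _)
      · let a : W' ⟶ Over.mk (c k ≫ v k) := Over.homMk (pullback.fst (c k ≫ (h k).left) l.left) (by
          have h3 : (h k).left ≫ (T k).hom = v k := Over.w (h k)
          have h4 : l.left ≫ (T k).hom = N'.hom := Over.w l
          have h5 : pullback.fst (c k ≫ (h k).left) l.left ≫ c k ≫ (h k).left ≫ (T k).hom =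
              pullback.snd (c k ≫ (h k).left) l.left ≫ N'.hom := by
            rw [← h4, ← pullback.condition_assoc, Category.assoc]
          rw [h3] at h5
          exact h5)
        refine ⟨some k, (yon S).map a, ?_⟩
        change (yon S).map a ≫ (yon S).map (cc k ≫ h k) ≫ m k = (yon S).map (e' ≫ d) ≫ t
        have h5 : a ≫ cc k ≫ h k = e' ≫ l := by
          ext
          exact pullback.condition
        rw [← Functor.map_comp_assoc, h5, Functor.map_comp, Functor.map_comp, Category.assoc, Category.assoc, hl]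
      · have h6 : Set.range (Points.ofPt ((yon S).map e ≫ (yon S).map l ≫ m k)) ⊆ Set.range (Points.map j.hom) := by
          rintro _ ⟨x, rfl⟩
          rw [hU, K616.Refine.ofPt_comp, K616.Refine.ofPt_comp]
          intro h7
          have h8 : e.left x ∈ Set.range e.left := ⟨x, rfl⟩
          rw [hVr] at h8
          apply h8
          rw [hiN]
          exact (hD _).2 h7
        obtain ⟨g, hg⟩ := K610.Factor.exists_lift_open hj _ h6
        refine ⟨none, g, ?_⟩
        change g ≫ j.hom = (yon S).map (e ≫ d) ≫ t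
        rw [hg, Functor.map_comp, Category.assoc, hl]
  · rintro (_ | k)
    · exact Or.inl ⟨𝟙 _, Category.id_comp _⟩
    · refine Or.inr ⟨ObjectProperty.homMk ((yon S).map (cc k) ≫ b k), ?_⟩
      ext1
      change ((yon S).map (cc k) ≫ b k) ≫ f.hom = (yon S).map (cc k ≫ h k) ≫ m k
      rw [Category.assoc, hw, Functor.map_comp, Category.assoc]

end K640.FpqcRef
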