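import Groth.Agent.AlgSp.K613.Cover
import Groth.Agent.AlgSp.K610.Base

/-!
Étale surjective morphisms of algebraic spaces are étale locally surjective.
-/

set_option autoImplicit false
universe u
open CategoryTheory CategoryTheory.Limits AlgebraicGeometry Opposite
open AlgSp K613.Basic K613.Cover

namespace K640.Base

variable {S : Scheme.{u}} {F G H P : Sp S}

/-- An étale map from an algebraic space which is surjective on points is étale locally surjective. -/
theorem eSurj_of_isEtaleMor {f : F ⟶ G} (hF : IsAlgSpace F) (he : IsEtaleMor f)
    (hs : IsSurjectiveMor f) : ESurj f := by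
  obtain ⟨U, p, hp, hps⟩ := hF.atlas
  have h1 : RepWith @Etale (p ≫ f) := he p hp
  have h2 : RepWith @Surjective (p ≫ f) := by
    rw [K610.Base.repWith_surjective_iff h1.1]
    have h3 := K610.Base.surjective_points_of_repWith hps
    intro y
    obtain ⟨x, rfl⟩ := hs y
    obtain ⟨z, rfl⟩ := h3 x
    exact ⟨z, Points.map_comp _ _ _⟩
  exact (ESurj.of_repWith h1 h2).of_comp

end K640.Base
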