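import Groth.Agent.AlgSp.K640.CoeqFun

/-!
# The quotient of a proper space by its own fibre square: universal property
-/

set_option autoImplicit false
universe u v
open CategoryTheory CategoryTheory.Limits AlgebraicGeometry Opposite AlgSp

namespace K640.CoeqDesc

open K640.QNorm K615.UN K615.Aff K640.ImgNorm K640.CoeqProps K640.CoeqFun

variable {S : Scheme.{u}} {X Y X' E : Sp S} {g : Y ⟶ X} {π : Y ⟶ X'} {c : X' ⟶ X}

/-- Good charts cover the étale charts of `X'`. -/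
theorem exists_good_cover (h : CData g π c) (hX : IsAlgSpace X) (hqc : IsQuasiCompactMor g) {T : Over S}
    (b : (yon S).obj T ⟶ X') (hb : RepWith @Etale b) (t : T.left) :
    ∃ (T' : Over S) (e : T' ⟶ T), Etale e.left ∧ t ∈ Set.range e.left ∧ Good π ((yon S).map e ≫ b) := by
  obtain ⟨ch, u, hu⟩ := K615.Desc.points_of_charts hX (Points.map c (Points.ofPt b t))
  obtain ⟨u0, rfl⟩ := (Points.schemeEquiv ch.U).surjective u
  have hu' : Points.map c (Points.ofPt b t) = Points.ofPt ch.a u0 := by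
    rw [← hu, Points.ofPt_eq_map_ofScheme ch.a]; rfl
  obtain ⟨N, νU, m, sqN, hm⟩ := exists_good h hqc ch
  obtain ⟨n0, hn1, -⟩ := K610.Base.exists_of_isPullback_yon sqN _ u0 hu'
  obtain ⟨P, p2, fst, sqP⟩ := hb.1 m
  obtain ⟨p1, rfl⟩ := (yon S).map_surjective fst
  have h1 : Etale p1.left := hm.etale.2 b ((yon S).map p2) p1 sqP.flip
  have h2 : Etale p2.left := hb.2 m _ p2 sqP
  obtain ⟨p, hp1, hp2⟩ := K610.Base.exists_of_isPullback_charts sqP t n0 hn1.symm
  obtain ⟨_, ⟨W, hW, rfl⟩, hpW, -⟩ := P.left.isBasis_affineOpens.exists_subset_of_mem_open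
    (Set.mem_univ p) isOpen_univ
  refine ⟨K615.Cov.opn P W, K615.Cov.opnι P W ≫ p1, ?_, ?_, ?_⟩
  · rw [Over.comp_left]; infer_instance
  · exact ⟨⟨p, hpW⟩, hp1⟩
  · have e1 : (yon S).map (K615.Cov.opnι P W ≫ p1) ≫ b = (yon S).map (K615.Cov.opnι P W ≫ p2) ≫ m := by
      rw [(yon S).map_comp, (yon S).map_comp, Category.assoc, Category.assoc, sqP.w]
    rw [e1]
    exact hm.of_etale _ (by rw [Over.comp_left]; infer_instance) hW

/-- Maps from an étale chart to an algebraic space are determined on the base change of `Y`. -/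
theorem uniq_etale (h : CData g π c) (hX : IsAlgSpace X) (hqc : IsQuasiCompactMor g) (huc : IsUnivClosedMor π)
    (hs : Function.Surjective (Points.map π)) {T : Over S}
    (b : (yon S).obj T ⟶ X') (hb : RepWith @Etale b) {Y' : Sp S} {y' : Y' ⟶ Y} {g' : Y' ⟶ (yon S).obj T}
    (sq : IsPullback y' g' π b) (hE : IsAlgSpace E) (m1 m2 : (yon S).obj T ⟶ E) (hm : g' ≫ m1 = g' ≫ m2) :
    m1 = m2 := by
  let R : Sieve T :=
    { arrows := fun T' k => (yon S).map k ≫ m1 = (yon S).map k ≫ m2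
      downward_closed := by
        intro T' T'' k hk l
        rw [(yon S).map_comp, Category.assoc, hk, Category.assoc] }
  refine K615.Pt.pt_ext R (K615.Cov.sieve_mem R fun t => ?_) m1 m2 fun T' k hk => hk
  obtain ⟨T', e, he, ht, hG⟩ := exists_good_cover h hX hqc b hb t
  refine ⟨T', e, ?_, inferInstance, inferInstance, ht⟩
  have sq1 := IsPullback.of_hasPullback π ((yon S).map e ≫ b)
  refine hG.uniq huc hs sq1 hE _ _ ?_
  have h1 : sq.lift (pullback.fst π ((yon S).map e ≫ b)) (pullback.snd π ((yon S).map e ≫ b) ≫ (yon S).map e)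
      (by rw [Category.assoc, sq1.w]) ≫ g' = pullback.snd π ((yon S).map e ≫ b) ≫ (yon S).map e :=
    sq.lift_snd _ _ _
  rw [← Category.assoc, ← h1, Category.assoc, hm, ← Category.assoc, h1, Category.assoc]

theorem hom_ext (h : CData g π c) (hX : IsAlgSpace X) (hX' : IsAlgSpace X') (hqc : IsQuasiCompactMor g)
    (huc : IsUnivClosedMor π) (hs : Function.Surjective (Points.map π)) (hE : IsAlgSpace E) (ψ1 ψ2 : X' ⟶ E)
    (hm : π ≫ ψ1 = π ≫ ψ2) : ψ1 = ψ2 := by
  obtain ⟨U, p, hp1, hp2⟩ := hX'.atlas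
  refine ext_of_chart hp1 hp2 ?_
  have sq := IsPullback.of_hasPullback π p
  refine uniq_etale h hX hqc huc hs p hp1 sq hE _ _ ?_
  rw [← Category.assoc, ← Category.assoc, ← sq.w, Category.assoc, Category.assoc, hm]

/-- étale descent along `π` for the base changes of charts along `φ`. -/
def EffDesc (π : Y ⟶ X') (φ : Y ⟶ E) : Prop :=
  ∀ (W : Over S) (a : (yon S).obj W ⟶ E), RepWith @Etale a →
    ∃ (V : Sp S) (v : V ⟶ X') (h : pullback φ a ⟶ V), IsAlgSpace V ∧ IsEtaleMor v ∧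
      IsPullback h (pullback.fst φ a) v π ∧
      ∀ (Z : Sp S) (x1 x2 : Z ⟶ pullback φ a), x1 ≫ h = x2 ≫ h → x1 ≫ pullback.snd φ a = x2 ≫ pullback.snd φ a

/-- a chart of `X'` with a map to `E` extending `φ`. -/
structure LocExt (π : Y ⟶ X') (φ : Y ⟶ E) where
  T : Over S
  b : (yon S).obj T ⟶ X'
  etale : RepWith @Etale b
  ψ : (yon S).obj T ⟶ E
  ext : ∀ (Z : Sp S) (z : Z ⟶ Y) (z' : Z ⟶ (yon S).obj T), z ≫ π = z' ≫ b → z' ≫ ψ = z ≫ φ

theorem exists_locExt (h : CData g π c) (hX : IsAlgSpace X) (hqc : IsQuasiCompactMor g) (huc : IsUnivClosedMor π)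
    (hs : Function.Surjective (Points.map π)) (hE : IsAlgSpace E) (φ : Y ⟶ E) (hD : EffDesc π φ) (x : Points X') :
    ∃ L : LocExt π φ, x ∈ Set.range (Points.map L.b) := by
  obtain ⟨y, rfl⟩ := hs x
  obtain ⟨ch, w, hw⟩ := K615.Desc.points_of_charts hE (Points.map φ y)
  obtain ⟨V, v, η, hV, hv, sqV, hinv⟩ := hD ch.U ch.a ch.etale
  obtain ⟨u, hu1, hu2⟩ := K610.Base.exists_of_isPullback (IsPullback.of_hasPullback φ ch.a) y w hw.symm
  obtain ⟨cv, t, ht⟩ := K615.Desc.points_of_charts hV (Points.map η u)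
  obtain ⟨t0, rfl⟩ := (Points.schemeEquiv cv.U).surjective t
  have ht' : Points.ofPt cv.a t0 = Points.map η u := by
    rw [← ht, Points.ofPt_eq_map_ofScheme]; rfl
  obtain ⟨T', e, he, ⟨t', ht0⟩, hG⟩ := exists_good_cover h hX hqc (cv.a ≫ v) (hv cv.a cv.etale) t0
  have sq := IsPullback.of_hasPullback π ((yon S).map e ≫ cv.a ≫ v)
  -- the map `Y' ⟶ U`
  obtain ⟨k, hk1, hk2⟩ : ∃ k : pullback π ((yon S).map e ≫ cv.a ≫ v) ⟶ pullback φ ch.a,
      k ≫ η = pullback.snd _ _ ≫ (yon S).map e ≫ cv.a ∧ k ≫ pullback.fst φ ch.a = pullback.fst _ _ :=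
    ⟨sqV.lift (pullback.snd _ _ ≫ (yon S).map e ≫ cv.a) (pullback.fst _ _) (by
      rw [sq.w]; simp only [Category.assoc]), sqV.lift_fst _ _ _, sqV.lift_snd _ _ _⟩
  obtain ⟨l, hl⟩ := hG.fn huc hs sq ch.affine (k ≫ pullback.snd φ ch.a) (by
    intro R x x' hx
    have := hinv _ (x ≫ k) (x' ≫ k) (by
      rw [Category.assoc, hk1, ← Category.assoc, hx, Category.assoc, Category.assoc, hk1])
    simpa only [Category.assoc] using this)
  refine ⟨⟨T', (yon S).map e ≫ cv.a ≫ v, hG.etale, (yon S).map l ≫ ch.a, ?_⟩, ?_⟩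
  · intro Z z z' hz
    have e1 : sq.lift z z' hz ≫ pullback.snd _ _ = z' := sq.lift_snd _ _ _
    have e2 : sq.lift z z' hz ≫ pullback.fst _ _ = z := sq.lift_fst _ _ _
    calc z' ≫ (yon S).map l ≫ ch.a = sq.lift z z' hz ≫ (pullback.snd _ _ ≫ (yon S).map l) ≫ ch.a := by
          rw [Category.assoc, ← Category.assoc (sq.lift z z' hz), e1]
      _ = (sq.lift z z' hz ≫ k) ≫ pullback.snd φ ch.a ≫ ch.a := by
          rw [hl]; simp only [Category.assoc]
      _ = (sq.lift z z' hz ≫ (k ≫ pullback.fst φ ch.a)) ≫ φ := by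
          rw [← pullback.condition]; simp only [Category.assoc]
      _ = z ≫ φ := by rw [hk2, e2]
  · refine ⟨Points.ofPt (𝟙 _) t', ?_⟩
    rw [Points.map_ofPt, Category.id_comp]
    change Points.ofPt ((yon S).map e ≫ cv.a ≫ v) t' = _
    rw [K610.Base.ofPt_map_comp, ht0, K610.Base.ofPt_comp, ht', ← Points.map_comp, sqV.w, Points.map_comp, hu1]

/-- Existence part of the universal property of `π`. -/
theorem exists_desc (h : CData g π c) (hX : IsAlgSpace X) (hqc : IsQuasiCompactMor g) (huc : IsUnivClosedMor π)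
    (hs : Function.Surjective (Points.map π)) (hE : IsAlgSpace E) (φ : Y ⟶ E) (hD : EffDesc π φ) :
    ∃ ψ : X' ⟶ E, π ≫ ψ = φ := by
  have hJ : K615.Pt.JSurj (fun L : LocExt π φ => (yon S).obj L.T) (fun L => L.b) :=
    K615.Desc.jsurj_of_points (fun L => L.etale) (fun x => exists_locExt h hX hqc huc hs hE φ hD x)
  obtain ⟨ψ, hψ⟩ := hJ.exists_desc (fun L => L.ψ) (by
    intro Z L1 L2 y1 y2 hy
    obtain ⟨P, p2, fst, sqP⟩ := L1.etale.1 L2.b
    obtain ⟨p1, rfl⟩ := (yon S).map_surjective fst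
    have h2 : Etale p1.left := L2.etale.2 L1.b ((yon S).map p2) p1 sqP.flip
    have key : (yon S).map p1 ≫ L1.ψ = (yon S).map p2 ≫ L2.ψ := by
      have sq := IsPullback.of_hasPullback π ((yon S).map p1 ≫ L1.b)
      refine uniq_etale h hX hqc huc hs ((yon S).map p1 ≫ L1.b) (K615.Cov.repWith_etale_comp p1 L1.b L1.etale)
        sq hE _ _ ?_
      have e1 := L1.ext _ (pullback.fst _ _) (pullback.snd π ((yon S).map p1 ≫ L1.b) ≫ (yon S).map p1) (by
        rw [Category.assoc, sq.w])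
      have e2 := L2.ext _ (pullback.fst _ _) (pullback.snd π ((yon S).map p1 ≫ L1.b) ≫ (yon S).map p2) (by
        rw [Category.assoc, ← sqP.w, sq.w])
      rw [← Category.assoc, e1, ← e2, Category.assoc]
    have e3 : sqP.lift y1 y2 hy ≫ (yon S).map p1 = y1 := sqP.lift_fst _ _ _
    have e4 : sqP.lift y1 y2 hy ≫ (yon S).map p2 = y2 := sqP.lift_snd _ _ _
    calc y1 ≫ L1.ψ = (sqP.lift y1 y2 hy ≫ (yon S).map p1) ≫ L1.ψ := by rw [e3]
      _ = (sqP.lift y1 y2 hy ≫ (yon S).map p2) ≫ L2.ψ := by rw [Category.assoc, key, Category.assoc]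
      _ = y2 ≫ L2.ψ := by rw [e4])
  refine ⟨ψ, ?_⟩
  have hJ' := hJ.of_isPullback π (fun L => pullback π L.b) (fun L => pullback.fst π L.b)
    (fun L => pullback.snd π L.b) (fun L => IsPullback.of_hasPullback π L.b)
  refine hJ'.ext fun L => ?_
  rw [← Category.assoc, pullback.condition, Category.assoc, hψ]
  exact L.ext _ _ _ pullback.condition

end K640.CoeqDesc
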