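import Groth.Agent.AlgSp.K640.CoeqDesc
import Groth.Agent.AlgSp.K608.Comp
import Groth.Agent.S12201

/-!
# The quotient of a proper space by its own fibre square: étale descent
-/

set_option autoImplicit false
universe u v
open CategoryTheory CategoryTheory.Limits AlgebraicGeometry Opposite AlgSp

namespace K640.CoeqEff

open K640.QNorm K615.UN K615.Aff K640.ImgNorm K640.CoeqProps K640.CoeqFun K640.CoeqDesc

variable {S : Scheme.{u}} {X Y X' E : Sp S} {g : Y ⟶ X} {π : Y ⟶ X'} {c : X' ⟶ X}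

theorem isEtaleMor_of_repWith {F G : Sp S} {w : F ⟶ G} (hw : RepWith @Etale w) : IsEtaleMor w :=
  fun _ _ hφ => MorphismProperty.comp_mem _ _ _ hφ hw

theorem isAlgSpace_of_isPullback {A B C P : Sp S} (hA : IsAlgSpace A) (hB : IsAlgSpace B) (hC : IsAlgSpace C)
    {f : A ⟶ C} {k : B ⟶ C} {p : P ⟶ A} {q : P ⟶ B} (sq : IsPullback p q f k) : IsAlgSpace P :=
  (K608.Comp.isAlgSpace_pullback f k hA hB hC).of_iso sq.isoPullback.symm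

theorem exists_pb {A B C : Sp S} (hA : IsAlgSpace A) (hB : IsAlgSpace B) (hC : IsAlgSpace C)
    (f : A ⟶ C) (k : B ⟶ C) : ∃ (P : Sp S) (p : P ⟶ A) (q : P ⟶ B), IsAlgSpace P ∧ IsPullback p q f k :=
  ⟨_, _, _, isAlgSpace_of_isPullback hA hB hC (IsPullback.of_hasPullback f k), IsPullback.of_hasPullback f k⟩

theorem effDesc (hY : IsAlgSpace Y) (hX' : IsAlgSpace X') (hE : IsAlgSpace E) (h : CData g π c)
    (hp : IsProperMor π) (hs : IsSurjectiveMor π) {R : Sp S} (hR : IsAlgSpace R) {t s : R ⟶ Y}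
    (sq : IsPullback t s g g) (φ : Y ⟶ E) (hφ : t ≫ φ = s ≫ φ) : EffDesc π φ := by
  intro W a ha
  have sqR := isPullback_of_cData h sq
  have hae : RepWith @Etale (pullback.fst φ a) := MorphismProperty.of_isPullback (IsPullback.of_hasPullback φ a).flip ha
  have sqU := IsPullback.of_hasPullback φ a
  have hUa : IsAlgSpace (pullback φ a) := K600.LimSpace.isAlgSpace_of_representable hae.1 hY
  obtain ⟨X₃, π₀₁, π₁₂, hX₃, sq3⟩ := exists_pb hR hR hY s t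
  obtain ⟨π₀₂, h02, h02'⟩ : ∃ π₀₂ : X₃ ⟶ R, π₀₂ ≫ t = π₀₁ ≫ t ∧ π₀₂ ≫ s = π₁₂ ≫ s :=
    ⟨sq.lift (π₀₁ ≫ t) (π₁₂ ≫ s) (by
      rw [Category.assoc, sq.w, ← Category.assoc, sq3.w, Category.assoc, sq.w, Category.assoc]),
      sq.lift_fst _ _ _, sq.lift_snd _ _ _⟩
  obtain ⟨P, p, pw, hP, sqP⟩ := exists_pb hR (IsAlgSpace.yon_obj W) hE (t ≫ φ) a
  obtain ⟨Q, q, qw, hQ, sqQ⟩ := exists_pb hX₃ (IsAlgSpace.yon_obj W) hE (π₀₁ ≫ t ≫ φ) a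
  -- pullbacks of `U` along `z : Z ⟶ Y`
  have hpb : ∀ {Z B : Sp S} {ζ : Z ⟶ E} {b : B ⟶ Z} {bw : B ⟶ (yon S).obj W} (sqZ : IsPullback b bw ζ a)
      (z : Z ⟶ Y) (hz : z ≫ φ = ζ), ∃ (k : B ⟶ pullback φ a),
      k ≫ pullback.fst φ a = b ≫ z ∧ k ≫ pullback.snd φ a = bw ∧ IsPullback k b (pullback.fst φ a) z := by
    intro Z B ζ b bw sqZ z hz
    have e : (b ≫ z) ≫ φ = bw ≫ a := by
      rw [Category.assoc, hz, sqZ.w]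
    refine ⟨sqU.lift _ _ e, sqU.lift_fst _ _ _, sqU.lift_snd _ _ _, ?_⟩
    refine IsPullback.of_right (h₁₂ := pullback.snd φ a) (h₂₂ := φ) (v₁₃ := a) ?_ (sqU.lift_fst _ _ _) sqU.flip
    rw [sqU.lift_snd, hz]
    exact sqZ.flip
  obtain ⟨a₀, ha₀, ha₀', sqa₀⟩ := hpb sqP t rfl
  obtain ⟨a₁, ha₁, ha₁', sqa₁⟩ := hpb sqP s hφ.symm
  have hφ3 : (π₀₁ ≫ s) ≫ φ = π₀₁ ≫ t ≫ φ := by rw [Category.assoc, hφ]
  have hφ3' : (π₁₂ ≫ s) ≫ φ = π₀₁ ≫ t ≫ φ := by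
    rw [Category.assoc, ← hφ, ← Category.assoc, ← sq3.w, hφ3]
  obtain ⟨c₀, hc₀, hc₀', sqc₀⟩ := hpb sqQ (π₀₁ ≫ t) (Category.assoc _ _ _)
  obtain ⟨c₁, hc₁, hc₁', sqc₁⟩ := hpb sqQ (π₀₁ ≫ s) hφ3
  obtain ⟨c₂, hc₂, hc₂', sqc₂⟩ := hpb sqQ (π₁₂ ≫ s) hφ3'
  have hpe : ∀ (z : X₃ ⟶ R) (hz : z ≫ t ≫ φ = π₀₁ ≫ t ≫ φ), ∃ (k : Q ⟶ P), k ≫ p = q ≫ z ∧ k ≫ pw = qw := by
    intro z hz
    have e : (q ≫ z) ≫ t ≫ φ = qw ≫ a := by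
      rw [Category.assoc, hz, sqQ.w]
    exact ⟨sqP.lift _ _ e, sqP.lift_fst _ _ _, sqP.lift_snd _ _ _⟩
  obtain ⟨e₀, he₀, he₀'⟩ := hpe π₀₁ rfl
  obtain ⟨e₁, he₁, he₁'⟩ := hpe π₁₂ (by rw [← Category.assoc, ← sq3.w, hφ3])
  obtain ⟨e₂, he₂, he₂'⟩ := hpe π₀₂ (by rw [← Category.assoc, h02, Category.assoc])
  -- the spaces
  let Ys : Space S := ⟨Y, hY⟩
  let X's : Space S := ⟨X', hX'⟩
  let Rs : Space S := ⟨R, hR⟩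
  let X₃s : Space S := ⟨X₃, hX₃⟩
  let Us : Space S := ⟨pullback φ a, hUa⟩
  let Ps : Space S := ⟨P, hP⟩
  let Ws : Space S := ⟨Q, hQ⟩
  have ext : ∀ {A B : Space S} {x y : A ⟶ B}, x.hom = y.hom → x = y := fun hxy => ObjectProperty.hom_ext _ hxy
  obtain ⟨V, v, η, hv, sqV, hV⟩ := Groth.Agent.S12201.result (X := Ys) (Y := X's) (X₂ := Rs) (X₃ := X₃s) (U := Us)
    (U₀ := Ps) (U₁ := Ps) (W₀ := Ws) (W₁ := Ws) (W₂ := Ws) ⟨π⟩ hp hs ⟨t⟩ ⟨s⟩ sqR ⟨π₀₁⟩ ⟨π₁₂⟩ ⟨π₀₂⟩ sq3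
    (ext h02) (ext h02') ⟨pullback.fst φ a⟩ (isEtaleMor_of_repWith hae) ⟨a₀⟩ ⟨p⟩ sqa₀
    ⟨a₁⟩ ⟨p⟩ sqa₁ (Iso.refl _) (Category.id_comp _)
    ⟨c₀⟩ ⟨q⟩ sqc₀ ⟨c₁⟩ ⟨q⟩ sqc₁ ⟨c₂⟩ ⟨q⟩ sqc₂
    ⟨e₀⟩ (ext (sqU.hom_ext (by
      change (e₀ ≫ a₀) ≫ _ = c₀ ≫ _
      rw [Category.assoc, ha₀, ← Category.assoc, he₀, hc₀, Category.assoc]) (by
      change (e₀ ≫ a₀) ≫ _ = c₀ ≫ _
      rw [Category.assoc, ha₀', he₀', hc₀']))) (ext he₀)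
    ⟨e₁⟩ (ext (sqU.hom_ext (by
      change (e₁ ≫ a₀) ≫ _ = c₁ ≫ _
      rw [Category.assoc, ha₀, ← Category.assoc, he₁, hc₁, Category.assoc, sq3.w]) (by
      change (e₁ ≫ a₀) ≫ _ = c₁ ≫ _
      rw [Category.assoc, ha₀', he₁', hc₁']))) (ext he₁)
    ⟨e₂⟩ (ext (sqU.hom_ext (by
      change (e₂ ≫ a₀) ≫ _ = c₀ ≫ _
      rw [Category.assoc, ha₀, ← Category.assoc, he₂, hc₀, Category.assoc, h02]) (by
      change (e₂ ≫ a₀) ≫ _ = c₀ ≫ _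
      rw [Category.assoc, ha₀', he₂', hc₀']))) (ext he₂)
    (𝟙 _) (Category.id_comp _) (ext (sqU.hom_ext (by
      change (𝟙 _ ≫ c₁) ≫ _ = (e₀ ≫ 𝟙 _ ≫ a₁) ≫ _
      rw [Category.id_comp, Category.id_comp, Category.assoc, ha₁, ← Category.assoc e₀, he₀, hc₁, Category.assoc]) (by
      change (𝟙 _ ≫ c₁) ≫ _ = (e₀ ≫ 𝟙 _ ≫ a₁) ≫ _
      rw [Category.id_comp, Category.id_comp, Category.assoc, ha₁', he₀', hc₁'])))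
    (𝟙 _) (Category.id_comp _) (ext (sqU.hom_ext (by
      change (𝟙 _ ≫ c₂) ≫ _ = (e₁ ≫ 𝟙 _ ≫ a₁) ≫ _
      rw [Category.id_comp, Category.id_comp, Category.assoc, ha₁, ← Category.assoc e₁, he₁, hc₂, Category.assoc]) (by
      change (𝟙 _ ≫ c₂) ≫ _ = (e₁ ≫ 𝟙 _ ≫ a₁) ≫ _
      rw [Category.id_comp, Category.id_comp, Category.assoc, ha₁', he₁', hc₂'])))
    (𝟙 _) (Category.id_comp _) (ext (sqU.hom_ext (by
      change (𝟙 _ ≫ c₂) ≫ _ = (e₂ ≫ 𝟙 _ ≫ a₁) ≫ _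
      rw [Category.id_comp, Category.id_comp, Category.assoc, ha₁, ← Category.assoc e₂, he₂, hc₂, Category.assoc,
        h02']) (by
      change (𝟙 _ ≫ c₂) ≫ _ = (e₂ ≫ 𝟙 _ ≫ a₁) ≫ _
      rw [Category.id_comp, Category.id_comp, Category.assoc, ha₁', he₂', hc₂'])))
    (Category.id_comp _)
  have hV' : a₀ ≫ η.hom = a₁ ≫ η.hom := by
    have := congrArg (fun z => z.hom) hV
    change a₀ ≫ η.hom = 𝟙 _ ≫ a₁ ≫ η.hom at this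
    rwa [Category.id_comp] at this
  refine ⟨V.obj, v.hom, η.hom, V.property, hv, sqV, ?_⟩
  intro Z x1 x2 hx
  have e1 : (x1 ≫ pullback.fst φ a) ≫ π = (x2 ≫ pullback.fst φ a) ≫ π := by
    rw [Category.assoc, Category.assoc]
    have := sqV.w
    change η.hom ≫ v.hom = pullback.fst φ a ≫ π at this
    rw [← this, ← Category.assoc, hx, Category.assoc]
  obtain ⟨r, hr1, hr2⟩ : ∃ r : Z ⟶ R, r ≫ t = x1 ≫ pullback.fst φ a ∧ r ≫ s = x2 ≫ pullback.fst φ a :=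
    ⟨sqR.lift _ _ e1, sqR.lift_fst _ _ _, sqR.lift_snd _ _ _⟩
  obtain ⟨z, hz1, hz2⟩ : ∃ z : Z ⟶ P, z ≫ a₀ = x1 ∧ z ≫ p = r :=
    ⟨sqa₀.lift x1 r hr1.symm, sqa₀.lift_fst _ _ _, sqa₀.lift_snd _ _ _⟩
  have hz3 : z ≫ a₁ = x2 := by
    apply sqV.hom_ext
    · change (z ≫ a₁) ≫ η.hom = x2 ≫ η.hom
      rw [← hx, ← hz1, Category.assoc, Category.assoc, hV']
    · change (z ≫ a₁) ≫ pullback.fst φ a = x2 ≫ pullback.fst φ a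
      rw [Category.assoc, ha₁, ← Category.assoc, hz2, hr2]
  rw [← hz1, ← hz3, Category.assoc, Category.assoc, ha₀', ha₁']

end K640.CoeqEff
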