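import Groth.Agent.AlgSp.K640.CoeqProps
import Groth.Agent.AlgSp.K617.MonicEq
import Groth.Agent.AlgSp.K598.RepKit
import Groth.Agent.AlgSp.K620.Dec

/-!
# The quotient of a proper space by its own fibre square: functions and uniqueness
-/

set_option autoImplicit false
universe u v
open CategoryTheory CategoryTheory.Limits AlgebraicGeometry Opposite AlgSp

namespace K640.CoeqFun

section scheme

/-- A closed immersion through which a morphism injective on global functions factors is an isomorphism. -/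
theorem isIso_of_factor {V T K : Scheme.{u}} [IsAffine T] (i : K ⟶ T) [IsClosedImmersion i] (k : V ⟶ K)
    (h : Function.Injective (k ≫ i).appTop) : IsIso i := by
  have h1 := (IsClosedImmersion.isAffine_surjective_of_isAffine i)
  have : IsAffine K := h1.1
  have h2 : Function.Injective i.appTop := by
    intro x y hxy
    apply h
    rw [Scheme.Hom.comp_appTop]
    exact congrArg k.appTop hxy
  have h3 : IsIso i.appTop := (ConcreteCategory.isIso_iff_bijective _).2 ⟨h2, h1.2⟩
  exact (HasAffineProperty.iff_of_isAffine (P := MorphismProperty.isomorphisms Scheme)).2 ⟨this, h3⟩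

/-- A surjective morphism to an affine scheme which is injective on global functions is an epimorphism. -/
theorem epi_of_surjective {V T : Scheme.{u}} [IsAffine T] (n : V ⟶ T) [Surjective n]
    (h : Function.Injective n.appTop) : Epi n := by
  refine ⟨fun {Z} a b hab => ?_⟩
  let i := pullback.snd (pullback.diagonal (terminal.from Z)) (pullback.lift a b (terminal.hom_ext _ _))
  let k : V ⟶ pullback (pullback.diagonal (terminal.from Z)) (pullback.lift a b (terminal.hom_ext _ _)) :=
    pullback.lift (n ≫ a) n (by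
      apply pullback.hom_ext
      · rw [Category.assoc, pullback.diagonal_fst, Category.comp_id, Category.assoc]
        exact (congrArg _ (pullback.lift_fst _ _ _)).symm
      · rw [Category.assoc, pullback.diagonal_snd, Category.comp_id, Category.assoc, hab]
        exact (congrArg _ (pullback.lift_snd _ _ _)).symm)
  have hk : k ≫ i = n := pullback.lift_snd _ _ _
  have hs : Surjective i := by
    have : Surjective (k ≫ i) := by rw [hk]; infer_instance
    exact Surjective.of_comp k i
  have hc : IsClosedImmersion i := by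
    apply IsClosedImmersion.of_isPreimmersion
    rw [hs.surj.range_eq]
    exact isClosed_univ
  have : IsIso i := isIso_of_factor i k (by rw [hk]; exact h)
  have e1 : i ≫ a = i ≫ b := by
    have h1 : i ≫ pullback.lift a b (terminal.hom_ext _ _) =
        pullback.fst (pullback.diagonal (terminal.from Z)) _ ≫ pullback.diagonal (terminal.from Z) :=
      pullback.condition.symm
    have h2 := congrArg (fun x => x ≫ pullback.fst _ _) h1
    have h3 := congrArg (fun x => x ≫ pullback.snd _ _) h1
    simp only [Category.assoc, pullback.lift_fst, pullback.lift_snd, pullback.diagonal_fst,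
      pullback.diagonal_snd, Category.comp_id] at h2 h3
    rw [h2, h3]
  rwa [cancel_epi] at e1

end scheme

open K640.QNorm K615.UN K615.Aff K640.ImgNorm K640.CoeqProps K626.GammaDom

variable {S : Scheme.{u}} {X Y X' E : Sp S} {g : Y ⟶ X} {π : Y ⟶ X'} {c : X' ⟶ X}

/-- The pull back of a function along a universally closed morphism is integral. -/
theorem isIntegralElem {F : Sp S} {T : Over S} [IsAffine T.left] (f : F ⟶ (yon S).obj T) (huc : IsUnivClosedMor f)
    {U : Over S} [IsAffine U.left] (p : (yon S).obj U ⟶ F) (hp : RepWith @Etale p) (hps : RepWith @Surjective p)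
    {q : U ⟶ T} (hq : (yon S).map q = p ≫ f) {W : Over S} (κ : F ⟶ (yon S).obj W) {k : U ⟶ W}
    (hk : (yon S).map k = p ≫ κ) (w : Γ(W.left, ⊤)) : q.left.appTop.hom.IsIntegralElem (k.left.appTop w) := by
  obtain ⟨s, hs⟩ := exists_of_compat (X := F) (fun E => ((yon S).preimage (E.obj.hom ≫ κ)).left.appTop w) (by
    intro E E' l
    have h1 : l.hom.left ≫ (yon S).preimage (E'.obj.hom ≫ κ) = (yon S).preimage (E.obj.hom ≫ κ) := by
      apply (yon S).map_injective
      rw [(yon S).map_comp, (yon S).map_preimage, (yon S).map_preimage, ← Category.assoc, EtOver.w l]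
    rw [← h1, Over.comp_left, Scheme.Hom.comp_appTop]
    rfl)
  have h2 := K617.MonicEq.isIntegralElem f huc p hp hps s hq
  have h4 : (yon S).preimage ((EtOver.mk p hp).obj.hom ≫ κ) = k := by
    apply (yon S).map_injective
    rw [(yon S).map_preimage, hk]
    rfl
  have h3 : ev (EtOver.mk p hp) s = k.left.appTop w :=
    (hs (EtOver.mk p hp)).trans (congrArg (fun z : U ⟶ W => z.left.appTop w) h4)
  rwa [h3] at h2

/-- Affine étale charts of `X'` with a good presentation of the base change of `Y`. -/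
structure Good (π : Y ⟶ X') {T : Over S} (b : (yon S).obj T ⟶ X') : Prop where
  affine : IsAffine T.left
  etale : RepWith @Etale b
  pres : ∀ (Y' : Sp S) (y' : Y' ⟶ Y) (g' : Y' ⟶ (yon S).obj T), IsPullback y' g' π b →
    ∃ (V W : Over S) (q : (yon S).obj V ⟶ Y') (n : V ⟶ T) (p1 p2 : W ⟶ V), IsAffine V.left ∧ IsAffine W.left ∧
      RepWith @Etale q ∧ RepWith @Surjective q ∧ q ≫ g' = (yon S).map n ∧ NChar n (𝟙 T) p1 p2

theorem isIntegralElem_trans {A B C : Type u} [CommRing A] [CommRing B] [CommRing C] (f : A →+* B) (g : B →+* C)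
    (hf : f.IsIntegral) (x : C) (hx : g.IsIntegralElem x) : (g.comp f).IsIntegralElem x := by
  algebraize [f, g, g.comp f]
  have : Algebra.IsIntegral A B := ⟨hf⟩
  exact isIntegral_trans (R := A) (A := B) x hx

theorem nChar_id {U V W N : Over S} {n : V ⟶ N} {ν : N ⟶ U} {p1 p2 : W ⟶ V} (h : NChar n ν p1 p2)
    (hU : IsAffine U.left) : NChar n (𝟙 N) p1 p2 := by
  refine ⟨h.affN, by rw [Over.id_left]; infer_instance, h.eq, h.inj, fun x hx hx' => ?_⟩
  have := h.affN
  apply h.surj x _ hx'
  rw [Category.comp_id] at hx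
  rw [Over.comp_left, Scheme.Hom.comp_appTop]
  have h0 := h.integral
  have h1 : ν.left.appTop.hom.IsIntegral := IsIntegralHom.isIntegral_app ν.left ⊤ (isAffineOpen_top _)
  exact isIntegralElem_trans ν.left.appTop.hom n.left.appTop.hom h1 x hx

/-- The charts coming from charts of `X`. -/
theorem exists_good (h : CData g π c) (hqc : IsQuasiCompactMor g) (ch : K615.Cov.Chart X) :
    ∃ (N : Over S) (νU : N ⟶ ch.U) (m : (yon S).obj N ⟶ X'), IsPullback m ((yon S).map νU) c ch.a ∧ Good π m := by
  have haff := ch.affine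
  have sqY := IsPullback.of_hasPullback g ch.a
  obtain ⟨V, q, hV, hq1, hq2⟩ := K609.QC.exists_affine_chart
    (hqc (IsAlgSpace.yon_obj ch.U) (K639.Dim2.isQuasiCompactSp_yon ch.U) ch.a _ _ sqY)
  obtain ⟨v, hv⟩ := (yon S).map_surjective (q ≫ pullback.snd g ch.a)
  obtain ⟨N, n, νU, m, hN, hnv, sqN, hm⟩ := h.charts ch.U ch.affine ch.a ch.etale _ _ _ sqY V hV q hq1 hq2 v hv.symm
  have hme : RepWith @Etale m := K598.RepKit.repWith_of_isPullback sqN.flip ch.etale
  have hW : IsAffine (pullback v v).left :=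
    K615.Int.isAffine_of_isPullback (IsPullback.of_hasPullback v v) hV hV ch.affine
  refine ⟨N, νU, m, sqN, hN.affN, hme, fun Y' y' g' sq => ?_⟩
  -- `Y' = Y_U`
  have sq2 : IsPullback y' (g' ≫ (yon S).map νU) g ch.a := by
    have := sq.paste_vert sqN
    rwa [h.w] at this
  obtain ⟨e, he1, he2⟩ : ∃ e : pullback g ch.a ≅ Y', e.hom ≫ y' = pullback.fst g ch.a ∧
      e.hom ≫ g' ≫ (yon S).map νU = pullback.snd g ch.a :=
    ⟨sqY.isoIsPullback _ _ sq2, sqY.isoIsPullback_hom_fst _ _ sq2, sqY.isoIsPullback_hom_snd _ _ sq2⟩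
  refine ⟨V, pullback v v, q ≫ e.hom, n, pullback.fst v v, pullback.snd v v, hV, hW, ?_, ?_, ?_,
    nChar_id hN ch.affine⟩
  · exact MorphismProperty.RespectsIso.postcomp _ _ _ hq1
  · exact MorphismProperty.RespectsIso.postcomp _ _ _ hq2
  · apply sqN.hom_ext
    · rw [← hm, Category.assoc, Category.assoc, ← sq.w, ← Category.assoc e.hom, he1]
    · rw [Category.assoc, Category.assoc, he2, ← (yon S).map_comp, hnv, ← hv]

theorem Good.of_etale {T T' : Over S} {b : (yon S).obj T ⟶ X'} (h : Good π b) (e : T' ⟶ T) (he : Etale e.left)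
    (hT' : IsAffine T'.left) : Good π ((yon S).map e ≫ b) := by
  refine ⟨hT', K615.Cov.repWith_etale_comp e b h.etale, fun Y' y' g' sq' => ?_⟩
  have hT := h.affine
  obtain ⟨YT, yT, gT, sqT⟩ : ∃ (YT : Sp S) (yT : YT ⟶ Y) (gT : YT ⟶ (yon S).obj T), IsPullback yT gT π b :=
    ⟨_, _, _, IsPullback.of_hasPullback π b⟩
  obtain ⟨V, W, q, n, p1, p2, hV, hW, hq1, hq2, hqn, hN⟩ := h.pres YT yT gT sqT
  let l : Y' ⟶ YT := sqT.lift y' (g' ≫ (yon S).map e) (by rw [sq'.w, Category.assoc])
  have hl1 : l ≫ yT = y' := sqT.lift_fst _ _ _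
  have hl2 : l ≫ gT = g' ≫ (yon S).map e := sqT.lift_snd _ _ _
  have sql : IsPullback l g' gT ((yon S).map e) := by
    refine IsPullback.of_right ?_ hl2 sqT
    rw [hl1]
    exact sq'
  have sqV := IsPullback.of_hasPullback n e
  have sqVy := K615.Int.isPullback_yon sqV
  let q' : (yon S).obj (pullback n e) ⟶ Y' := sql.lift ((yon S).map (pullback.fst n e) ≫ q)
    ((yon S).map (pullback.snd n e)) (by rw [Category.assoc, hqn, sqVy.w])
  have hq'1 : q' ≫ l = (yon S).map (pullback.fst n e) ≫ q := sql.lift_fst _ _ _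
  have hq'2 : q' ≫ g' = (yon S).map (pullback.snd n e) := sql.lift_snd _ _ _
  have sqq : IsPullback q' ((yon S).map (pullback.fst n e)) l q := by
    refine (IsPullback.of_bot (h₁₁ := (yon S).map (pullback.fst n e)) (v₁₁ := q') (v₂₁ := g') (v₁₂ := q)
      (v₂₂ := gT) (h₃₁ := (yon S).map e) (h₂₁ := l) ?_ hq'1.symm sql).flip
    rw [hq'2, hqn]
    exact sqVy
  have sqW := IsPullback.of_hasPullback (p1 ≫ n) e
  have hVa : IsAffine (pullback n e).left := K615.Int.isAffine_of_isPullback sqV hV hT' hT
  have hWa : IsAffine (pullback (p1 ≫ n) e).left := K615.Int.isAffine_of_isPullback sqW hW hT' hT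
  have w2 : p2 ≫ n = p1 ≫ n := hN.eq.symm
  let p1' : pullback (p1 ≫ n) e ⟶ pullback n e := sqV.lift (pullback.fst (p1 ≫ n) e ≫ p1)
    (pullback.snd (p1 ≫ n) e) (by rw [Category.assoc, sqW.w])
  let p2' : pullback (p1 ≫ n) e ⟶ pullback n e := sqV.lift (pullback.fst (p1 ≫ n) e ≫ p2)
    (pullback.snd (p1 ≫ n) e) (by rw [Category.assoc, w2, sqW.w])
  have h1 : p1' ≫ pullback.fst n e = pullback.fst (p1 ≫ n) e ≫ p1 := sqV.lift_fst _ _ _
  have h1' : p1' ≫ pullback.snd n e = pullback.snd (p1 ≫ n) e := sqV.lift_snd _ _ _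
  have h2 : p2' ≫ pullback.fst n e = pullback.fst (p1 ≫ n) e ≫ p2 := sqV.lift_fst _ _ _
  have h2' : p2' ≫ pullback.snd n e = pullback.snd (p1 ≫ n) e := sqV.lift_snd _ _ _
  refine ⟨pullback n e, pullback (p1 ≫ n) e, q', pullback.snd n e, p1', p2', hVa, hWa,
    K598.RepKit.repWith_of_isPullback sqq.flip hq1, K598.RepKit.repWith_of_isPullback sqq.flip hq2, hq'2, ?_⟩
  refine hN.of_isPullback hT hT' hV hW (inferInstance : Smooth e.left) (c := e) (ν' := 𝟙 T')
    (IsPullback.of_vert_isIso ⟨by simp⟩) (a := pullback.fst n e) (v' := pullback.snd n e) ?_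
    (b := pullback.fst (p1 ≫ n) e) (w' := pullback.snd (p1 ≫ n) e) ?_ sqV.w.symm (Category.comp_id _) h1 h2 h1' h2'
  · rw [Category.comp_id]; exact sqV
  · rw [Category.comp_id]; exact sqW

theorem ext_of_chart {F G : Sp S} {V : Over S} {q : (yon S).obj V ⟶ F} (h1 : RepWith @Etale q)
    (h2 : RepWith @Surjective q) {x y : F ⟶ G} (h : q ≫ x = q ≫ y) : x = y := by
  apply K615.Pt.hom_ext
  intro T t
  obtain ⟨R, hR, H⟩ := K615.Cov.exists_lift q h1 h2 T t
  apply K615.Pt.pt_ext R hR
  intro T' k hk
  obtain ⟨z, hz⟩ := H T' k hk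
  rw [← Category.assoc, ← Category.assoc, ← hz, Category.assoc, Category.assoc, h]

theorem surjective_left_of_points {V T : Over S} (n : V ⟶ T) (h : Function.Surjective (Points.map ((yon S).map n))) :
    Surjective n.left := by
  refine ⟨fun t => ?_⟩
  obtain ⟨x, hx⟩ := h (Points.ofScheme T t)
  obtain ⟨v, rfl⟩ := (Points.schemeEquiv V).surjective x
  refine ⟨v, ?_⟩
  have h1 := congrArg (Points.toScheme T) hx
  rw [Points.toScheme_ofScheme] at h1
  rw [← h1]
  change _ = Points.toScheme T (Points.map ((yon S).map n) (Points.ofPt (𝟙 _) v))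
  rw [Points.map_ofPt, Category.id_comp, Points.toScheme_ofPt]

theorem surjective_of_isPullback {F G F' G' : Sp S} {fst : F' ⟶ F} {snd : F' ⟶ G'} {f : F ⟶ G} {k : G' ⟶ G}
    (sq : IsPullback fst snd f k) (h : Function.Surjective (Points.map f)) : Function.Surjective (Points.map snd) := by
  intro z
  obtain ⟨x, hx⟩ := h (Points.map k z)
  obtain ⟨w, -, hw⟩ := K610.Base.exists_of_isPullback sq x z hx
  exact ⟨w, hw⟩

theorem surjective_points_of_chart {F : Sp S} {V : Over S} {q : (yon S).obj V ⟶ F}
    (h2 : RepWith @Surjective q) : Function.Surjective (Points.map q) :=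
  K610.Base.surjective_points_of_repWith h2

/-- Invariant functions on the base change of `Y` to a good chart come from the chart. -/
theorem Good.fn {T : Over S} {b : (yon S).obj T ⟶ X'} (h : Good π b) (huc : IsUnivClosedMor π)
    (hs : Function.Surjective (Points.map π)) {Y' : Sp S} {y' : Y' ⟶ Y} {g' : Y' ⟶ (yon S).obj T}
    (sq : IsPullback y' g' π b) {W : Over S} (hW : IsAffine W.left) (κ : Y' ⟶ (yon S).obj W)
    (hκ : ∀ (R : Over S) (x x' : (yon S).obj R ⟶ Y'), x ≫ g' = x' ≫ g' → x ≫ κ = x' ≫ κ) :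
    ∃ l : T ⟶ W, g' ≫ (yon S).map l = κ := by
  obtain ⟨V, V2, q, n, p1, p2, hV, hV2, hq1, hq2, hqn, hN⟩ := h.pres Y' y' g' sq
  have hT := h.affine
  obtain ⟨k, hk⟩ := (yon S).map_surjective (q ≫ κ)
  have huc' : IsUnivClosedMor g' := K596.ClosedQC.isUnivClosedMor_of_isPullback sq huc
  have hp : p1 ≫ k = p2 ≫ k := (yon S).map_injective (by
    rw [(yon S).map_comp, (yon S).map_comp, hk, ← Category.assoc, ← Category.assoc]
    apply hκ
    rw [Category.assoc, Category.assoc, hqn, ← (yon S).map_comp, ← (yon S).map_comp, hN.eq])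
  have key : ∀ w, ∃ x, n.left.appTop x = k.left.appTop w := by
    intro w
    apply hN.surj
    · rw [Category.comp_id]
      exact isIntegralElem g' huc' q hq1 hq2 hqn.symm κ hk w
    · have := congrArg (fun k => k.left.appTop w) hp
      simpa using this
  obtain ⟨m, hm⟩ := exists_factor n.left hN.inj k.left key
  have hsn : Surjective n.left := surjective_left_of_points n (by
    rw [← hqn]
    intro z
    obtain ⟨y, hy⟩ := surjective_of_isPullback sq hs z
    obtain ⟨v, hv⟩ := surjective_points_of_chart hq2 y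
    exact ⟨v, by rw [Points.map_comp, hv, hy]⟩)
  have hepi : Epi n.left := epi_of_surjective n.left hN.inj
  refine ⟨Over.homMk m ?_, ?_⟩
  · rw [← cancel_epi n.left, ← Category.assoc, hm, Over.w, Over.w]
  · apply ext_of_chart hq1 hq2
    rw [← Category.assoc, hqn, ← (yon S).map_comp, ← hk]
    congr 1
    ext : 1
    exact hm

/-- Maps from a good chart to an algebraic space are determined on the base change of `Y`. -/
theorem Good.uniq {T : Over S} {b : (yon S).obj T ⟶ X'} (h : Good π b) (huc : IsUnivClosedMor π)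
    (hs : Function.Surjective (Points.map π)) {Y' : Sp S} {y' : Y' ⟶ Y} {g' : Y' ⟶ (yon S).obj T}
    (sq : IsPullback y' g' π b) (hE : IsAlgSpace E) (m1 m2 : (yon S).obj T ⟶ E) (hm : g' ≫ m1 = g' ≫ m2) :
    m1 = m2 := by
  obtain ⟨V, V2, q, n, p1, p2, hV, hV2, hq1, hq2, hqn, hN⟩ := h.pres Y' y' g' sq
  have hT := h.affine
  have hd := K595.DiagAlg.repWith_diag_lft hE
  obtain ⟨K, i, fst, sqK⟩ := hd.1 (prod.lift m1 m2)
  have hi1 : LocallyOfFiniteType i.left := hd.2 _ fst i sqK
  have hi2 : Mono i.left := (K595.DiagAlg.repWith_diag_mono hE).2 _ fst i sqK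
  have hmono : Mono i := ⟨fun x y hxy => Over.OverMorphism.ext (by
    rw [← cancel_mono i.left]
    exact congrArg (fun z => z.left) hxy)⟩
  have hmono' : Mono ((yon S).map i) := inferInstance
  have d1 : Limits.diag E ≫ Limits.prod.fst = 𝟙 E := Limits.prod.lift_fst _ _
  have d2 : Limits.diag E ≫ Limits.prod.snd = 𝟙 E := Limits.prod.lift_snd _ _
  have l1 : Limits.prod.lift m1 m2 ≫ Limits.prod.fst = m1 := Limits.prod.lift_fst _ _
  have l2 : Limits.prod.lift m1 m2 ≫ Limits.prod.snd = m2 := Limits.prod.lift_snd _ _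
  let k' : Y' ⟶ (yon S).obj K := sqK.lift (g' ≫ m1) g' (by
    apply Limits.prod.hom_ext
    · rw [Category.assoc, Category.assoc, Category.assoc, d1, l1, Category.comp_id]
    · rw [Category.assoc, Category.assoc, Category.assoc, d2, l2, Category.comp_id, hm])
  have hk' : k' ≫ (yon S).map i = g' := sqK.lift_snd _ _ _
  have hks : Function.Surjective (Points.map k') := by
    intro z
    obtain ⟨y, hy⟩ := surjective_of_isPullback sq hs (Points.map ((yon S).map i) z)
    refine ⟨y, K620.Dec.injective_map_of_mono _ hmono' ?_⟩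
    rw [← Points.map_comp, hk', hy]
  have huc' : IsUnivClosedMor g' := K596.ClosedQC.isUnivClosedMor_of_isPullback sq huc
  have huci : IsUnivClosedMor ((yon S).map i) := K596.SepSurj.isUnivClosedMor_of_precomp hks (by rw [hk']; exact huc')
  have huci' : UniversallyClosed i.left := by
    have h1 := (K596.Univ.repWith_universallyClosed_iff (representable_yon_map i)).2 huci
    exact (repWith_yon_map_iff _ _).1 h1
  have hsep : IsSeparated i.left := inferInstance
  have hprop : IsProper i.left := ⟨⟩
  have hcl : IsClosedImmersion i.left := (IsClosedImmersion.iff_isProper_and_mono _).2 ⟨hprop, hi2⟩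
  obtain ⟨kk, hkk⟩ := (yon S).map_surjective (q ≫ k')
  have hkn : kk ≫ i = n := (yon S).map_injective (by
    rw [(yon S).map_comp, hkk, Category.assoc, hk', hqn])
  have hiso : IsIso i.left := isIso_of_factor i.left kk.left (by
    rw [← Over.comp_left, hkn]
    exact hN.inj)
  have hiso' : IsIso i := by
    have : IsIso ((Over.forget S).map i) := hiso
    exact isIso_of_reflects_iso i (Over.forget S)
  have e1 : (yon S).map i ≫ m1 = (yon S).map i ≫ m2 := by
    have h1 := congrArg (fun x => x ≫ Limits.prod.fst) sqK.w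
    have h2 := congrArg (fun x => x ≫ Limits.prod.snd) sqK.w
    simp only [Category.assoc, d1, d2, l1, l2, Category.comp_id] at h1 h2
    rw [← h1, ← h2]
  rwa [cancel_epi] at e1

end K640.CoeqFun
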