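import Groth.Agent.AlgSp.K640.ImgNorm
import Groth.Agent.AlgSp.K597.ProperCancel
import Groth.Agent.AlgSp.K597.UnivInj

/-!
# The quotient of a proper space by its own fibre square: first properties
-/

set_option autoImplicit false
universe u v
open CategoryTheory CategoryTheory.Limits AlgebraicGeometry Opposite AlgSp

namespace K640.CoeqProps

open K640.QNorm K615.UN K615.Aff K640.ImgNorm

variable {S : Scheme.{u}} {X Y X' : Sp S} {g : Y ⟶ X} {π : Y ⟶ X'} {c : X' ⟶ X}

/-- A morphism to an affine scheme which is injective on global functions is dominant. -/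
theorem denseRange_of_injective {V N : Scheme.{u}} [CompactSpace V] [QuasiSeparatedSpace V] [IsAffine N] (f : V ⟶ N)
    (h : Function.Injective f.appTop) : DenseRange f := by
  have : CompactSpace N := inferInstance
  rw [DenseRange, dense_iff_inter_open]
  rintro O hO ⟨x, hx⟩
  obtain ⟨s, hs1, hs2⟩ := (isAffineOpen_top N).exists_basicOpen_le (V := ⟨O, hO⟩) ⟨x, hx⟩ trivial
  by_contra hcon
  have h1 : V.basicOpen (f.appTop s) = ⊥ := by
    rw [← Scheme.preimage_basicOpen_top, eq_bot_iff]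
    intro z hz
    exact hcon ⟨f z, hs1 hz, z, rfl⟩
  obtain ⟨k, hk⟩ := (Scheme.isNilpotent_iff_basicOpen_eq_bot _).2 h1
  have h2 : s ^ k = 0 := h (by rw [map_pow, hk, map_zero])
  have h3 : N.basicOpen s = ⊥ := (Scheme.isNilpotent_iff_basicOpen_eq_bot _).1 ⟨k, h2⟩
  rw [h3] at hs2
  exact hs2

theorem isProper (hX : IsAlgSpace X) (hY : IsAlgSpace Y) (hX' : IsAlgSpace X') (h : CData g π c)
    (hg : IsProperMor g) : IsProperMor π := by
  have h1 : IsSeparatedMor c :=
    K597.Proper.isSeparatedMor_of_isAffineMor (K597.Proper.isIntegralMor_iff_affine_univClosed.1 h.integral).1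
  exact K597.ProperCancel.isProperMor_of_comp (g := c) hY hX' hX (by rw [h.w]; exact hg) h1

theorem isSurjective (hX : IsAlgSpace X) (hY : IsAlgSpace Y) (hX' : IsAlgSpace X') (h : CData g π c)
    (hg : IsProperMor g) : IsSurjectiveMor π := by
  have hπ := isProper hX hY hX' h hg
  have hcl : IsClosed (Set.range (Points.map π)) :=
    K597.ProperImg.isClosed_range_of_univClosed (X := ⟨Y, hY⟩) (Y := ⟨X', hX'⟩) (h := ⟨π⟩) hπ.2.2
  intro x'
  obtain ⟨ch, u, hu⟩ := K615.Desc.points_of_charts hX (Points.map c x')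
  obtain ⟨u0, rfl⟩ := (Points.schemeEquiv ch.U).surjective u
  have hu' : Points.map c x' = Points.ofPt ch.a u0 := by rw [← hu, Points.ofPt_eq_map_ofScheme]; rfl
  have sqY := IsPullback.of_hasPullback g ch.a
  have haff := ch.affine
  obtain ⟨V, q, hV, hq1, hq2⟩ := K609.QC.exists_affine_chart
    (hg.2.1.2 (IsAlgSpace.yon_obj ch.U) (K639.Dim2.isQuasiCompactSp_yon ch.U) ch.a _ _ sqY)
  obtain ⟨v, hv⟩ := (yon S).map_surjective (q ≫ pullback.snd g ch.a)
  obtain ⟨N, n, νU, m, hN, hnv, sqN, hm⟩ := h.charts ch.U ch.affine ch.a ch.etale _ _ _ sqY V hV q hq1 hq2 v hv.symm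
  obtain ⟨n0, hn1, -⟩ := K610.Base.exists_of_isPullback_yon sqN x' u0 hu'
  have := hN.affN
  have hd : DenseRange n.left := denseRange_of_injective n.left hN.inj
  have h2 : IsClosed (Points.ofPt m ⁻¹' Set.range (Points.map π)) := hcl.preimage (Points.continuous_ofPt m)
  have h3 : Set.range n.left ⊆ Points.ofPt m ⁻¹' Set.range (Points.map π) := by
    rintro _ ⟨w, rfl⟩
    refine ⟨Points.ofPt (q ≫ pullback.fst g ch.a) w, ?_⟩
    rw [Points.map_ofPt, Category.assoc, hm, K610.Base.ofPt_map_comp]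
  have h4 : n0 ∈ Points.ofPt m ⁻¹' Set.range (Points.map π) := by
    have h5 := h2.closure_subset_iff.2 h3
    rw [hd.closure_range] at h5
    exact h5 trivial
  rw [← hn1]
  exact h4

theorem _root_.K640.ImgNorm.CData.coeq' (h : CData g π c) {G : Sp S} (a b : G ⟶ Y) (hab : a ≫ g = b ≫ g) :
    a ≫ π = b ≫ π := by
  apply K615.Pt.hom_ext
  intro T x
  rw [← Category.assoc, ← Category.assoc]
  apply h.coeq
  rw [Category.assoc, hab, Category.assoc]

theorem isPullback_of_cData (h : CData g π c) {R : Sp S} {t s : R ⟶ Y} (sq : IsPullback t s g g) :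
    IsPullback t s π π := by
  refine ⟨⟨h.coeq' t s sq.w⟩, ⟨PullbackCone.IsLimit.mk _ (fun k => sq.lift k.fst k.snd (by
    rw [← h.w, ← Category.assoc, k.condition, Category.assoc])) (fun k => sq.lift_fst _ _ _)
    (fun k => sq.lift_snd _ _ _) (fun k m h1 h2 => sq.hom_ext (by rw [h1, sq.lift_fst]) (by rw [h2, sq.lift_snd]))⟩⟩

theorem isUnivInjective (h : CData g π c) (hs : Function.Surjective (Points.map π)) : IsUnivInjectiveMor c := by
  apply K597.UnivInj.univInj_of_surjective_diagonal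
  intro z
  obtain ⟨y1, hy1⟩ := hs (Points.map (pullback.fst c c) z)
  obtain ⟨y2, hy2⟩ := hs (Points.map (pullback.snd c c) z)
  obtain ⟨P1, a1, b1, sq1⟩ : ∃ (P1 : Sp S) (a1 : P1 ⟶ Y) (b1 : P1 ⟶ pullback c c),
    IsPullback a1 b1 π (pullback.fst c c) := ⟨_, _, _, IsPullback.of_hasPullback _ _⟩
  obtain ⟨z1, hz1, hz1'⟩ := K610.Base.exists_of_isPullback sq1 y1 z hy1
  obtain ⟨P2, a2, b2, sq2⟩ : ∃ (P2 : Sp S) (a2 : P2 ⟶ Y) (b2 : P2 ⟶ P1),
    IsPullback a2 b2 π (b1 ≫ pullback.snd c c) := ⟨_, _, _, IsPullback.of_hasPullback _ _⟩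
  obtain ⟨z2, hz2, hz2'⟩ := K610.Base.exists_of_isPullback sq2 y2 z1 (by
    rw [hy2, Points.map_comp, hz1'])
  have e1 : (b2 ≫ a1) ≫ π = (b2 ≫ b1) ≫ pullback.fst c c := by
    rw [Category.assoc, sq1.w, Category.assoc]
  have e2 : a2 ≫ π = (b2 ≫ b1) ≫ pullback.snd c c := by
    rw [sq2.w, Category.assoc]
  have e3 := h.coeq' (b2 ≫ a1) a2 (by
    rw [← h.w, ← Category.assoc, e1, ← Category.assoc a2, e2]
    simp only [Category.assoc, pullback.condition])
  rw [e1, e2] at e3
  refine ⟨Points.map ((b2 ≫ b1) ≫ pullback.fst c c) z2, ?_⟩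
  rw [← Points.map_comp]
  have e4 : ((b2 ≫ b1) ≫ pullback.fst c c) ≫ pullback.diagonal c = b2 ≫ b1 := by
    apply pullback.hom_ext
    · rw [Category.assoc, pullback.diagonal_fst, Category.comp_id]
    · rw [Category.assoc, pullback.diagonal_snd, Category.comp_id, e3]
  rw [e4, Points.map_comp, hz2', hz1']

theorem isSurjective_of_comp {f : Y ⟶ X'} {h : X' ⟶ X} (hs : IsSurjectiveMor (f ≫ h)) : IsSurjectiveMor h := by
  intro x
  obtain ⟨y, hy⟩ := hs x
  exact ⟨Points.map f y, by rw [← Points.map_comp, hy]⟩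

/-- An integral, universally injective and surjective morphism is a universal homeomorphism. -/
theorem isUnivHomeo (h1 : IsIntegralMor c) (h2 : IsUnivInjectiveMor c) (h3 : IsSurjectiveMor c) :
    IsUnivHomeoMor c := by
  intro Z Z' hZ k fst snd sq
  have hcl : IsClosedMap (Points.map snd) :=
    (K597.Proper.isIntegralMor_iff_affine_univClosed.1 h1).2 hZ k fst snd sq
  have hinj : Function.Injective (Points.map snd) := h2 hZ k fst snd sq
  have hsurj : Function.Surjective (Points.map snd) := fun z => by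
    obtain ⟨x, hx⟩ := h3 (Points.map k z)
    obtain ⟨w, -, hw⟩ := K610.Base.exists_of_isPullback sq x z hx
    exact ⟨w, hw⟩
  exact isHomeomorph_iff_continuous_isClosedMap_bijective.2 ⟨Points.continuous_map snd, hcl, hinj, hsurj⟩

end K640.CoeqProps
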