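import Groth.Agent.AlgSp.K640.Glue2

/-!
Charts for the pushout of algebraic spaces along an open immersion `jV : V' ⟶ V` and an étale `f' : V' ⟶ U`.
-/

set_option autoImplicit false
universe u v
open CategoryTheory CategoryTheory.Limits AlgebraicGeometry Opposite
open AlgSp K613.Basic K613.Cover K640.Joint K640.Loc K640.Glue2

namespace K640.EtGlue

variable {S : Scheme.{u}} {F G U V V' : Sp S}

/-- two charts as in the construction of the pushout -/
structure Dat (jV : V' ⟶ V) (f' : V' ⟶ U) where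
  X : Over S
  U₁ : Over S
  V₀ : Over S
  V₁ : Over S
  a : U₁ ⟶ X
  b : V₀ ⟶ X
  o₁ : V₁ ⟶ U₁
  o₂ : V₁ ⟶ V₀
  ha : IsOpenImmersion a.left
  hb : IsOpenImmersion b.left
  ho₁ : IsOpenImmersion o₁.left
  ho₂ : IsOpenImmersion o₂.left
  cov : FpC₂ a b
  sqX : IsPullback o₁ o₂ a b
  q : (yon S).obj U₁ ⟶ U
  hq : RepWith @Etale q
  hqs : RepWith @Surjective q
  v : (yon S).obj V₀ ⟶ V
  hv : RepWith @Etale v
  hvs : RepWith @Surjective v
  v' : (yon S).obj V₁ ⟶ V'
  sqV : IsPullback v' ((yon S).map o₂) jV v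
  hw : v' ≫ f' = (yon S).map o₁ ≫ q

/-- a property local at the source can be checked on an open cover of the source by two schemes -/
theorem repWith_of_cover₂ {Pr : MorphismProperty Scheme.{u}} [IsZariskiLocalAtSource Pr] {X A B : Over S}
    {a : A ⟶ X} {b : B ⟶ X} (ha : IsOpenImmersion a.left) (hb : IsOpenImmersion b.left) (hc : FpC₂ a b)
    {p : (yon S).obj X ⟶ F} (hp : Representable p) (h₁ : RepWith Pr ((yon S).map a ≫ p))
    (h₂ : RepWith Pr ((yon S).map b ≫ p)) : RepWith Pr p := by
  refine ⟨hp, fun T W g fst snd sq => ?_⟩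
  obtain ⟨fst, rfl⟩ := (yon S).map_surjective fst
  have key : ∀ {A : Over S} {a : A ⟶ X}, RepWith Pr ((yon S).map a ≫ p) →
      Pr ((pullback.fst fst a).left ≫ snd.left) := by
    intro A a h
    have sq2 : IsPullback (pullback.snd fst a) (pullback.fst fst a) a fst := (IsPullback.of_hasPullback fst a).flip
    have sq3 : IsPullback ((yon S).map (pullback.snd fst a)) ((yon S).map (pullback.fst fst a ≫ snd))
        ((yon S).map a ≫ p) g := by
      rw [Functor.map_comp]
      exact (sq2.map (yon S)).flip.paste_horiz sq.flip |>.flip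
    exact h.2 _ _ _ sq3
  have k1 := key h₁
  have k2 := key h₂
  have i1 : IsOpenImmersion (pullback.fst fst a).left := MorphismProperty.of_isPullback (P := @IsOpenImmersion)
    ((IsPullback.of_hasPullback fst a).map (Over.forget S)).flip ha
  have i2 : IsOpenImmersion (pullback.fst fst b).left := MorphismProperty.of_isPullback (P := @IsOpenImmersion)
    ((IsPullback.of_hasPullback fst b).map (Over.forget S)).flip hb
  have hbc := hc.fpF.baseChange fst
  refine (IsZariskiLocalAtSource.iff_of_iSup_eq_top (P := Pr)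
    (fun k : Bool => match k with
      | true => (pullback.fst fst a).left.opensRange
      | false => (pullback.fst fst b).left.opensRange) ?_).2 ?_
  · rw [eq_top_iff]
    intro w _
    rw [TopologicalSpace.Opens.mem_iSup]
    obtain ⟨i, t', ht⟩ := hbc.surj w
    match i with
    | ⟨true⟩ => exact ⟨true, t', ht⟩
    | ⟨false⟩ => exact ⟨false, t', ht⟩
  · intro k
    match k with
    | true =>
      change Pr ((pullback.fst fst a).left.opensRange.ι ≫ snd.left)
      rw [← Scheme.Hom.isoOpensRange_inv_comp, Category.assoc]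
      exact (MorphismProperty.cancel_left_of_respectsIso Pr _ _).2 k1
    | false =>
      change Pr ((pullback.fst fst b).left.opensRange.ι ≫ snd.left)
      rw [← Scheme.Hom.isoOpensRange_inv_comp, Category.assoc]
      exact (MorphismProperty.cancel_left_of_respectsIso Pr _ _).2 k2

theorem exists_dat (hU : IsAlgSpace U) (hV : IsAlgSpace V) {jV : V' ⟶ V}
    (hjV : RepWith @IsOpenImmersion jV) {f' : V' ⟶ U} (hf' : IsEtaleMor f') : Nonempty (Dat jV f') := by
  obtain ⟨U₀, q₀, hq₀, hq₀s⟩ := hU.atlas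
  obtain ⟨V₀, v, hv, hvs⟩ := hV.atlas
  obtain ⟨V₁, o₂, v', sqV⟩ := hjV.1 v
  have ho₂ : IsOpenImmersion o₂.left := hjV.2 _ _ _ sqV
  have hv' : RepWith @Etale v' := MorphismProperty.of_isPullback sqV.flip hv
  obtain ⟨U₁, i₀, o₁, hi₀, ho₁, hcU, hemp⟩ := exists_coprod U₀ V₁
  obtain ⟨q, hq1, hq2⟩ := hcU.glue (mono_of_mono_left _ inferInstance) (mono_of_mono_left _ inferInstance) q₀
    (v' ≫ f') (fun R x y hxy => by
      have := hemp R x y hxy
      exact eq_of_isEmpty _ _)
  have hqe : RepWith @Etale q := repWith_of_cover₂ hi₀ ho₁ hcU (hU.representable_from_yon q)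
    (by rw [hq1]; exact hq₀) (by rw [hq2]; exact hf' v' hv')
  have hqs : RepWith @Surjective q := by
    rw [K610.Base.repWith_surjective_iff hqe.1]
    intro x
    obtain ⟨y, rfl⟩ := K610.Base.surjective_points_of_repWith hq₀s x
    exact ⟨Points.map ((yon S).map i₀) y, by rw [← Points.map_comp, hq1]⟩
  obtain ⟨X, a, b, ha, hb, hc, sqX⟩ := exists_glue o₁ o₂ ho₁ ho₂
  exact ⟨⟨X, U₁, V₀, V₁, a, b, o₁, o₂, ha, hb, ho₁, ho₂, hc, sqX, q, hqe, hqs, v, hv, hvs, v', sqV, hq2.symm⟩⟩

end K640.EtGlue
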