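import Groth.Agent.AlgSp.K640.EtGlueRel
import Groth.Agent.AlgSp.K640.ElemDist
import Groth.Agent.AlgSp.K610.EtaleMor
import Groth.Agent.AlgSp.K613.Mono

/-!
The pushout of algebraic spaces along an open immersion `jV : V' ⟶ V` and an étale `f' : V' ⟶ U`.
-/

set_option autoImplicit false
universe u v
open CategoryTheory CategoryTheory.Limits AlgebraicGeometry Opposite
open AlgSp K613.Basic K613.Cover K640.Joint K640.Loc K640.Glue2

namespace K640.EtGlue

variable {S : Scheme.{u}} {F G U V V' W : Sp S} {jV : V' ⟶ V} {f' : V' ⟶ U}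

theorem mono_of_openImmersion {j : U ⟶ W} (hj : RepWith @IsOpenImmersion j) : Mono j := by
  refine K610.Base.mono_of_yon fun T x y hxy => ?_
  obtain ⟨R', d, fst', sq'⟩ := hj.1 (x ≫ j)
  have hd : IsOpenImmersion d.left := hj.2 _ _ _ sq'
  have hmono : Mono d := mono_of_mono_left _ inferInstance
  obtain ⟨a, ha⟩ := (yon S).map_surjective (sq'.lift x (𝟙 _) (by rw [Category.id_comp]))
  obtain ⟨b, hb⟩ := (yon S).map_surjective (sq'.lift y (𝟙 _) (by rw [Category.id_comp, hxy]))
  have hab : a = b := by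
    rw [← cancel_mono d]
    apply (yon S).map_injective
    rw [Functor.map_comp, Functor.map_comp, ha, hb, sq'.lift_snd, sq'.lift_snd]
  rw [← sq'.lift_fst x (𝟙 _) (by rw [Category.id_comp]), ← ha, hab, hb, sq'.lift_fst]

/-- the pushout with its maps -/
structure PushDat (D : Dat jV f') (E : D.RelDat) (W : Sp S) where
  p : (yon S).obj D.X ⟶ W
  hp : RepWith @Etale p
  hps : RepWith @Surjective p
  sq : IsPullback ((yon S).map E.t) ((yon S).map E.s) p p
  j : U ⟶ W
  f : V ⟶ W
  hj : D.q ≫ j = (yon S).map D.a ≫ p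
  hf : D.v ≫ f = (yon S).map D.b ≫ p

theorem p_eq_iff {D : Dat jV f'} (E : D.RelDat) {p : (yon S).obj D.X ⟶ W}
    (sq : IsPullback ((yon S).map E.t) ((yon S).map E.s) p p) {T : Over S} (x y : T ⟶ D.X) :
    (yon S).map x ≫ p = (yon S).map y ≫ p ↔ Locally T (fun _ c => D.Q (c ≫ x) (c ≫ y)) := by
  rw [← E.rel]
  constructor
  · intro h
    obtain ⟨r, hr⟩ := (yon S).map_surjective (sq.lift _ _ h)
    exact ⟨r, (yon S).map_injective (by rw [Functor.map_comp, hr, sq.lift_fst]),
      (yon S).map_injective (by rw [Functor.map_comp, hr, sq.lift_snd])⟩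
  · rintro ⟨r, rfl, rfl⟩
    rw [Functor.map_comp, Functor.map_comp, Category.assoc, Category.assoc, sq.w]

theorem exists_pushDat (D : Dat jV f') (E : D.RelDat) {p : (yon S).obj D.X ⟶ W}
    (hp : IsPresentation E.s E.t p) : Nonempty (PushDat D E W) := by
  have hq : FSurj D.q := (ESurj.of_repWith D.hq D.hqs).fSurj
  have hv : FSurj D.v := (ESurj.of_repWith D.hv D.hvs).fSurj
  obtain ⟨j, hj, -⟩ := hq.desc ((yon S).map D.a ≫ p) (fun R u v huv => by
    obtain ⟨u, rfl⟩ := (yon S).map_surjective u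
    obtain ⟨v, rfl⟩ := (yon S).map_surjective v
    rw [← Category.assoc, ← Category.assoc, ← Functor.map_comp, ← Functor.map_comp,
      p_eq_iff E hp.isPullback]
    exact Locally.of_forall fun T' c => Dat.Q.res (Or.inl ⟨u, v, rfl, rfl, huv⟩) c)
  obtain ⟨f, hf, -⟩ := hv.desc ((yon S).map D.b ≫ p) (fun R u v huv => by
    obtain ⟨u, rfl⟩ := (yon S).map_surjective u
    obtain ⟨v, rfl⟩ := (yon S).map_surjective v
    rw [← Category.assoc, ← Category.assoc, ← Functor.map_comp, ← Functor.map_comp,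
      p_eq_iff E hp.isPullback]
    exact Locally.of_forall fun T' c => Dat.Q.res (Or.inr ⟨u, v, rfl, rfl, huv⟩) c)
  exact ⟨⟨p, hp.etale, hp.surjective, hp.isPullback, j, f, hj, hf⟩⟩

namespace PushDat

variable {D : Dat jV f'} {E : D.RelDat} (P : PushDat D E W)

set_option linter.unusedSectionVars false
include P

theorem fSurj_q : FSurj D.q := (ESurj.of_repWith D.hq D.hqs).fSurj
theorem fSurj_v : FSurj D.v := (ESurj.of_repWith D.hv D.hvs).fSurj
theorem fSurj_v' : FSurj D.v' :=
  (ESurj.of_repWith D.hv D.hvs).fSurj.of_isPullback D.sqV.flip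

theorem w : jV ≫ P.f = f' ≫ P.j := by
  have := P.fSurj_v'.epi
  rw [← cancel_epi D.v', ← Category.assoc, D.sqV.w, Category.assoc, P.hf, ← Category.assoc, ← Functor.map_comp,
    ← D.sqX.w, ← Category.assoc, D.hw, Category.assoc, P.hj, ← Category.assoc, ← Functor.map_comp]

/-- two points of `U` with the same image are equal -/
theorem j_inj {T : Over S} (u w : (yon S).obj T ⟶ U) (h : u ≫ P.j = w ≫ P.j) : u = w := by
  refine Locally.ext (((P.fSurj_q.locally u).and (P.fSurj_q.locally w)).bind ?_)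
  rintro T' c ⟨⟨x, hx⟩, ⟨y, hy⟩⟩
  obtain ⟨x, rfl⟩ := (yon S).map_surjective x
  obtain ⟨y, rfl⟩ := (yon S).map_surjective y
  have h1 : (yon S).map (x ≫ D.a) ≫ P.p = (yon S).map (y ≫ D.a) ≫ P.p := by
    rw [Functor.map_comp, Functor.map_comp, Category.assoc, Category.assoc, ← P.hj, ← Category.assoc,
      ← Category.assoc, hx, hy, Category.assoc, Category.assoc, h]
  refine ((p_eq_iff E P.sq _ _).1 h1).imp fun T'' d hd => ?_
  have hQA : D.QA (d ≫ x ≫ D.a) (d ≫ y ≫ D.a) := by
    rcases hd with hd | hd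
    · exact hd
    · exact hd.toQA (x₁ := d ≫ x) (Category.assoc _ _ _)
  obtain ⟨x₁, y₁, hx₁, hy₁, hq⟩ := hQA
  have e1 : x₁ = d ≫ x := by rw [← cancel_mono D.a, hx₁, Category.assoc]
  have e2 : y₁ = d ≫ y := by rw [← cancel_mono D.a, hy₁, Category.assoc]
  rw [e1, e2, Functor.map_comp, Functor.map_comp, Category.assoc, Category.assoc, hx, hy] at hq
  simpa only [Functor.map_comp, Category.assoc] using hq

theorem mono_j : Mono P.j := K610.Base.mono_of_yon fun _ u w h => P.j_inj u w h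

/-- two points of `V` with the same image -/
theorem f_eq {T : Over S} (u w : (yon S).obj T ⟶ V) (h : u ≫ P.f = w ≫ P.f) :
    Locally T (fun T' c => (yon S).map c ≫ u = (yon S).map c ≫ w ∨
      ∃ u' w' : (yon S).obj T' ⟶ V', u' ≫ jV = (yon S).map c ≫ u ∧ w' ≫ jV = (yon S).map c ≫ w ∧
        u' ≫ f' = w' ≫ f') := by
  refine ((P.fSurj_v.locally u).and (P.fSurj_v.locally w)).bind ?_
  rintro T' c ⟨⟨x, hx⟩, ⟨y, hy⟩⟩
  obtain ⟨x, rfl⟩ := (yon S).map_surjective x
  obtain ⟨y, rfl⟩ := (yon S).map_surjective y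
  have h1 : (yon S).map (x ≫ D.b) ≫ P.p = (yon S).map (y ≫ D.b) ≫ P.p := by
    rw [Functor.map_comp, Functor.map_comp, Category.assoc, Category.assoc, ← P.hf, ← Category.assoc,
      ← Category.assoc, hx, hy, Category.assoc, Category.assoc, h]
  refine ((p_eq_iff E P.sq _ _).1 h1).imp fun T'' d hd => ?_
  rcases hd with ⟨x₁, y₁, hx₁, hy₁, hq⟩ | ⟨x₁, y₁, hx₁, hy₁, hq⟩
  · right
    have k1 : x₁ ≫ D.a = (d ≫ x) ≫ D.b := by rw [hx₁, Category.assoc]
    have k2 : y₁ ≫ D.a = (d ≫ y) ≫ D.b := by rw [hy₁, Category.assoc]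
    obtain ⟨x', hx'1, hx'2⟩ : ∃ x' : T'' ⟶ D.V₁, x' ≫ D.o₁ = x₁ ∧ x' ≫ D.o₂ = d ≫ x :=
      ⟨_, D.sqX.lift_fst _ _ k1, D.sqX.lift_snd _ _ k1⟩
    obtain ⟨y', hy'1, hy'2⟩ : ∃ y' : T'' ⟶ D.V₁, y' ≫ D.o₁ = y₁ ∧ y' ≫ D.o₂ = d ≫ y :=
      ⟨_, D.sqX.lift_fst _ _ k2, D.sqX.lift_snd _ _ k2⟩
    refine ⟨(yon S).map x' ≫ D.v', (yon S).map y' ≫ D.v', ?_, ?_, ?_⟩
    · rw [Category.assoc, D.sqV.w, ← Category.assoc, ← Functor.map_comp, hx'2, Functor.map_comp, Category.assoc, hx,
        Functor.map_comp, Category.assoc]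
    · rw [Category.assoc, D.sqV.w, ← Category.assoc, ← Functor.map_comp, hy'2, Functor.map_comp, Category.assoc, hy,
        Functor.map_comp, Category.assoc]
    · rw [Category.assoc, D.hw, Category.assoc, D.hw, ← Category.assoc, ← Category.assoc, ← Functor.map_comp,
        ← Functor.map_comp, hx'1, hy'1, hq]
  · left
    have e1 : x₁ = d ≫ x := by rw [← cancel_mono D.b, hx₁, Category.assoc]
    have e2 : y₁ = d ≫ y := by rw [← cancel_mono D.b, hy₁, Category.assoc]
    rw [e1, e2, Functor.map_comp, Functor.map_comp, Category.assoc, Category.assoc, hx, hy] at hq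
    simpa only [Functor.map_comp, Category.assoc] using hq

/-- a point of `V` and a point of `U` with the same image -/
theorem fj_eq [Mono jV] {T : Over S} (u : (yon S).obj T ⟶ V) (w : (yon S).obj T ⟶ U) (h : u ≫ P.f = w ≫ P.j) :
    ∃ z : (yon S).obj T ⟶ V', z ≫ jV = u ∧ z ≫ f' = w := by
  have key : Locally T (fun T' c => ∃ z : (yon S).obj T' ⟶ V', z ≫ jV = (yon S).map c ≫ u ∧
      z ≫ f' = (yon S).map c ≫ w) := by
    refine ((P.fSurj_v.locally u).and (P.fSurj_q.locally w)).bind ?_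
    rintro T' c ⟨⟨x, hx⟩, ⟨y, hy⟩⟩
    obtain ⟨x, rfl⟩ := (yon S).map_surjective x
    obtain ⟨y, rfl⟩ := (yon S).map_surjective y
    have h1 : (yon S).map (x ≫ D.b) ≫ P.p = (yon S).map (y ≫ D.a) ≫ P.p := by
      rw [Functor.map_comp, Functor.map_comp, Category.assoc, Category.assoc, ← P.hf, ← P.hj, ← Category.assoc,
        ← Category.assoc, hx, hy, Category.assoc, Category.assoc, h]
    refine ((p_eq_iff E P.sq _ _).1 h1).imp fun T'' d hd => ?_
    have hQA : D.QA (d ≫ x ≫ D.b) (d ≫ y ≫ D.a) := by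
      rcases hd with hd | hd
      · exact hd
      · exact (hd.symm.toQA (x₁ := d ≫ y) (Category.assoc _ _ _)).symm
    obtain ⟨x₁, y₁, hx₁, hy₁, hq⟩ := hQA
    have k1 : x₁ ≫ D.a = (d ≫ x) ≫ D.b := by rw [hx₁, Category.assoc]
    obtain ⟨x', hx'1, hx'2⟩ : ∃ x' : T'' ⟶ D.V₁, x' ≫ D.o₁ = x₁ ∧ x' ≫ D.o₂ = d ≫ x :=
      ⟨_, D.sqX.lift_fst _ _ k1, D.sqX.lift_snd _ _ k1⟩
    have e2 : y₁ = d ≫ y := by rw [← cancel_mono D.a, hy₁, Category.assoc]
    refine ⟨(yon S).map x' ≫ D.v', ?_, ?_⟩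
    · rw [Category.assoc, D.sqV.w, ← Category.assoc, ← Functor.map_comp, hx'2, Functor.map_comp, Category.assoc, hx,
        Functor.map_comp, Category.assoc]
    · rw [Category.assoc, D.hw, ← Category.assoc, ← Functor.map_comp, hx'1, hq, e2, Functor.map_comp, Category.assoc,
        hy, Functor.map_comp, Category.assoc]
  obtain ⟨z, hz⟩ := Locally.glue (F := V') (T := T)
    (Q := fun T' c z => z ≫ jV = (yon S).map c ≫ u ∧ z ≫ f' = (yon S).map c ≫ w)
    (fun T' T'' c d z hz => ⟨by rw [Category.assoc, hz.1, Functor.map_comp, Category.assoc], by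
      rw [Category.assoc, hz.2, Functor.map_comp, Category.assoc]⟩)
    (fun T' c z z' hz hz' => by rw [← cancel_mono jV, hz.1, hz'.1]) key
  refine ⟨z, Locally.ext (hz.imp fun T' c hc => ?_), Locally.ext (hz.imp fun T' c hc => ?_)⟩
  · rw [← hc.1, Category.assoc]
  · rw [← hc.2, Category.assoc]

theorem isPullback [Mono jV] : IsPullback jV f' P.f P.j := by
  refine isPullback_of_yon P.w fun T a b hab => ?_
  obtain ⟨z, hz1, hz2⟩ := P.fj_eq a b hab
  exact ⟨z, ⟨hz1, hz2⟩, fun z' hz' => by rw [← cancel_mono jV, hz'.1, hz1]⟩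

theorem jSurj : JSurj (famMap P.f P.j) := by
  refine JSurj.of_locally fun T g => ?_
  have hp : FSurj P.p := (ESurj.of_repWith P.hp P.hps).fSurj
  refine (hp.locally g).bind ?_
  rintro T' c ⟨x, hx⟩
  obtain ⟨x, rfl⟩ := (yon S).map_surjective x
  refine (locally_of_fpC₂ D.cov x).imp fun T'' d hd => ?_
  rcases hd with ⟨z, hz⟩ | ⟨z, hz⟩
  · refine ⟨false, (yon S).map z ≫ D.q, ?_⟩
    change ((yon S).map z ≫ D.q) ≫ P.j = _
    rw [Category.assoc, P.hj, ← Category.assoc, ← Functor.map_comp, hz, Functor.map_comp, Category.assoc, hx,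
      Functor.map_comp, Category.assoc]
  · refine ⟨true, (yon S).map z ≫ D.v, ?_⟩
    change ((yon S).map z ≫ D.v) ≫ P.f = _
    rw [Category.assoc, P.hf, ← Category.assoc, ← Functor.map_comp, hz, Functor.map_comp, Category.assoc, hx,
      Functor.map_comp, Category.assoc]

theorem isPushout [Mono jV] : IsPushout jV f' P.f P.j := by
  refine isPushout_of_jSurj P.jSurj P.isPullback (fun R u w huw F x₁ x₂ hx => ?_) (fun R u w huw F x₁ x₂ hx => ?_)
  · refine Locally.ext ((P.f_eq u w huw).imp fun T' c hc => ?_)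
    rcases hc with hc | ⟨u', w', hu', hw', h'⟩
    · rw [← Category.assoc, hc, Category.assoc]
    · rw [← Category.assoc, ← Category.assoc, ← hu', ← hw', Category.assoc, Category.assoc, hx, ← Category.assoc,
        ← Category.assoc, h']
  · rw [P.j_inj u w huw]

theorem isEtaleMor_f (hW : IsAlgSpace W) : IsEtaleMor P.f := by
  have := D.hb
  refine K610.EtaleMor.isEtaleMor_of_chart hW D.hv D.hvs ?_
  rw [P.hf]
  exact MorphismProperty.comp_mem _ _ _ ((repWith_yon_map_iff _ _).2 inferInstance) P.hp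

theorem isEtaleMor_j (hW : IsAlgSpace W) : IsEtaleMor P.j := by
  have := D.ha
  refine K610.EtaleMor.isEtaleMor_of_chart hW D.hq D.hqs ?_
  rw [P.hj]
  exact MorphismProperty.comp_mem _ _ _ ((repWith_yon_map_iff _ _).2 inferInstance) P.hp

theorem isOpenImmersion_j (hU : IsAlgSpace U) (hW : IsAlgSpace W) : RepWith @IsOpenImmersion P.j := by
  have := P.mono_j
  exact K613.Mono.repWith_isOpenImmersion_of_mono hU (P.isEtaleMor_j hW) fun T g => inferInstance

/-- the reduced complement -/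
theorem isElemDistSq (hU : IsAlgSpace U) (hW : IsAlgSpace W) [Mono jV]
    (hred : ∃ (T : Sp S) (i : T ⟶ W), IsRedInduced (Set.range (Points.map P.j))ᶜ i) : IsElemDistSq P.j P.f := by
  refine ⟨P.isOpenImmersion_j hU hW, P.isEtaleMor_f hW, ?_⟩
  obtain ⟨T, i, hi⟩ := hred
  refine ⟨T, pullback i P.f, i, pullback.fst _ _, pullback.snd _ _, hi, IsPullback.of_hasPullback _ _, ?_⟩
  -- points of `T` and of `U` are disjoint
  have hdisj : ∀ (R : Over S) (x : (yon S).obj R ⟶ T) (y : (yon S).obj R ⟶ U), x ≫ i = y ≫ P.j → IsEmpty R.left := by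
    intro R x y hxy
    refine ⟨fun r => ?_⟩
    have h1 : Points.ofPt (x ≫ i) r ∈ Set.range (Points.map i) := ⟨Points.ofPt x r, Points.map_ofPt _ _ _⟩
    have h2 : Points.ofPt (y ≫ P.j) r ∈ Set.range (Points.map P.j) := ⟨Points.ofPt y r, Points.map_ofPt _ _ _⟩
    rw [hi.2.1, hxy] at h1
    exact h1 h2
  have hsq := IsPullback.of_hasPullback i P.f
  have hmono : Mono (pullback.fst i P.f) := by
    refine K610.Base.mono_of_yon fun R x y hxy => hsq.hom_ext hxy ?_
    have h1 : (x ≫ pullback.snd i P.f) ≫ P.f = (y ≫ pullback.snd i P.f) ≫ P.f := by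
      rw [Category.assoc, Category.assoc, ← pullback.condition, ← Category.assoc, ← Category.assoc, hxy]
    refine Locally.ext ((P.f_eq _ _ h1).imp fun T' c hc => ?_)
    rcases hc with hc | ⟨u', w', hu', hw', h'⟩
    · exact hc
    · have hemp := hdisj T' ((yon S).map c ≫ x ≫ pullback.fst i P.f) (u' ≫ f') (by
        rw [Category.assoc, Category.assoc, pullback.condition, Category.assoc, ← P.w, ← Category.assoc u', hu']
        simp only [Category.assoc])
      exact eq_of_isEmpty _ _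
  have hsurj : FSurj (pullback.fst i P.f) := by
    intro R g
    -- the cover of `R` on which `g ≫ i` lifts to `V`
    have hloc : Locally R (fun T' c => ∃ z : (yon S).obj T' ⟶ pullback i P.f, z ≫ pullback.fst i P.f = (yon S).map c ≫ g) := by
      refine (P.jSurj.locally (g ≫ i)).imp ?_
      rintro T' c ⟨k, z, hz⟩
      match k with
      | true =>
        change z ≫ P.f = _ at hz
        exact ⟨hsq.lift ((yon S).map c ≫ g) z (by rw [Category.assoc, hz]), hsq.lift_fst _ _ _⟩
      | false =>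
        change (yon S).obj T' ⟶ U at z
        change z ≫ P.j = _ at hz
        have hemp := hdisj T' ((yon S).map c ≫ g) z (by rw [Category.assoc, hz])
        obtain ⟨y, -⟩ := Locally.glue (F := pullback i P.f) (T := T') (Q := fun _ _ _ => True)
          (fun _ _ _ _ _ _ => trivial) (fun T'' c _ _ _ _ => by
            have : IsEmpty T''.left := ⟨fun t => hemp.elim (c.left t)⟩
            exact eq_of_isEmpty _ _) isEmpty_locally
        exact ⟨y, eq_of_isEmpty _ _⟩
    obtain ⟨z, hz⟩ := Locally.glue (F := pullback i P.f) (T := R)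
      (Q := fun T' c z => z ≫ pullback.fst i P.f = (yon S).map c ≫ g)
      (fun T' T'' c d z hz => by rw [Category.assoc, hz, Functor.map_comp, Category.assoc])
      (fun T' c z z' hz hz' => by rw [← cancel_mono (pullback.fst i P.f), hz, hz']) hloc
    refine ⟨R, 𝟙 R, z, (EtC.id R).fpC, ?_⟩
    rw [CategoryTheory.Functor.map_id, Category.id_comp]
    exact Locally.ext (hz.imp fun T' c hc => by rw [← hc, Category.assoc])
  exact hsurj.isIso_of_mono

end PushDat

end K640.EtGlue
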