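import Groth.Agent.AlgSp.K640.EtGlueDat
import Mathlib.AlgebraicGeometry.Morphisms.FlatMono

/-!
The étale equivalence relation for the pushout of algebraic spaces along an open immersion `jV : V' ⟶ V` and an
étale `f' : V' ⟶ U`.
-/

set_option autoImplicit false
universe u v
open CategoryTheory CategoryTheory.Limits AlgebraicGeometry Opposite
open AlgSp K613.Basic K613.Cover K640.Joint K640.Loc K640.Glue2

namespace K640.EtGlue

variable {S : Scheme.{u}} {F G U V V' : Sp S} {jV : V' ⟶ V} {f' : V' ⟶ U}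

namespace Dat

variable (D : Dat jV f')

/-- equivalent through `U` -/
def QA {T : Over S} (x y : T ⟶ D.X) : Prop :=
  ∃ x₁ y₁ : T ⟶ D.U₁, x₁ ≫ D.a = x ∧ y₁ ≫ D.a = y ∧ (yon S).map x₁ ≫ D.q = (yon S).map y₁ ≫ D.q

/-- equivalent through `V` -/
def QB {T : Over S} (x y : T ⟶ D.X) : Prop :=
  ∃ x₁ y₁ : T ⟶ D.V₀, x₁ ≫ D.b = x ∧ y₁ ≫ D.b = y ∧ (yon S).map x₁ ≫ D.v = (yon S).map y₁ ≫ D.v

def Q {T : Over S} (x y : T ⟶ D.X) : Prop := D.QA x y ∨ D.QB x y

instance : Mono D.a := mono_of_mono_left _ (by have := D.ha; infer_instance)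
instance : Mono D.b := mono_of_mono_left _ (by have := D.hb; infer_instance)
instance : Mono D.o₁ := mono_of_mono_left _ (by have := D.ho₁; infer_instance)
instance : Mono D.o₂ := mono_of_mono_left _ (by have := D.ho₂; infer_instance)

variable {D}

theorem QA.symm {T : Over S} {x y : T ⟶ D.X} (h : D.QA x y) : D.QA y x := by
  obtain ⟨x₁, y₁, hx, hy, h⟩ := h
  exact ⟨y₁, x₁, hy, hx, h.symm⟩

theorem QB.symm {T : Over S} {x y : T ⟶ D.X} (h : D.QB x y) : D.QB y x := by
  obtain ⟨x₁, y₁, hx, hy, h⟩ := h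
  exact ⟨y₁, x₁, hy, hx, h.symm⟩

theorem Q.symm {T : Over S} {x y : T ⟶ D.X} (h : D.Q x y) : D.Q y x :=
  h.imp QA.symm QB.symm

theorem QA.res {T Z : Over S} {x y : T ⟶ D.X} (h : D.QA x y) (c : Z ⟶ T) : D.QA (c ≫ x) (c ≫ y) := by
  obtain ⟨x₁, y₁, hx, hy, h⟩ := h
  exact ⟨c ≫ x₁, c ≫ y₁, by rw [Category.assoc, hx], by rw [Category.assoc, hy], by
    rw [Functor.map_comp, Functor.map_comp, Category.assoc, Category.assoc, h]⟩

theorem QB.res {T Z : Over S} {x y : T ⟶ D.X} (h : D.QB x y) (c : Z ⟶ T) : D.QB (c ≫ x) (c ≫ y) := by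
  obtain ⟨x₁, y₁, hx, hy, h⟩ := h
  exact ⟨c ≫ x₁, c ≫ y₁, by rw [Category.assoc, hx], by rw [Category.assoc, hy], by
    rw [Functor.map_comp, Functor.map_comp, Category.assoc, Category.assoc, h]⟩

theorem Q.res {T Z : Over S} {x y : T ⟶ D.X} (h : D.Q x y) (c : Z ⟶ T) : D.Q (c ≫ x) (c ≫ y) :=
  h.imp (fun h => h.res c) (fun h => h.res c)

theorem QA.trans {T : Over S} {x y z : T ⟶ D.X} (h : D.QA x y) (h' : D.QA y z) : D.QA x z := by
  obtain ⟨x₁, y₁, hx, hy, h⟩ := h
  obtain ⟨y₂, z₂, hy', hz, h'⟩ := h'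
  have : y₁ = y₂ := by rw [← cancel_mono D.a, hy, hy']
  subst this
  exact ⟨x₁, z₂, hx, hz, h.trans h'⟩

theorem QB.trans {T : Over S} {x y z : T ⟶ D.X} (h : D.QB x y) (h' : D.QB y z) : D.QB x z := by
  obtain ⟨x₁, y₁, hx, hy, h⟩ := h
  obtain ⟨y₂, z₂, hy', hz, h'⟩ := h'
  have : y₁ = y₂ := by rw [← cancel_mono D.b, hy, hy']
  subst this
  exact ⟨x₁, z₂, hx, hz, h.trans h'⟩

/-- a pair of points of `V₀` with the same image in `V`, the first of which lies in `U₁`, comes from `V₁` -/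
theorem exists_V₁ {T : Over S} {x₀ y₀ : T ⟶ D.V₀} {x₁ : T ⟶ D.U₁} (hx : x₁ ≫ D.a = x₀ ≫ D.b)
    (h : (yon S).map x₀ ≫ D.v = (yon S).map y₀ ≫ D.v) :
    ∃ x' y' : T ⟶ D.V₁, x' ≫ D.o₁ = x₁ ∧ x' ≫ D.o₂ = x₀ ∧ y' ≫ D.o₂ = y₀ ∧
      (yon S).map x' ≫ D.v' = (yon S).map y' ≫ D.v' := by
  have h1 : ((yon S).map (D.sqX.lift x₁ x₀ hx) ≫ D.v') ≫ jV = (yon S).map y₀ ≫ D.v := by
    rw [Category.assoc, D.sqV.w, ← Category.assoc, ← Functor.map_comp, D.sqX.lift_snd, h]
  obtain ⟨y', hy'⟩ := (yon S).map_surjective (D.sqV.lift _ _ h1)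
  refine ⟨D.sqX.lift x₁ x₀ hx, y', D.sqX.lift_fst _ _ _, D.sqX.lift_snd _ _ _, ?_, ?_⟩
  · apply (yon S).map_injective
    rw [Functor.map_comp, hy', D.sqV.lift_snd]
  · rw [hy', D.sqV.lift_fst]

/-- the mixed case -/
theorem QB.toQA {T : Over S} {x y : T ⟶ D.X} (h : D.QB x y) {x₁ : T ⟶ D.U₁} (hx₁ : x₁ ≫ D.a = x) : D.QA x y := by
  obtain ⟨x₀, y₀, hx, hy, h⟩ := h
  obtain ⟨x', y', h1, h2, h3, h4⟩ := exists_V₁ (D := D) (hx₁.trans hx.symm) h
  refine ⟨x₁, y' ≫ D.o₁, hx₁, ?_, ?_⟩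
  · rw [Category.assoc, D.sqX.w, ← Category.assoc, h3, hy]
  · rw [← h1, Functor.map_comp, Functor.map_comp, Category.assoc, Category.assoc, ← D.hw, ← Category.assoc, h4,
      Category.assoc]

theorem Q.trans {T : Over S} {x y z : T ⟶ D.X} (h : D.Q x y) (h' : D.Q y z) : D.Q x z := by
  rcases h with h | h <;> rcases h' with h' | h'
  · exact Or.inl (h.trans h')
  · obtain ⟨x₁, y₁, hx, hy, h⟩ := h
    exact Or.inl (QA.trans ⟨x₁, y₁, hx, hy, h⟩ (h'.toQA hy))
  · obtain ⟨y₁, z₁, hy, hz, h'⟩ := h'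
    exact Or.inl ((h.symm.toQA hy).symm.trans ⟨y₁, z₁, hy, hz, h'⟩)
  · exact Or.inr (h.trans h')

variable (D)

theorem locally_refl {T : Over S} (x : T ⟶ D.X) : Locally T (fun _ c => D.Q (c ≫ x) (c ≫ x)) :=
  (locally_of_fpC₂ D.cov x).imp fun _ c h => by
    rcases h with ⟨z, hz⟩ | ⟨z, hz⟩
    · exact Or.inl ⟨z, z, hz, hz, rfl⟩
    · exact Or.inr ⟨z, z, hz, hz, rfl⟩

/-- the relation on `X` -/
structure RelDat where
  R : Over S
  t : R ⟶ D.X
  s : R ⟶ D.X
  ht : Etale t.left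
  hs : Etale s.left
  inj : ∀ (T : Over S) (r r' : T ⟶ R), r ≫ t = r' ≫ t → r ≫ s = r' ≫ s → r = r'
  rel : ∀ (T : Over S) (x y : T ⟶ D.X), (∃ r : T ⟶ R, r ≫ t = x ∧ r ≫ s = y) ↔
    Locally T (fun _ c => D.Q (c ≫ x) (c ≫ y))

theorem RelDat.isEtaleEqvRel {D : Dat jV f'} (E : D.RelDat) : IsEtaleEqvRel E.s E.t where
  injective T r r' h h' := E.inj T r r' h h'
  equivalence T := by
    refine ⟨fun x => ?_, fun {x y} h => ?_, fun {x y z} h h' => ?_⟩
    · exact (E.rel T x x).2 (D.locally_refl x)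
    · rw [E.rel] at h ⊢
      exact h.imp fun _ _ h => h.symm
    · rw [E.rel] at h h' ⊢
      exact (h.and h').imp fun _ _ h => h.1.trans h.2
  etale_left := E.hs
  etale_right := E.ht

/-- two maps to `A × A` through a jointly monic pair given by a represented kernel pair -/
theorem exists_kernelPair {A : Over S} {q : (yon S).obj A ⟶ F} (hq : RepWith @Etale q) :
    ∃ (B : Over S) (x y : B ⟶ A), IsPullback ((yon S).map x) ((yon S).map y) q q ∧ Etale x.left ∧ Etale y.left := by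
  obtain ⟨B, y, x, sq⟩ := hq.1 q
  obtain ⟨x, rfl⟩ := (yon S).map_surjective x
  exact ⟨B, x, y, sq, hq.2 _ _ _ sq.flip, hq.2 _ _ _ sq⟩

theorem etale_of_cover₂ {X A B Y : Over S} {a : A ⟶ X} {b : B ⟶ X} (ha : IsOpenImmersion a.left)
    (hb : IsOpenImmersion b.left) (hc : FpC₂ a b) (f : X ⟶ Y) (h₁ : Etale (a ≫ f).left) (h₂ : Etale (b ≫ f).left) :
    Etale f.left := by
  rw [← repWith_yon_map_iff @Etale]
  refine repWith_of_cover₂ ha hb hc (representable_of_yon _) ?_ ?_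
  · rw [← Functor.map_comp]; exact (repWith_yon_map_iff _ _).2 h₁
  · rw [← Functor.map_comp]; exact (repWith_yon_map_iff _ _).2 h₂

theorem exists_relDat : Nonempty D.RelDat := by
  have := D.ha; have := D.hb; have := D.ho₁; have := D.ho₂
  have hv' : RepWith @Etale D.v' := MorphismProperty.of_isPullback D.sqV.flip D.hv
  obtain ⟨A, tA, sA, sqA, htA, hsA⟩ := exists_kernelPair D.hq
  obtain ⟨B, tB, sB, sqB, htB, hsB⟩ := exists_kernelPair D.hv
  obtain ⟨C, tC, sC, sqC, htC, hsC⟩ := exists_kernelPair hv'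
  -- the maps `C ⟶ A` and `C ⟶ B`
  obtain ⟨α, hα⟩ := (yon S).map_surjective (sqA.lift ((yon S).map (tC ≫ D.o₁)) ((yon S).map (sC ≫ D.o₁)) (by
    rw [Functor.map_comp, Functor.map_comp, Category.assoc, Category.assoc, ← D.hw, ← Category.assoc, sqC.w,
      Category.assoc]))
  have hα1 : α ≫ tA = tC ≫ D.o₁ := (yon S).map_injective (by rw [Functor.map_comp, hα, sqA.lift_fst])
  have hα2 : α ≫ sA = sC ≫ D.o₁ := (yon S).map_injective (by rw [Functor.map_comp, hα, sqA.lift_snd])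
  obtain ⟨β, hβ⟩ := (yon S).map_surjective (sqB.lift ((yon S).map (tC ≫ D.o₂)) ((yon S).map (sC ≫ D.o₂)) (by
    rw [Functor.map_comp, Functor.map_comp, Category.assoc, Category.assoc, ← D.sqV.w, ← Category.assoc, sqC.w,
      Category.assoc]))
  have hβ1 : β ≫ tB = tC ≫ D.o₂ := (yon S).map_injective (by rw [Functor.map_comp, hβ, sqB.lift_fst])
  have hβ2 : β ≫ sB = sC ≫ D.o₂ := (yon S).map_injective (by rw [Functor.map_comp, hβ, sqB.lift_snd])
  have hCext : ∀ (T : Over S) (x y : T ⟶ C), x ≫ tC = y ≫ tC → x ≫ sC = y ≫ sC → x = y := fun T x y h h' =>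
    (yon S).map_injective (sqC.hom_ext (by rw [← Functor.map_comp, h, Functor.map_comp])
      (by rw [← Functor.map_comp, h', Functor.map_comp]))
  have hAext : ∀ (T : Over S) (x y : T ⟶ A), x ≫ tA = y ≫ tA → x ≫ sA = y ≫ sA → x = y := fun T x y h h' =>
    (yon S).map_injective (sqA.hom_ext (by rw [← Functor.map_comp, h, Functor.map_comp])
      (by rw [← Functor.map_comp, h', Functor.map_comp]))
  have hBext : ∀ (T : Over S) (x y : T ⟶ B), x ≫ tB = y ≫ tB → x ≫ sB = y ≫ sB → x = y := fun T x y h h' =>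
    (yon S).map_injective (sqB.hom_ext (by rw [← Functor.map_comp, h, Functor.map_comp])
      (by rw [← Functor.map_comp, h', Functor.map_comp]))
  have hαm : Mono α := ⟨fun x y h => hCext _ _ _
    (by rw [← cancel_mono D.o₁, Category.assoc, Category.assoc, ← hα1, ← Category.assoc, h, Category.assoc])
    (by rw [← cancel_mono D.o₁, Category.assoc, Category.assoc, ← hα2, ← Category.assoc, h, Category.assoc])⟩
  have hβm : Mono β := ⟨fun x y h => hCext _ _ _
    (by rw [← cancel_mono D.o₂, Category.assoc, Category.assoc, ← hβ1, ← Category.assoc, h, Category.assoc])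
    (by rw [← cancel_mono D.o₂, Category.assoc, Category.assoc, ← hβ2, ← Category.assoc, h, Category.assoc])⟩
  have hαe : Etale α.left := by
    have h1 : Etale (α.left ≫ tA.left) := by
      rw [← Over.comp_left, hα1]
      exact inferInstanceAs (Etale (tC.left ≫ D.o₁.left))
    exact Etale.of_comp α.left tA.left
  have hβe : Etale β.left := by
    have h1 : Etale (β.left ≫ tB.left) := by
      rw [← Over.comp_left, hβ1]
      exact inferInstanceAs (Etale (tC.left ≫ D.o₂.left))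
    exact Etale.of_comp β.left tB.left
  have hαo : IsOpenImmersion α.left := by
    have : Mono α.left := inferInstanceAs (Mono ((Over.forget S).map α))
    exact IsOpenImmersion.of_flat_of_mono α.left
  have hβo : IsOpenImmersion β.left := by
    have : Mono β.left := inferInstanceAs (Mono ((Over.forget S).map β))
    exact IsOpenImmersion.of_flat_of_mono β.left
  obtain ⟨R, a, b, ha, hb, hR, sqR⟩ := exists_glue α β hαo hβo
  have ham : Mono a := mono_of_mono_left _ inferInstance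
  have hbm : Mono b := mono_of_mono_left _ inferInstance
  have hglue : ∀ (x : A ⟶ D.X) (y : B ⟶ D.X), α ≫ x = β ≫ y → ∃ z : R ⟶ D.X, a ≫ z = x ∧ b ≫ z = y := by
    intro x y hxy
    obtain ⟨z, hz1, hz2⟩ := hR.glue ham hbm ((yon S).map x) ((yon S).map y) (fun T c d hcd => by
      obtain ⟨k, e1, e2⟩ : ∃ k, k ≫ α = c ∧ k ≫ β = d := ⟨_, sqR.lift_fst c d hcd, sqR.lift_snd _ _ _⟩
      rw [← Functor.map_comp, ← Functor.map_comp, ← e1, ← e2, Category.assoc, Category.assoc, hxy])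
    obtain ⟨z, rfl⟩ := (yon S).map_surjective z
    exact ⟨z, (yon S).map_injective (by rw [Functor.map_comp, hz1]),
      (yon S).map_injective (by rw [Functor.map_comp, hz2])⟩
  obtain ⟨t, hta, htb⟩ := hglue (tA ≫ D.a) (tB ≫ D.b) (by
    rw [← Category.assoc, hα1, ← Category.assoc, hβ1, Category.assoc, Category.assoc, D.sqX.w])
  obtain ⟨s, hsa, hsb⟩ := hglue (sA ≫ D.a) (sB ≫ D.b) (by
    rw [← Category.assoc, hα2, ← Category.assoc, hβ2, Category.assoc, Category.assoc, D.sqX.w])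
  -- the mixed case of injectivity
  have hmix : ∀ (T : Over S) (z : T ⟶ A) (z' : T ⟶ B), (z ≫ a) ≫ t = (z' ≫ b) ≫ t → (z ≫ a) ≫ s = (z' ≫ b) ≫ s →
      z ≫ a = z' ≫ b := by
    intro T z z' h h'
    rw [Category.assoc, Category.assoc, hta, htb, ← Category.assoc, ← Category.assoc] at h
    rw [Category.assoc, Category.assoc, hsa, hsb, ← Category.assoc, ← Category.assoc] at h'
    obtain ⟨x', y', h1, h2, h3, h4⟩ := exists_V₁ (D := D) h (y₀ := z' ≫ sB) (by
      rw [Functor.map_comp, Functor.map_comp, Category.assoc, Category.assoc, sqB.w])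
    have h5 : y' ≫ D.o₁ = z ≫ sA := by
      rw [← cancel_mono D.a, h', Category.assoc, D.sqX.w, ← Category.assoc, h3]
    obtain ⟨w, hw⟩ := (yon S).map_surjective (sqC.lift _ _ h4)
    have hw1 : w ≫ tC = x' := (yon S).map_injective (by rw [Functor.map_comp, hw, sqC.lift_fst])
    have hw2 : w ≫ sC = y' := (yon S).map_injective (by rw [Functor.map_comp, hw, sqC.lift_snd])
    have e1 : w ≫ α = z := hAext _ _ _ (by rw [Category.assoc, hα1, ← Category.assoc, hw1, h1])
      (by rw [Category.assoc, hα2, ← Category.assoc, hw2, h5])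
    have e2 : w ≫ β = z' := hBext _ _ _ (by rw [Category.assoc, hβ1, ← Category.assoc, hw1, h2])
      (by rw [Category.assoc, hβ2, ← Category.assoc, hw2, h3])
    rw [← e1, ← e2, Category.assoc, Category.assoc, sqR.w]
  have hinj : ∀ (T : Over S) (r r' : T ⟶ R), r ≫ t = r' ≫ t → r ≫ s = r' ≫ s → r = r' := by
    intro T r r' h h'
    refine Locally.ext' (((locally_of_fpC₂ hR r).and (locally_of_fpC₂ hR r')).imp fun T' c hc => ?_)
    have k1 : (c ≫ r) ≫ t = (c ≫ r') ≫ t := by rw [Category.assoc, h, Category.assoc]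
    have k2 : (c ≫ r) ≫ s = (c ≫ r') ≫ s := by rw [Category.assoc, h', Category.assoc]
    rcases hc with ⟨⟨z, hz⟩ | ⟨z, hz⟩, ⟨z', hz'⟩ | ⟨z', hz'⟩⟩
    · rw [← hz, ← hz'] at k1 k2 ⊢
      rw [Category.assoc, Category.assoc, hta, ← Category.assoc, ← Category.assoc, cancel_mono] at k1
      rw [Category.assoc, Category.assoc, hsa, ← Category.assoc, ← Category.assoc, cancel_mono] at k2
      rw [hAext _ _ _ k1 k2]
    · rw [← hz, ← hz'] at k1 k2 ⊢
      exact hmix _ _ _ k1 k2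
    · rw [← hz, ← hz'] at k1 k2 ⊢
      exact (hmix _ _ _ k1.symm k2.symm).symm
    · rw [← hz, ← hz'] at k1 k2 ⊢
      rw [Category.assoc, Category.assoc, htb, ← Category.assoc, ← Category.assoc, cancel_mono] at k1
      rw [Category.assoc, Category.assoc, hsb, ← Category.assoc, ← Category.assoc, cancel_mono] at k2
      rw [hBext _ _ _ k1 k2]
  refine ⟨⟨R, t, s, ?_, ?_, hinj, fun T x y => ⟨?_, fun h => ?_⟩⟩⟩
  · refine etale_of_cover₂ ha hb hR t ?_ ?_
    · rw [hta]; exact inferInstanceAs (Etale (tA.left ≫ D.a.left))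
    · rw [htb]; exact inferInstanceAs (Etale (tB.left ≫ D.b.left))
  · refine etale_of_cover₂ ha hb hR s ?_ ?_
    · rw [hsa]; exact inferInstanceAs (Etale (sA.left ≫ D.a.left))
    · rw [hsb]; exact inferInstanceAs (Etale (sB.left ≫ D.b.left))
  · rintro ⟨r, rfl, rfl⟩
    refine (locally_of_fpC₂ hR r).imp fun T' c hc => ?_
    rcases hc with ⟨z, hz⟩ | ⟨z, hz⟩
    · left
      refine ⟨z ≫ tA, z ≫ sA, ?_, ?_, ?_⟩
      · rw [← Category.assoc, ← hz, Category.assoc, Category.assoc, hta]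
      · rw [← Category.assoc, ← hz, Category.assoc, Category.assoc, hsa]
      · rw [Functor.map_comp, Functor.map_comp, Category.assoc, Category.assoc, sqA.w]
    · right
      refine ⟨z ≫ tB, z ≫ sB, ?_, ?_, ?_⟩
      · rw [← Category.assoc, ← hz, Category.assoc, Category.assoc, htb]
      · rw [← Category.assoc, ← hz, Category.assoc, Category.assoc, hsb]
      · rw [Functor.map_comp, Functor.map_comp, Category.assoc, Category.assoc, sqB.w]
  · obtain ⟨r, hr⟩ := Locally.glue' (X := R) (T := T) (Q := fun T' c z => z ≫ t = c ≫ x ∧ z ≫ s = c ≫ y)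
      (fun T' T'' c d z hz => ⟨by rw [Category.assoc, hz.1, Category.assoc], by
        rw [Category.assoc, hz.2, Category.assoc]⟩)
      (fun T' c z z' hz hz' => hinj _ _ _ (hz.1.trans hz'.1.symm) (hz.2.trans hz'.2.symm))
      (h.imp fun T' c hc => by
        rcases hc with ⟨x₁, y₁, hx, hy, hq⟩ | ⟨x₁, y₁, hx, hy, hq⟩
        · obtain ⟨z, hz⟩ := (yon S).map_surjective (sqA.lift _ _ hq)
          have h1 : z ≫ tA = x₁ := (yon S).map_injective (by rw [Functor.map_comp, hz, sqA.lift_fst])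
          have h2 : z ≫ sA = y₁ := (yon S).map_injective (by rw [Functor.map_comp, hz, sqA.lift_snd])
          refine ⟨z ≫ a, ?_, ?_⟩
          · rw [Category.assoc, hta, ← Category.assoc, h1, hx]
          · rw [Category.assoc, hsa, ← Category.assoc, h2, hy]
        · obtain ⟨z, hz⟩ := (yon S).map_surjective (sqB.lift _ _ hq)
          have h1 : z ≫ tB = x₁ := (yon S).map_injective (by rw [Functor.map_comp, hz, sqB.lift_fst])
          have h2 : z ≫ sB = y₁ := (yon S).map_injective (by rw [Functor.map_comp, hz, sqB.lift_snd])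
          refine ⟨z ≫ b, ?_, ?_⟩
          · rw [Category.assoc, htb, ← Category.assoc, h1, hx]
          · rw [Category.assoc, hsb, ← Category.assoc, h2, hy])
    refine ⟨r, Locally.ext' (hr.imp fun T' c hc => ?_), Locally.ext' (hr.imp fun T' c hc => ?_)⟩
    · rw [← hc.1, Category.assoc]
    · rw [← hc.2, Category.assoc]

end Dat

end K640.EtGlue
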