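import Groth.Agent.AlgSp.K640.Loc
import Groth.Agent.FlatA.GlueTwo

/-!
Gluing two schemes over `S` along a common open subscheme; coproducts of two schemes.
-/

set_option autoImplicit false
universe u v
open CategoryTheory CategoryTheory.Limits AlgebraicGeometry Opposite
open AlgSp K613.Basic K613.Cover K640.Joint K640.Loc

namespace K640.Glue2

variable {S : Scheme.{u}} {F G H P Q : Sp S}

attribute [local instance] Groth.Agent.FlatA.GlueTwo.hasPushout Groth.Agent.FlatA.GlueTwo.isOpenImmersion_inl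
  Groth.Agent.FlatA.GlueTwo.isOpenImmersion_inr

theorem pushout_eq_iff {C A B : Scheme.{u}} (i : C ⟶ A) (j : C ⟶ B) [IsOpenImmersion i] [IsOpenImmersion j]
    (x : A) (y : B) (h : pushout.inl i j x = pushout.inr i j y) : ∃ z : C, i z = x ∧ j z = y := by
  have {k l : WalkingSpan} (t : k ⟶ l) := Groth.Agent.FlatA.GlueTwo.isOpenImmersion_span_map i j t
  have h1 : colimit.ι (span i j) WalkingSpan.left x = colimit.ι (span i j) WalkingSpan.right y := h
  rw [Scheme.IsLocallyDirected.ι_eq_ι_iff] at h1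
  obtain ⟨k, fi, fj, z, hz1, hz2⟩ := h1
  obtain (_ | (_ | _)) := k
  · have e1 : fi = WalkingSpan.Hom.fst := Subsingleton.elim _ _
    have e2 : fj = WalkingSpan.Hom.snd := Subsingleton.elim _ _
    subst e1 e2
    exact ⟨z, hz1, hz2⟩
  · exact (IsEmpty.false (self := by exact ⟨fun f => by cases f⟩) fj).elim
  · exact (IsEmpty.false (self := by exact ⟨fun f => by cases f⟩) fi).elim

theorem isPullback_pushout {C A B : Scheme.{u}} (i : C ⟶ A) (j : C ⟶ B) [IsOpenImmersion i] [IsOpenImmersion j] :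
    IsPullback i j (pushout.inl i j) (pushout.inr i j) := by
  let k : C ⟶ pullback (pushout.inl i j) (pushout.inr i j) := pullback.lift i j pushout.condition
  have hk : k ≫ pullback.fst _ _ = i := pullback.lift_fst _ _ _
  have : IsOpenImmersion k := by
    have : IsOpenImmersion (k ≫ pullback.fst (pushout.inl i j) (pushout.inr i j)) := by rw [hk]; infer_instance
    exact IsOpenImmersion.of_comp k (pullback.fst (pushout.inl i j) (pushout.inr i j))
  have : Surjective k := by
    refine ⟨fun p => ?_⟩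
    have h1 : pushout.inl i j (pullback.fst (pushout.inl i j) (pushout.inr i j) p) =
        pushout.inr i j (pullback.snd (pushout.inl i j) (pushout.inr i j) p) := by
      rw [← Scheme.Hom.comp_apply, ← Scheme.Hom.comp_apply, pullback.condition]
    obtain ⟨z, hz, -⟩ := pushout_eq_iff i j _ _ h1
    refine ⟨z, ?_⟩
    apply (pullback.fst (pushout.inl i j) (pushout.inr i j)).isOpenEmbedding.injective
    rw [← Scheme.Hom.comp_apply, hk, hz]
  have : IsIso k := by
    rw [isIso_iff_isOpenImmersion_and_epi_base]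
    exact ⟨inferInstance, (TopCat.epi_iff_surjective _).2 this.surj⟩
  exact IsPullback.of_iso_pullback ⟨pushout.condition⟩ (asIso k) (pullback.lift_fst _ _ _) (pullback.lift_snd _ _ _)

theorem exists_glue {A B C : Over S} (i : C ⟶ A) (j : C ⟶ B) (hi : IsOpenImmersion i.left)
    (hj : IsOpenImmersion j.left) :
    ∃ (G : Over S) (a : A ⟶ G) (b : B ⟶ G), IsOpenImmersion a.left ∧ IsOpenImmersion b.left ∧ FpC₂ a b ∧
      IsPullback i j a b := by
  let G : Over S := Over.mk (pushout.desc (f := i.left) (g := j.left) A.hom B.hom (by rw [Over.w, Over.w]))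
  let a : A ⟶ G := Over.homMk (pushout.inl i.left j.left) (pushout.inl_desc _ _ _)
  let b : B ⟶ G := Over.homMk (pushout.inr i.left j.left) (pushout.inr_desc _ _ _)
  have ha : IsOpenImmersion a.left := inferInstanceAs (IsOpenImmersion (pushout.inl i.left j.left))
  have hb : IsOpenImmersion b.left := inferInstanceAs (IsOpenImmersion (pushout.inr i.left j.left))
  refine ⟨G, a, b, ha, hb, ⟨inferInstance, inferInstance, inferInstance, inferInstance,
    fun t => Groth.Agent.FlatA.GlueTwo.jointly_surjective _ _ t⟩, ?_⟩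
  refine IsPullback.of_map (Over.forget S) ?_ (isPullback_pushout i.left j.left)
  exact Over.OverMorphism.ext pushout.condition

theorem isEmpty_locally {T : Over S} [IsEmpty T.left] {P : ∀ ⦃T' : Over S⦄, (T' ⟶ T) → Prop} : Locally T P :=
  Locally.of_fpF (ι := PEmpty.{u + 1}) (T' := fun i => i.elim) (c := fun i => i.elim)
    ⟨fun i => i.elim, fun i => i.elim, fun t => isEmptyElim t⟩ (fun i => i.elim)

theorem eq_of_isEmpty {T : Over S} [IsEmpty T.left] (x y : (yon S).obj T ⟶ F) : x = y := isEmpty_locally.ext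

theorem exists_coprod (A B : Over S) :
    ∃ (G : Over S) (a : A ⟶ G) (b : B ⟶ G), IsOpenImmersion a.left ∧ IsOpenImmersion b.left ∧ FpC₂ a b ∧
      ∀ (T : Over S) (x : T ⟶ A) (y : T ⟶ B), x ≫ a = y ≫ b → IsEmpty T.left := by
  let G : Over S := Over.mk (coprod.desc A.hom B.hom)
  let a : A ⟶ G := Over.homMk coprod.inl (coprod.inl_desc _ _)
  let b : B ⟶ G := Over.homMk coprod.inr (coprod.inr_desc _ _)
  have ha : IsOpenImmersion a.left := inferInstanceAs (IsOpenImmersion (coprod.inl (X := A.left) (Y := B.left)))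
  have hb : IsOpenImmersion b.left := inferInstanceAs (IsOpenImmersion (coprod.inr (X := A.left) (Y := B.left)))
  refine ⟨G, a, b, ha, hb, ⟨inferInstance, inferInstance, inferInstance, inferInstance, fun t => ?_⟩,
    fun T x y h => ⟨fun t => ?_⟩⟩
  · have h1 := (isCompl_range_inl_inr A.left B.left).sup_eq_top
    have h2 : t ∈ Set.range (coprod.inl (X := A.left) (Y := B.left)) ⊔ Set.range (coprod.inr (X := A.left) (Y := B.left)) := by
      rw [h1]; trivial
    exact h2
  · have h1 := congrArg (fun z => z.left t) h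
    exact inl_ne_inr A.left B.left (x.left t) (y.left t) h1

/-- gluing along a cover by two monomorphisms -/
theorem _root_.K640.Joint.FpC₂.glue {T T₁ T₂ : Over S} {c₁ : T₁ ⟶ T} {c₂ : T₂ ⟶ T} (h : FpC₂ c₁ c₂) (h₁ : Mono c₁)
    (h₂ : Mono c₂) (x₁ : (yon S).obj T₁ ⟶ F) (x₂ : (yon S).obj T₂ ⟶ F)
    (h₁₂ : ∀ (R : Over S) (u : R ⟶ T₁) (v : R ⟶ T₂), u ≫ c₁ = v ≫ c₂ → (yon S).map u ≫ x₁ = (yon S).map v ≫ x₂) :
    ∃ y : (yon S).obj T ⟶ F, (yon S).map c₁ ≫ y = x₁ ∧ (yon S).map c₂ ≫ y = x₂ := by
  obtain ⟨y, hy, -⟩ := h.fpF.glue (F := F) (fun k => match k with | ⟨true⟩ => x₁ | ⟨false⟩ => x₂)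
    (fun i j R u v huv => by
      match i, j with
      | ⟨true⟩, ⟨true⟩ =>
        have : u = v := (cancel_mono c₁).1 huv
        rw [this]
      | ⟨true⟩, ⟨false⟩ => exact h₁₂ R u v huv
      | ⟨false⟩, ⟨true⟩ => exact (h₁₂ R v u huv.symm).symm
      | ⟨false⟩, ⟨false⟩ =>
        have : u = v := (cancel_mono c₂).1 huv
        rw [this])
  exact ⟨y, hy ⟨true⟩, hy ⟨false⟩⟩

theorem mono_of_mono_left {A B : Over S} (f : A ⟶ B) (h : Mono f.left) : Mono f :=
  ⟨fun x y hxy => Over.OverMorphism.ext (by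
    rw [← cancel_mono f.left]
    exact congrArg (fun z => z.left) hxy)⟩

end K640.Glue2
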