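import Groth.Agent.S12237
import Groth.Agent.Proet.WEtale2
import Groth.Agent.Proet.IndFlat
import Groth.Agent.Dual.H373.GorComp
import Groth.Agent.Sga2lef.H99.ClosedFib
import Groth.Agent.S0538
import Groth.Agent.S0539
import Groth.Agent.S0540
import Groth.Agent.Desc.FlatFactor

/-!
# Gorenstein local homomorphisms and strict henselizations
-/

set_option autoImplicit false
universe u
open IsLocalRing LocCoh

namespace K640.GorSH

open Groth.Agent

variable {A B : Type u} [CommRing A] [CommRing B] [IsLocalRing A] [IsLocalRing B] (f : A →+* B) [IsLocalHom f]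
  (R : Type u) [CommRing R] [IsLocalRing R] [Algebra B R] [IsLocalHom (algebraMap B R)]
  [Hensel.IsStrictHenselization B R]
  (R' : Type u) [CommRing R'] [IsLocalRing R'] [Algebra A R'] [IsLocalHom (algebraMap A R')]
  [Hensel.IsStrictHenselization A R']
  (φ : R' →+* R) [IsLocalHom φ]

theorem flat_iff (hφ : φ.comp (algebraMap A R') = (algebraMap B R).comp f) : f.Flat ↔ φ.Flat := by
  have hBR : Module.FaithfullyFlat B R := S0539.result B R
  have hAR' : Module.FaithfullyFlat A R' := S0539.result A R'
  have hBR' : (algebraMap B R).FaithfullyFlat := RingHom.faithfullyFlat_algebraMap_iff.2 hBR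
  constructor
  · intro h
    have h1 : ((algebraMap B R).comp f).Flat := RingHom.Flat.comp h (RingHom.flat_algebraMap_iff.2 inferInstance)
    let _ : Algebra R' R := φ.toAlgebra
    let _ : Algebra A R := ((algebraMap B R).comp f).toAlgebra
    have : IsScalarTower A R' R := IsScalarTower.of_algebraMap_eq' hφ.symm
    have : Module.Flat A R := h1
    have : Algebra.WeaklyEtale A R' := Proet.IndFlat.weaklyEtale_of_isIndEtale A R' (S12237.result A R')
    exact Proet.WEtale2.flat_of_weaklyEtale_of_flat A R' R
  · intro h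
    refine Desc.FlatFactor.flat_of_comp_flat f (algebraMap B R) ?_ hBR'
    rw [← hφ]
    exact RingHom.Flat.comp (RingHom.flat_algebraMap_iff.2 inferInstance) h

theorem map_maximalIdeal_eq (hφ : φ.comp (algebraMap A R') = (algebraMap B R).comp f) :
    (maximalIdeal R').map φ = ((maximalIdeal A).map f).map (algebraMap B R) := by
  rw [← S0538.result A R', Ideal.map_map, Ideal.map_map, hφ]

theorem gor_iff (hφ : φ.comp (algebraMap A R') = (algebraMap B R).comp f)
    (hN : IsNoetherianRing (B ⧸ (maximalIdeal A).map f)) :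
    IsGorensteinLocalRing (B ⧸ (maximalIdeal A).map f) ↔ IsGorensteinLocalRing (R ⧸ (maximalIdeal R').map φ) := by
  rw [map_maximalIdeal_eq f R R' φ hφ]
  have hI : (maximalIdeal A).map f ≤ maximalIdeal B :=
    ((IsLocalRing.local_hom_TFAE f).out 0 2).1 ‹IsLocalHom f›
  have hIR : ((maximalIdeal A).map f).map (algebraMap B R) ≤ maximalIdeal R :=
    (Ideal.map_mono hI).trans (((IsLocalRing.local_hom_TFAE (algebraMap B R)).out 0 2).1 ‹IsLocalHom (algebraMap B R)›)
  have hBR : Module.FaithfullyFlat B R := S0539.result B R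
  have hn1 : Nontrivial (B ⧸ (maximalIdeal A).map f) :=
    Ideal.Quotient.nontrivial_iff.2 (ne_top_of_le_ne_top (maximalIdeal.isMaximal B).ne_top hI)
  have hn2 : Nontrivial (R ⧸ ((maximalIdeal A).map f).map (algebraMap B R)) :=
    Ideal.Quotient.nontrivial_iff.2 (ne_top_of_le_ne_top (maximalIdeal.isMaximal R).ne_top hIR)
  have hl1 : IsLocalRing (B ⧸ (maximalIdeal A).map f) :=
    .of_surjective' (Ideal.Quotient.mk _) Ideal.Quotient.mk_surjective
  have hl2 : IsLocalRing (R ⧸ ((maximalIdeal A).map f).map (algebraMap B R)) :=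
    .of_surjective' (Ideal.Quotient.mk _) Ideal.Quotient.mk_surjective
  obtain ⟨hloc, hsh⟩ := Sga2lef.H99.ClosedFib.isStrictHenselization_quotient B R ((maximalIdeal A).map f) hI
  have hN' : IsNoetherianRing (R ⧸ ((maximalIdeal A).map f).map (algebraMap B R)) :=
    (S0540.result _ _).1 hN
  rw [Dual.H373.GorComp.isGorenstein_quot_iff B R hI, S0538.result B R]
  refine ⟨fun h => ⟨h, ?_⟩, fun h => h.1⟩
  let _ : Field (R ⧸ maximalIdeal R) := Ideal.Quotient.field _
  exact LoccohA.GorBC.isGorensteinLocalRing_of_field _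

end K640.GorSH
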