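import Groth.Agent.AlgSp.K640.QNorm
import Groth.Agent.AlgSp.K610.Sub
import Groth.Agent.AlgSp.K615.Desc
import Groth.Agent.AlgSp.K639.Dim2

/-!
# Image sheaves and normalization in an image sheaf
-/

set_option autoImplicit false
universe u v
open CategoryTheory CategoryTheory.Limits AlgebraicGeometry Opposite AlgSp

namespace K640.ImgNorm

open K640.QNorm K615.UN K615.Aff

variable {S : Scheme.{u}} {X Y Z Q : Sp S}

/-- the sieve of local lifts -/
def liftSieve (g : Y ⟶ X) {T : Over S} (x : (yon S).obj T ⟶ X) : Sieve T where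
  arrows T' k := ∃ v : (yon S).obj T' ⟶ Y, v ≫ g = (yon S).map k ≫ x
  downward_closed := by
    rintro T' T'' k ⟨v, hv⟩ l
    exact ⟨(yon S).map l ≫ v, by rw [Category.assoc, hv, (yon S).map_comp, Category.assoc]⟩

theorem liftSieve_pullback (g : Y ⟶ X) {T T' : Over S} (x : (yon S).obj T ⟶ X) (k : T' ⟶ T) :
    liftSieve g ((yon S).map k ≫ x) = (liftSieve g x).pullback k := by
  ext T'' l
  change (∃ _, _) ↔ (∃ _, _)
  rw [(yon S).map_comp, Category.assoc]

/-- local lifts -/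
def pred (g : Y ⟶ X) : K610.Sub.LocPred X where
  pr T x := liftSieve g x ∈ J S T
  map φ x h := by
    rw [liftSieve_pullback]
    exact (J S).pullback_stable φ h
  loc := by
    intro T x h
    let R : Sieve T :=
      { arrows := fun T' k => liftSieve g ((yon S).map k ≫ x) ∈ J S T'
        downward_closed := by
          intro T' T'' k hk l
          rw [(yon S).map_comp, Category.assoc, liftSieve_pullback]
          exact (J S).pullback_stable l hk }
    have hR : R ∈ J S T := K615.Cov.sieve_mem R fun t => by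
      obtain ⟨Y, φ, h1, h2, h3, h4⟩ := h t
      exact ⟨Y, φ, h4, h1, h2, h3⟩
    refine (J S).transitive hR _ fun T' k hk => ?_
    rw [← liftSieve_pullback]
    exact hk

/-- `Q` is the image sheaf of `g`. -/
structure IsImg (g : Y ⟶ X) (e : Y ⟶ Q) (m : Q ⟶ X) : Prop where
  w : e ≫ m = g
  mono : Mono m
  surj : ∀ (T : Over S) (y : (yon S).obj T ⟶ Q), liftSieve e y ∈ J S T

theorem exists_img (g : Y ⟶ X) : ∃ (Q : Sp S) (e : Y ⟶ Q) (m : Q ⟶ X), IsImg g e m := by
  obtain ⟨e, he⟩ := (pred g).exists_lift g (fun T x => by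
    change liftSieve g (x ≫ g) ∈ J S T
    have : liftSieve g (x ≫ g) = ⊤ := by
      rw [← Sieve.id_mem_iff_eq_top]
      exact ⟨x, by simp⟩
    rw [this]
    exact (J S).top_mem _)
  refine ⟨(pred g).sub, e, (pred g).ι, he, inferInstance, fun T y => ?_⟩
  have h := (pred g).pr_comp y
  change liftSieve g (y ≫ (pred g).ι) ∈ J S T at h
  have : liftSieve g (y ≫ (pred g).ι) = liftSieve e y := by
    ext T' k
    change (∃ _, _) ↔ (∃ _, _)
    refine exists_congr fun v => ⟨fun hv => ?_, fun hv => ?_⟩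
    · rw [← cancel_mono (pred g).ι, Category.assoc, Category.assoc, he]
      exact hv
    · calc v ≫ g = (v ≫ e) ≫ (pred g).ι := by rw [Category.assoc, he]
        _ = _ := by rw [hv, Category.assoc]
  rwa [← this]

theorem IsImg.of_isPullback {g : Y ⟶ X} {e : Y ⟶ Q} {m : Q ⟶ X} (h : IsImg g e m) {X' : Sp S} {x : X' ⟶ X}
    {Y' : Sp S} {yY : Y' ⟶ Y} {g' : Y' ⟶ X'} (sqY : IsPullback yY g' g x) {Q' : Sp S} {yQ : Q' ⟶ Q} {m' : Q' ⟶ X'}
    (sqQ : IsPullback yQ m' m x) {e' : Y' ⟶ Q'} (he2 : e' ≫ m' = g') : IsImg g' e' m' := by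
  have := h.mono
  have hm' : Mono m' := ⟨fun a b hab => sqQ.hom_ext (by
    rw [← cancel_mono m, Category.assoc, Category.assoc, sqQ.w, ← Category.assoc, hab, Category.assoc]) hab⟩
  refine ⟨he2, hm', fun T y => ?_⟩
  refine (J S).superset_covering ?_ (h.surj T (y ≫ yQ))
  rintro T' k ⟨v, hv⟩
  have h1 : v ≫ g = ((yon S).map k ≫ y ≫ m') ≫ x := by
    rw [← h.w, ← Category.assoc, hv, Category.assoc, Category.assoc, Category.assoc, Category.assoc, sqQ.w]
  refine ⟨sqY.lift v _ h1, ?_⟩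
  rw [← cancel_mono m', Category.assoc, he2, sqY.lift_snd, Category.assoc]

theorem dCov_of_chart {U : Over S} (hU : IsAffine U.left) {YU QU : Sp S} {gU : YU ⟶ (yon S).obj U} {eU : YU ⟶ QU}
    {mU : QU ⟶ (yon S).obj U} (h : IsImg gU eU mU) {V : Over S} (hV : IsAffine V.left) {q0 : (yon S).obj V ⟶ YU}
    (hq1 : RepWith @Etale q0) (hq2 : RepWith @Surjective q0) {v : V ⟶ U} (hv : q0 ≫ gU = (yon S).map v) :
    DCov (q0 ≫ eU) (pullback.fst v v) (pullback.snd v v) := by
  have sq := IsPullback.of_hasPullback v v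
  have := h.mono
  have hqv : (q0 ≫ eU) ≫ mU = (yon S).map v := by rw [Category.assoc, h.w, hv]
  have hsurj : ∀ (T : Over S) (y : (yon S).obj T ⟶ QU), ∃ R ∈ J S T, ∀ (T' : Over S) (g : T' ⟶ T), R g →
      ∃ w : T' ⟶ V, (yon S).map w ≫ q0 ≫ eU = (yon S).map g ≫ y := by
    intro T y
    refine ⟨liftSieve (q0 ≫ eU) y, ?_, ?_⟩
    · refine (J S).transitive (h.surj T y) _ fun T' k hk => ?_
      obtain ⟨w, hw⟩ := hk
      obtain ⟨R, hR, H⟩ := K615.Cov.exists_lift q0 hq1 hq2 T' w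
      refine (J S).superset_covering ?_ hR
      intro T'' l hl
      obtain ⟨z, hz⟩ := H T'' l hl
      refine ⟨z, ?_⟩
      rw [← Category.assoc, hz, Category.assoc, hw, (yon S).map_comp, Category.assoc]
    · rintro T' k ⟨w, hw⟩
      obtain ⟨w, rfl⟩ := (yon S).map_surjective w
      exact ⟨w, hw⟩
  have hec : ECov (q0 ≫ eU) (pullback.fst v v) (pullback.snd v v) := by
    refine ⟨hV, K615.Int.isAffine_of_isPullback sq hV hV hU, ?_, hsurj⟩
    rw [← cancel_mono mU, Category.assoc, hqv, Category.assoc, hqv, ← (yon S).map_comp, ← (yon S).map_comp, sq.w]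
  refine ⟨hec, fun {N} n hn => ?_⟩
  obtain ⟨m, hm⟩ := hec.jsurj.exists_desc (fun _ => (yon S).map n) (by
    intro T _ _ y y' hy
    obtain ⟨y, rfl⟩ := (yon S).map_surjective y
    obtain ⟨y', rfl⟩ := (yon S).map_surjective y'
    have h1 : y ≫ v = y' ≫ v := (yon S).map_injective (by
      rw [(yon S).map_comp, (yon S).map_comp, ← hqv, ← Category.assoc, hy, Category.assoc])
    rw [← (yon S).map_comp, ← (yon S).map_comp]
    congr 1
    rw [← sq.lift_fst y y' h1, Category.assoc, hn, ← Category.assoc, sq.lift_snd])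
  exact ⟨m, hm ()⟩

theorem exists_dCov {g : Y ⟶ X} (hqc : IsQuasiCompactMor g) {e : Y ⟶ Q} {m : Q ⟶ X} (h : IsImg g e m) {U : Over S}
    (hU : IsAffine U.left) {a : (yon S).obj U ⟶ X} {YU : Sp S} {yY : YU ⟶ Y} {gU : YU ⟶ (yon S).obj U}
    (sqY : IsPullback yY gU g a) {QU : Sp S} {yQ : QU ⟶ Q} {mU : QU ⟶ (yon S).obj U} (sqQ : IsPullback yQ mU m a)
    {eU : YU ⟶ QU} (he2 : eU ≫ mU = gU) :
    ∃ (V : Over S) (q0 : (yon S).obj V ⟶ YU) (v : V ⟶ U), IsAffine V.left ∧ RepWith @Etale q0 ∧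
      RepWith @Surjective q0 ∧ q0 ≫ gU = (yon S).map v ∧ DCov (q0 ≫ eU) (pullback.fst v v) (pullback.snd v v) := by
  have h1 : IsQuasiCompactSp ((yon S).obj U) := K639.Dim2.isQuasiCompactSp_yon U
  obtain ⟨V, q, hV, hq1, hq2⟩ := K609.QC.exists_affine_chart (hqc (IsAlgSpace.yon_obj U) h1 a yY gU sqY)
  obtain ⟨v, hv⟩ := (yon S).map_surjective (q ≫ gU)
  exact ⟨V, q, v, hV, hq1, hq2, hv.symm, dCov_of_chart hU (h.of_isPullback sqY sqQ he2) hV hq1 hq2 hv.symm⟩

/-- `π : Y ⟶ X'` is the quotient of `Y` by `Y ×_X Y` in the category of spaces integral over `X`. -/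
structure CData {X Y X' : Sp S} (g : Y ⟶ X) (π : Y ⟶ X') (c : X' ⟶ X) : Prop where
  w : π ≫ c = g
  integral : IsIntegralMor c
  coeq : ∀ (T : Over S) (a b : (yon S).obj T ⟶ Y), a ≫ g = b ≫ g → a ≫ π = b ≫ π
  charts : ∀ (U : Over S), IsAffine U.left → ∀ (a : (yon S).obj U ⟶ X), RepWith @Etale a →
    ∀ (YU : Sp S) (yY : YU ⟶ Y) (gU : YU ⟶ (yon S).obj U), IsPullback yY gU g a →
    ∀ (V : Over S), IsAffine V.left → ∀ (q0 : (yon S).obj V ⟶ YU), RepWith @Etale q0 → RepWith @Surjective q0 →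
    ∀ (v : V ⟶ U), q0 ≫ gU = (yon S).map v →
    ∃ (N : Over S) (n : V ⟶ N) (νU : N ⟶ U) (m : (yon S).obj N ⟶ X'),
      NChar n νU (pullback.fst v v) (pullback.snd v v) ∧ n ≫ νU = v ∧ IsPullback m ((yon S).map νU) c a ∧
      q0 ≫ yY ≫ π = (yon S).map n ≫ m

theorem exists_cData (g : Y ⟶ X) (hX : IsAlgSpace X) (hqc : IsQuasiCompactMor g) :
    ∃ (X' : Sp S) (π : Y ⟶ X') (c : X' ⟶ X), IsAlgSpace X' ∧ CData g π c := by
  obtain ⟨Q, e, m, h⟩ := exists_img g
  have hmono := h.mono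
  obtain ⟨X', ν, f', hX', hUN⟩ := exists_uNorm (f := m) hX (fun c => by
    obtain ⟨V, q0, v, hV, hq1, hq2, hv, hdc⟩ := exists_dCov hqc h c.affine (IsPullback.of_hasPullback g c.a)
      (IsPullback.of_hasPullback m c.a)
      (eU := (IsPullback.of_hasPullback m c.a).lift (pullback.fst g c.a ≫ e) (pullback.snd g c.a) (by
        rw [Category.assoc, h.w, pullback.condition])) ((IsPullback.of_hasPullback m c.a).lift_snd _ _ _)
    exact ⟨V, _, _, _, _, hdc⟩)
  refine ⟨X', e ≫ f', ν, hX', ?_, hUN.integral, ?_, ?_⟩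
  · rw [Category.assoc, hUN.w, h.w]
  · intro T a b hab
    have h1 : a ≫ e = b ≫ e := by
      rw [← cancel_mono m, Category.assoc, Category.assoc, h.w, hab]
    rw [← Category.assoc, h1, Category.assoc]
  · intro U hU a ha YU yY gU sqY V hV q0 hq1 hq2 v hv
    have sqQ := IsPullback.of_hasPullback m a
    let eU : YU ⟶ pullback m a := sqQ.lift (yY ≫ e) gU (by rw [Category.assoc, h.w, sqY.w])
    have he1 : eU ≫ pullback.fst m a = yY ≫ e := sqQ.lift_fst _ _ _
    have he2 : eU ≫ pullback.snd m a = gU := sqQ.lift_snd _ _ _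
    have hdc := dCov_of_chart hU (h.of_isPullback sqY sqQ he2) hV hq1 hq2 hv
    obtain ⟨N, n, νU, m', hN, h1, h2, h3⟩ := K640.QNorm.UNorm.exists_chart hUN hU ha sqQ hdc
    refine ⟨N, n, νU, m', hN, ?_, h2, ?_⟩
    · apply (yon S).map_injective
      rw [← h1, Category.assoc, he2, hv]
    · rw [← h3]
      simp only [Category.assoc]
      rw [← Category.assoc eU, he1, Category.assoc]

end K640.ImgNorm
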