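import Groth.Agent.AlgSp.K640.Base
import Groth.Agent.AlgSp.K598.Red
import Groth.Agent.AlgSp.K647.FamOps
import Groth.Agent.AlgSp.K647.EtLoc
import Groth.Agent.AlgSp.K647.QcIdl
import Groth.Agent.AlgSp.K610.Factor
import Groth.Agent.AlgSp.K617.FinLoc
import Groth.Agent.AlgSp.K626.FinOpen
import Groth.Agent.AlgSp.K615.Cov
import Groth.Agent.S10203
import Groth.Agent.S10066

/-!
# Noetherian algebraic spaces have jointly injective families of finite morphisms from schemes
-/

set_option autoImplicit false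
universe u v
open CategoryTheory CategoryTheory.Limits AlgebraicGeometry Opposite AlgSp

namespace K640.Inj

section ring

theorem exists_pow_mul_of_fg {B : Type*} [CommRing B] (f : B) (K : Ideal B) (hK : K.FG)
    (h : ∀ a ∈ K, ∃ n, f ^ n * a = 0) : ∃ n, ∀ a ∈ K, f ^ n * a = 0 := by
  obtain ⟨s, rfl⟩ := hK
  choose! n hn using h
  refine ⟨s.sup n, fun a ha => ?_⟩
  have h1 : Ideal.span (s : Set B) ≤ LinearMap.ker (LinearMap.mulLeft B (f ^ s.sup n)) := by
    rw [Ideal.span_le]
    intro x hx
    change f ^ s.sup n * x = 0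
    have h2 : n x ≤ s.sup n := Finset.le_sup hx
    obtain ⟨d, hd⟩ := Nat.exists_eq_add_of_le h2
    rw [hd, pow_add, mul_comm (f ^ n x), mul_assoc, hn x (Ideal.subset_span hx), mul_zero]
  exact h1 ha

/-- Artin-Rees: if every element of `K` is killed by a power of every element of `J`, then `K ⊓ J ^ m = 0` for some `m`. -/
theorem ring_key {B : Type*} [CommRing B] [IsNoetherianRing B] (J K : Ideal B)
    (h : ∀ a ∈ K, ∀ f ∈ J, ∃ n, f ^ n * a = 0) : ∃ m, ∀ a ∈ K, a ∈ J ^ m → a = 0 := by
  have h1 : J ≤ (Submodule.annihilator K).radical := by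
    intro f hf
    obtain ⟨n, hn⟩ := exists_pow_mul_of_fg f K (IsNoetherian.noetherian K) (fun a ha => h a ha f hf)
    refine ⟨n, ?_⟩
    rw [Submodule.mem_annihilator]
    intro a ha
    exact hn a ha
  obtain ⟨N, hN⟩ := Ideal.exists_pow_le_of_le_radical_of_fg h1 (IsNoetherian.noetherian J)
  obtain ⟨k, hk⟩ := J.exists_pow_inf_eq_pow_smul (M := B) K
  refine ⟨k + N, fun a ha ha' => ?_⟩
  have h2 := hk (k + N) (Nat.le_add_right k N)
  have h3 : a ∈ J ^ (k + N) • (⊤ : Submodule B B) ⊓ K := by
    refine ⟨?_, ha⟩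
    rw [← Ideal.one_eq_top] at *
    simpa using ha'
  rw [h2, Nat.add_sub_cancel_left] at h3
  have h4 : J ^ N • (J ^ k • (⊤ : Submodule B B) ⊓ K) ≤ ⊥ := by
    rw [Submodule.smul_le]
    intro r hr n hn
    exact (Submodule.mem_annihilator.1 (hN hr)) n hn.2
  exact h4 h3

end ring

open K598.ClFam K598.Red K647.FamOps

variable {S : Scheme.{u}} {Y Z Z' : Sp S}

/-- the family `g k : yon (T k) ⟶ Z` is jointly injective on the functions of the chart `q`. -/
def JInj {ι : Type*} {T : ι → Over S} (g : ∀ k, (yon S).obj (T k) ⟶ Z) {W : Over S} (q : (yon S).obj W ⟶ Z) : Prop :=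
  ∀ a : Γ(W.left, ⊤), (∀ (k : ι) (P : Over S) (u : P ⟶ W) (v : P ⟶ T k),
    (yon S).map u ≫ q = (yon S).map v ≫ g k → u.left.appTop a = 0) → a = 0

/-- there is a finite family of finite morphisms from schemes, jointly injective on the functions of the chart `q` -/
def HasInj {W : Over S} (q : (yon S).obj W ⟶ Z) : Prop :=
  ∃ (n : ℕ) (T : Fin n → Over S) (g : ∀ k, (yon S).obj (T k) ⟶ Z), (∀ k, IsFiniteMor (g k)) ∧ JInj g q

/-- powers of a family of ideals -/
noncomputable def fpow (A : Fam Z) : ℕ → Fam Z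
  | 0 => A
  | n + 1 => mul (fpow A n) A

theorem fpow_I (A : Fam Z) (n : ℕ) {T : Over S} (g : (yon S).obj T ⟶ Z) : (fpow A n).I g = (A.I g) ^ (n + 1) := by
  induction n with
  | zero => exact (pow_one _).symm
  | succ n ih =>
    change (fpow A n).I g * A.I g = _
    rw [ih, ← pow_succ]

/-- the functions killed by a morphism from a scheme -/
def kerIdeal {T : Over S} (g : (yon S).obj T ⟶ Z) {W : Over S} (q : (yon S).obj W ⟶ Z) : Ideal Γ(W.left, ⊤) where
  carrier := {a | ∀ (P : Over S) (u : P ⟶ W) (v : P ⟶ T), (yon S).map u ≫ q = (yon S).map v ≫ g →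
    u.left.appTop a = 0}
  add_mem' := by
    intro a b ha hb P u v h
    rw [map_add, ha P u v h, hb P u v h, add_zero]
  zero_mem' := by
    intro P u v h
    rw [map_zero]
  smul_mem' := by
    intro c a ha P u v h
    rw [smul_eq_mul, map_mul, ha P u v h, mul_zero]

theorem injective_of_etale {P D : Scheme.{u}} (f : P ⟶ D) [IsAffine P] [IsAffine D] [Flat f] [Surjective f] :
    Function.Injective f.appTop := by
  have h := (Flat.flat_and_surjective_iff_faithfullyFlat_of_isAffine f).1 ⟨inferInstance, inferInstance⟩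
  exact h.injective

theorem isQuasiCompactSp_of_chart {W : Over S} (hW : IsAffine W.left) {q : (yon S).obj W ⟶ Z}
    (hq1 : RepWith @Etale q) (hq2 : RepWith @Surjective q) : IsQuasiCompactSp Z :=
  ⟨W, q, hq1, hq2, inferInstance⟩

theorem res_eq_zero {X : Scheme.{u}} (U : X.Opens) (a : Γ(X, ⊤)) (h : U.ι.appTop a = 0) :
    X.presheaf.map (homOfLE (le_top : U ≤ ⊤)).op a = 0 := by
  have h1 : X.presheaf.map (homOfLE (le_top : U ≤ ⊤)).op = U.ι.appTop ≫ U.topIso.hom :=
    (X.presheaf.map_comp (homOfLE (le_top : U.ι ''ᵁ ⊤ ≤ ⊤)).op (eqToHom U.ι_image_top.symm).op)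
  rw [h1, CommRingCat.comp_apply, h, map_zero]

/-- Elements of `kerIdeal` are killed by powers of the functions vanishing outside of the flat locus. -/
theorem exists_pow_mul {W : Over S} (hW : IsAffine W.left) {q : (yon S).obj W ⟶ Z} {T : Over S}
    {g : (yon S).obj T ⟶ Z} (hg : IsFiniteMor g) (hgs : IsSurjectiveMor g) {U : Sp S} {j : U ⟶ Z}
    (hj : RepWith @IsOpenImmersion j)
    (hU : ∀ (P : Sp S) (fst : P ⟶ (yon S).obj T) (snd : P ⟶ U), IsPullback fst snd g j →
        IsFiniteMor snd ∧ IsEtaleMor snd) {a : Γ(W.left, ⊤)} (ha : a ∈ kerIdeal g q) {f : Γ(W.left, ⊤)}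
    (hf : ∀ w : W.left, w ∈ W.left.basicOpen f → Points.ofPt q w ∈ Set.range (Points.map j)) :
    ∃ n, f ^ n * a = 0 := by
  obtain ⟨δ, hδ⟩ := K610.Factor.exists_lift_open hj ((yon S).map (K615.Cov.opnι W (W.left.basicOpen f)) ≫ q) (by
    rintro _ ⟨w, rfl⟩
    rw [K610.Base.ofPt_map_comp]
    refine hf _ ?_
    have h1 : (K615.Cov.opnι W (W.left.basicOpen f)).left w ∈
      Set.range (K615.Cov.opnι W (W.left.basicOpen f)).left := ⟨w, rfl⟩
    rw [K615.Cov.range_opnι] at h1
    exact h1)
  have hD : IsAffine (K615.Cov.opn W (W.left.basicOpen f)).left :=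
    (isAffineOpen_top W.left).basicOpen f
  obtain ⟨P, i, fst, sq, hP, hi⟩ := hg hD ((yon S).map (K615.Cov.opnι W (W.left.basicOpen f)) ≫ q)
  obtain ⟨V', v', fst', sq'⟩ := hj.1 g
  obtain ⟨-, he⟩ := hU _ _ _ sq'.flip
  have he' : RepWith @Etale fst' := by
    have := he (𝟙 _) (repWith_id _ _)
    rwa [Category.id_comp] at this
  have e1 : fst ≫ g = ((yon S).map i ≫ δ) ≫ j := by rw [sq.w, Category.assoc, hδ]
  have sq2 : IsPullback (sq'.flip.lift fst _ e1) ((yon S).map i) fst' δ := by
    refine IsPullback.of_right (h₁₂ := (yon S).map v') (h₂₂ := j) (v₁₃ := g) ?_ (sq'.flip.lift_snd _ _ _) sq'.flip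
    rw [sq'.flip.lift_fst, hδ]
    exact sq
  have hie : Etale i.left := he'.2 δ _ i sq2
  have his : Surjective i.left := ⟨fun d => by
    obtain ⟨x, hx⟩ := hgs (Points.ofPt ((yon S).map (K615.Cov.opnι W (W.left.basicOpen f)) ≫ q) d)
    obtain ⟨v, -, hv⟩ := K610.Base.exists_of_isPullback_yon sq x d hx
    exact ⟨v, hv⟩⟩
  obtain ⟨t, rfl⟩ := (yon S).map_surjective fst
  have h1 := ha P (i ≫ K615.Cov.opnι W (W.left.basicOpen f)) t (by
    rw [(yon S).map_comp, Category.assoc, ← sq.w])
  rw [Over.comp_left, Scheme.Hom.comp_appTop, CommRingCat.comp_apply] at h1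
  have h2 := injective_of_etale i.left (h1.trans (map_zero _).symm)
  have h3 := res_eq_zero (W.left.basicOpen f) a h2
  exact exists_pow_mul_eq_zero_of_res_basicOpen_eq_zero_of_isAffineOpen W.left (isAffineOpen_top _) a f h3

theorem step [QuasiSeparatedSpace ↥S] (hZ : IsAlgSpace Z) (hqs : IsQuasiSeparatedSp Z) {W : Over S}
    (hW : IsAffine W.left) (hWN : IsLocallyNoetherian W.left) {q : (yon S).obj W ⟶ Z} (hq1 : RepWith @Etale q)
    (hq2 : RepWith @Surjective q)
    (ih : ∀ (Z' : Sp S) (i : Z' ⟶ Z), RepWith @IsClosedImmersion i → ∀ (W' : Over S) (w : W' ⟶ W)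
      (q' : (yon S).obj W' ⟶ Z'), IsPullback q' ((yon S).map w) i q → ¬ Function.Injective w.left.appTop → HasInj q') :
    HasInj q := by
  have hqc := isQuasiCompactSp_of_chart hW hq1 hq2
  have hN : IsLocNoethSp Z := ⟨W, q, hq1, hq2, hWN⟩
  have hNS : TopologicalSpace.NoetherianSpace (Points Z) := Groth.Agent.S10203.result ⟨Z, hZ⟩ hqc hN
  have hNR : IsNoetherianRing Γ(W.left, ⊤) := hWN.component_noetherian ⟨⊤, isAffineOpen_top _⟩
  obtain ⟨T, g, U, j, hg, hgs, -, hj, -, hd, hU, -⟩ := Groth.Agent.S10066.result S ⟨Z, hZ⟩ hqc hqs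
    TopologicalSpace.NoetherianSpace.finite_irreducibleComponents W q hq1 hq2
  have hopen : IsOpen (Set.range (Points.map j.hom)) := K626.FinOpen.isOpen_range hj
  obtain ⟨A, hA⟩ := exists_redFam hZ ⟨(Set.range (Points.map j.hom))ᶜ, hopen.isClosed_compl⟩
  let O : W.left.affineOpens := ⟨⊤, isAffineOpen_top _⟩
  -- the ideal of the complement
  have hsupp : ∀ w : W.left, w ∈ (A.I q).support ↔ Points.ofPt q w ∉ Set.range (Points.map j.hom) := by
    intro w
    rw [hA _ q hq1]
    rfl
  have hJ : ∀ f ∈ (A.I q).ideal O, ∀ w : W.left, w ∈ W.left.basicOpen f → Points.ofPt q w ∈ Set.range (Points.map j.hom) := by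
    intro f hf w hw
    by_contra hcon
    have h1 := (hsupp w).2 hcon
    rw [Scheme.IdealSheafData.mem_support_iff_of_mem (U := O) trivial, Scheme.mem_zeroLocus_iff] at h1
    exact h1 f hf hw
  obtain ⟨m, hm⟩ := ring_key ((A.I q).ideal O) (kerIdeal g q) (fun a ha f hf =>
    exists_pow_mul hW hg hgs hj hU ha (hJ f hf))
  obtain ⟨q', sq'⟩ := (fpow A m).exists_isPullback q
  have hker : RingHom.ker ((fpow A m).I q).subschemeι.appTop.hom = (A.I q).ideal O ^ (m + 1) := by
    have e : ((fpow A m).I q).ideal O = (A.I q).ideal O ^ (m + 1) := by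
      rw [fpow_I, Scheme.IdealSheafData.ideal_pow]
      rfl
    rw [← e]
    exact Scheme.IdealSheafData.ker_subschemeι_app _ O
  by_cases hinj : Function.Injective ((fpow A m).I q).subschemeι.appTop
  · refine ⟨0, fun k => k.elim0, fun k => k.elim0, fun k => k.elim0, fun a _ => ?_⟩
    have h1 : ((A.I q).ideal O) ^ (m + 1) = ⊥ := by
      rw [← hker]
      exact (RingHom.injective_iff_ker_eq_bot _).1 hinj
    have h2 : IsEmpty W.left := by
      refine ⟨fun w => ?_⟩
      obtain ⟨z, hz⟩ := hd.inter_open_nonempty Set.univ isOpen_univ ⟨Points.ofPt q w, trivial⟩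
      obtain ⟨w', hw'⟩ := K610.Base.surjective_ofPt hq2 z
      have h3 : w' ∉ (A.I q).support := by
        rw [hsupp, not_not, hw']
        exact hz.2
      rw [← Scheme.IdealSheafData.support_pow_succ (A.I q) m,
        Scheme.IdealSheafData.mem_support_iff_of_mem (U := O) trivial, Scheme.IdealSheafData.ideal_pow] at h3
      apply h3
      rw [Scheme.mem_zeroLocus_iff]
      intro f hf
      have hf' : f ∈ ((A.I q).ideal O) ^ (m + 1) := hf
      rw [h1, Ideal.mem_bot] at hf'
      rw [hf', Scheme.basicOpen_zero]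
      exact id
    have : Subsingleton Γ(W.left, ⊤) := inferInstance
    exact Subsingleton.elim _ _
  · obtain ⟨n, T', g', hg', hinj'⟩ := ih _ _ (fpow A m).repWith_ι _ _ _ sq' hinj
    refine ⟨n + 1, Fin.cons T T', Fin.cons g fun k => g' k ≫ (fpow A m).ι, ?_, ?_⟩
    · refine Fin.cases hg fun k => ?_
      rw [K617.FinLoc.isFiniteMor_iff]
      exact MorphismProperty.comp_mem _ _ _ (K617.FinLoc.isFiniteMor_iff.1 (hg' k))
        (K598.RepKit.repWith_mono (fun _ _ f (hf : IsClosedImmersion f) => (inferInstance : IsFinite f))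
          (fpow A m).repWith_ι)
    · intro a ha
      have h1 : a ∈ kerIdeal g q := fun P u v h => ha 0 P u v h
      apply hm a h1
      have h2 : ((fpow A m).I q).subschemeι.appTop a = 0 := by
        apply hinj'
        intro k P u v h
        have h3 := ha k.succ P (u ≫ Over.homMk ((fpow A m).I q).subschemeι rfl) v (by
          rw [(yon S).map_comp, Category.assoc, ← sq'.w, ← Category.assoc, h, Category.assoc]
          rfl)
        rw [Over.comp_left, Scheme.Hom.comp_appTop, CommRingCat.comp_apply] at h3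
        exact h3
      have h4 : a ∈ RingHom.ker ((fpow A m).I q).subschemeι.appTop.hom := h2
      rw [hker] at h4
      exact Ideal.pow_le_pow_right (Nat.le_succ m) h4

/-- **Joint injectivity.** A Noetherian algebraic space receives finitely many finite morphisms from schemes which are
jointly injective on functions. -/
theorem hasInj [QuasiSeparatedSpace ↥S] (hY : IsAlgSpace Y) (hqs : IsQuasiSeparatedSp Y) {V : Over S}
    (hV : IsAffine V.left) (hVN : IsLocallyNoetherian V.left) {p : (yon S).obj V ⟶ Y} (hp1 : RepWith @Etale p)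
    (hp2 : RepWith @Surjective p) : HasInj p := by
  have hNR : IsNoetherianRing Γ(V.left, ⊤) := hVN.component_noetherian ⟨⊤, isAffineOpen_top _⟩
  have key : ∀ (I : Ideal Γ(V.left, ⊤)) (Z : Sp S) (i : Z ⟶ Y), RepWith @IsClosedImmersion i → ∀ (W : Over S)
      (w : W ⟶ V) (q : (yon S).obj W ⟶ Z), IsPullback q ((yon S).map w) i p →
      RingHom.ker w.left.appTop.hom = I → HasInj q := by
    intro I
    induction I using WellFoundedGT.induction with
    | ind I ih =>
      intro Z i hi W w q sq hI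
      have hwc : IsClosedImmersion w.left := hi.2 p q w sq
      have hW := IsClosedImmersion.isAffine_surjective_of_isAffine w.left
      have hmono := K598.RepKit.mono_of_repWith_isClosedImmersion hi
      have hWN : IsLocallyNoetherian W.left := LocallyOfFiniteType.isLocallyNoetherian w.left
      refine step (K598.RepKit.isAlgSpace_of_repWith_isClosedImmersion hi hY)
        (K647.QcIdl.isQuasiSeparatedSp_of_mono i hqs) hW.1 hWN
        (K598.RepKit.repWith_of_isPullback sq.flip hp1) (K598.RepKit.repWith_of_isPullback sq.flip hp2) ?_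
      intro Z' i' hi' W' w' q' sq' hinj
      refine ih (RingHom.ker (w' ≫ w).left.appTop.hom) ?_ Z' (i' ≫ i) (MorphismProperty.comp_mem _ _ _ hi' hi) W'
        (w' ≫ w) q' ?_ rfl
      · rw [← hI]
        refine lt_of_le_of_ne ?_ ?_
        · intro a ha
          rw [RingHom.mem_ker] at ha ⊢
          rw [Over.comp_left, Scheme.Hom.comp_appTop]
          change w'.left.appTop.hom (w.left.appTop.hom a) = 0
          rw [ha, map_zero]
        · intro heq
          apply hinj
          refine (injective_iff_map_eq_zero w'.left.appTop.hom).2 fun b hb => ?_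
          obtain ⟨a, rfl⟩ := hW.2 b
          have h1 : a ∈ RingHom.ker (w' ≫ w).left.appTop.hom := by
            rw [RingHom.mem_ker, Over.comp_left, Scheme.Hom.comp_appTop]
            exact hb
          rw [← heq] at h1
          exact h1
      · rw [(yon S).map_comp]
        exact sq'.paste_vert sq
  refine key _ Y (𝟙 Y) (K598.RepKit.repWith_of_isIso _) V (𝟙 V) p ?_ rfl
  rw [(yon S).map_id]
  exact IsPullback.of_vert_isIso ⟨by simp⟩

end K640.Inj
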