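import Groth.Agent.AlgSp.K640.Inj
import Groth.Agent.AlgSp.K601.RelChow
import Groth.Agent.AlgSp.K636.QcqsOver
import Groth.Agent.AlgSp.K598.EtInd
import Groth.Agent.AlgSp.K597.ProperSub
import Groth.Agent.S1297

/-!
# Finiteness of functions on proper algebraic spaces
-/

set_option autoImplicit false
set_option backward.isDefEq.respectTransparency false
universe u v
open CategoryTheory CategoryTheory.Limits AlgebraicGeometry Opposite AlgSp

namespace K640.InjRel

open K640.Inj K595 K595.ChBase K902.Slice

variable {S : Scheme.{u}} {Y : Sp S}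

/-- Joint injectivity, relative to an affine scheme. -/
theorem hasInj {U : Over S} (hU : IsAffine U.left) (hY : IsAlgSpace Y) (f : Y ⟶ (yon S).obj U)
    (hqs : IsQuasiSeparatedMor f) {V : Over S} (hV : IsAffine V.left) (hVN : IsLocallyNoetherian V.left)
    {p : (yon S).obj V ⟶ Y} (hp1 : RepWith @Etale p) (hp2 : RepWith @Surjective p) : HasInj p := by
  obtain ⟨X₀, hX₀, z₀, e, j, hj, hj'⟩ := K601.RelChow.exists_slice hY f
  obtain ⟨V₀, eV, x₀, hx⟩ := exists_lift (g := U.hom) (p ≫ e.inv)
  have hsq : IsPullback e.hom ((L U.hom).map z₀) f j.hom := IsPullback.of_horiz_isIso ⟨hj⟩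
  have hq : IsQuasiSeparatedMor z₀ := (isQuasiSeparatedMor_L_iff (g := U.hom) z₀).1
    (MorphismProperty.of_isPullback hsq hqs)
  have hqs₀ : IsQuasiSeparatedSp X₀ := K636.QcqsOver.isQuasiSeparatedSp_of_mor hq
    (K598.EtInd.isQuasiSeparatedSp_yon (T := Over.mk (𝟙 U.left)) hU)
  have hQ : QuasiSeparatedSpace ↥U.left := inferInstance
  have hie : IsIso eV.hom.left := inferInstanceAs (IsIso ((Over.forget S).map eV.hom))
  have hV₀ : IsAffine V₀.left := IsAffine.of_isIso (eV.hom.left : V₀.left ⟶ V.left)
  have hVN₀ : IsLocallyNoetherian V₀.left :=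
    LocallyOfFiniteType.isLocallyNoetherian (eV.hom.left : V₀.left ⟶ V.left)
  have hchart : ∀ (P : MorphismProperty Scheme.{u}) [P.RespectsIso] [P.IsStableUnderBaseChange] [P.IsMultiplicative],
      RepWith P p → RepWith P x₀ := by
    intro P _ _ _ h
    rw [← repWith_chart_iff (g := U.hom) x₀, ← hx]
    exact MorphismProperty.comp_mem _ _ _ (K598.RepKit.repWith_of_isIso _)
      (MorphismProperty.comp_mem _ _ _ h (K598.RepKit.repWith_of_isIso _))
  obtain ⟨n, T, g, hg, hinj⟩ := Inj.hasInj hX₀ hqs₀ hV₀ hVN₀ (hchart @Etale hp1) (hchart @Surjective hp2)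
  refine ⟨n, fun k => (Over.map U.hom).obj (T k), fun k => yonHom (g := U.hom) (T k) ≫ (L U.hom).map (g k) ≫ e.hom,
    fun k => ?_, ?_⟩
  · rw [K617.FinLoc.isFiniteMor_iff]
    exact MorphismProperty.comp_mem _ _ _ (K598.RepKit.repWith_of_isIso _)
      (MorphismProperty.comp_mem _ _ _ (repWith_L (K617.FinLoc.isFiniteMor_iff.1 (hg k)))
        (K598.RepKit.repWith_of_isIso _))
  · intro a ha
    have h1 : (eV.hom.left : V₀.left ⟶ V.left).appTop a = 0 := by
      apply hinj
      intro k P u v h
      have h2 := ha k ((Over.map U.hom).obj P) ((Over.map U.hom).map u ≫ eV.hom) ((Over.map U.hom).map v) (by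
        have h3 : (yon S).map eV.hom ≫ p = yonHom (g := U.hom) V₀ ≫ (L U.hom).map x₀ ≫ e.hom := by
          rw [← Category.assoc, ← hx, Category.assoc, Category.assoc, e.inv_hom_id, Category.comp_id]
        rw [(yon S).map_comp, Category.assoc, h3, ← Category.assoc, yonHom_naturality, Category.assoc,
          ← Category.assoc ((L U.hom).map ((yon U.left).map u)), ← Functor.map_comp, h, Functor.map_comp,
          ← Category.assoc ((yon S).map _), yonHom_naturality]
        simp only [Category.assoc])
      rw [Over.comp_left, Scheme.Hom.comp_appTop, CommRingCat.comp_apply] at h2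
      exact h2
    have h2 : IsIso (eV.hom.left : V₀.left ⟶ V.left).appTop := inferInstance
    exact ((ConcreteCategory.isIso_iff_bijective _).1 h2).1 (h1.trans (map_zero _).symm)

theorem finite_of_injective_pi {R M : Type u} [CommRing R] [IsNoetherianRing R] [CommRing M] (f : R →+* M)
    {n : ℕ} (T : Fin n → Type u) [∀ k, CommRing (T k)] (φ : ∀ k, M →+* T k) (h : ∀ k, ((φ k).comp f).Finite)
    (hinj : ∀ b, (∀ k, φ k b = 0) → b = 0) : f.Finite := by
  let _ := f.toAlgebra
  let _ := fun k => ((φ k).comp f).toAlgebra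
  have h1 : ∀ k, Module.Finite R (T k) := fun k => h k
  let ψ : M →ₗ[R] (∀ k, T k) :=
    { toFun := fun m k => φ k m
      map_add' := fun x y => funext fun k => map_add _ _ _
      map_smul' := fun r x => funext fun k => by
        change φ k (f r * x) = φ k (f r) * φ k x
        exact map_mul _ _ _ }
  exact Module.Finite.of_injective ψ ((injective_iff_map_eq_zero ψ).2 fun b hb => hinj b fun k => congrFun hb k)

/-- Functions on a proper algebraic space over a Noetherian affine scheme: a ring of functions which injects into the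
functions of a chart is finite. -/
theorem isFinite {U : Over S} (hU : IsAffine U.left) (hUN : IsLocallyNoetherian U.left) (hY : IsAlgSpace Y)
    (f : Y ⟶ (yon S).obj U) (hf : IsProperMor f) {V : Over S} (hV : IsAffine V.left)
    {p : (yon S).obj V ⟶ Y} (hp1 : RepWith @Etale p) (hp2 : RepWith @Surjective p) {N : Over S} (hN : IsAffine N.left)
    (ν : N ⟶ U) (ρ : Y ⟶ (yon S).obj N) (hρ : ρ ≫ (yon S).map ν = f) {n : V ⟶ N} (hn : p ≫ ρ = (yon S).map n)
    (hinj : Function.Injective n.left.appTop) : IsFinite ν.left := by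
  have hVN : IsLocallyNoetherian V.left := by
    obtain ⟨v, hv⟩ := (yon S).map_surjective (p ≫ f)
    have h1 : LocallyOfFiniteType v.left :=
      hf.2.1.1 p (𝟙 _) v hp1 (repWith_id _ _) (by rw [Category.comp_id, hv])
    exact LocallyOfFiniteType.isLocallyNoetherian v.left
  have hqs : IsQuasiSeparatedMor f :=
    K598.RepKit.repWith_mono (fun _ _ f (hf : IsClosedImmersion f) => (inferInstance : QuasiCompact f)) hf.1
  obtain ⟨m, T, g, hg, hji⟩ := hasInj hU hY f hqs hV hVN hp1 hp2
  have hR : IsNoetherianRing Γ(U.left, ⊤) := hUN.component_noetherian ⟨⊤, isAffineOpen_top _⟩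
  choose κ hκ using fun k => (yon S).map_surjective (g k ≫ ρ)
  have hprop : ∀ k, IsProper (κ k ≫ ν).left := by
    intro k
    have h1 : IsProperMor ((yon S).map (κ k ≫ ν)) := by
      rw [(yon S).map_comp, hκ, Category.assoc, hρ]
      refine K597.ProperSub.isProperMor_comp (IsAlgSpace.yon_obj _) hY (IsAlgSpace.yon_obj _) ?_ hf
      rw [K597.Proper.isProperMor_iff_repWith hY (K617.FinLoc.isFiniteMor_iff.1 (hg k)).1]
      exact K598.RepKit.repWith_mono (fun _ _ f (hf : AlgebraicGeometry.IsFinite f) => (inferInstance : IsProper f))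
        (K617.FinLoc.isFiniteMor_iff.1 (hg k))
    rwa [K597.Proper.isProperMor_iff_repWith (IsAlgSpace.yon_obj U) (representable_yon_map _),
      repWith_yon_map_iff] at h1
  rw [HasAffineProperty.iff_of_isAffine (P := @IsFinite)]
  refine ⟨hN, finite_of_injective_pi ν.left.appTop.hom (fun k => Γ((T k).left, ⊤)) (fun k => (κ k).left.appTop.hom)
    (fun k => ?_) (fun b hb => ?_)⟩
  · have := hprop k
    have h1 := Groth.Agent.S1297.finite_appTop (κ k ≫ ν).left
    rw [Over.comp_left, Scheme.Hom.comp_appTop] at h1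
    exact h1
  · have h1 : n.left.appTop b = 0 := by
      apply hji
      intro k P u v h
      have h2 : u ≫ n = v ≫ κ k := (yon S).map_injective (by
        rw [(yon S).map_comp, (yon S).map_comp, ← hn, hκ, ← Category.assoc, h, Category.assoc])
      have h3 : (u ≫ n).left.appTop b = (v ≫ κ k).left.appTop b := by rw [h2]
      rw [Over.comp_left, Over.comp_left, Scheme.Hom.comp_appTop, Scheme.Hom.comp_appTop, CommRingCat.comp_apply,
        CommRingCat.comp_apply] at h3
      rw [h3]
      have h4 : (κ k).left.appTop b = 0 := hb k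
      rw [h4, map_zero]
    exact hinj (h1.trans (map_zero _).symm)

end K640.InjRel
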