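import Groth.Agent.AlgSp.K640.Base

/-!
Jointly (étale, fppf) locally surjective families of maps of sheaves.
-/

set_option autoImplicit false
universe u v
open CategoryTheory CategoryTheory.Limits AlgebraicGeometry Opposite
open AlgSp K613.Basic K613.Cover

namespace K640.Joint

variable {S : Scheme.{u}} {F G P Q : Sp S} {κ : Type v} {H : κ → Sp S}

/-- A family of morphisms of schemes over `S` which is flat, locally of finite presentation and jointly surjective. -/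
structure FpF {T : Over S} {ι : Type u} {T' : ι → Over S} (c : ∀ i, T' i ⟶ T) : Prop where
  flat : ∀ i, Flat (c i).left
  lfp : ∀ i, LocallyOfFinitePresentation (c i).left
  surj : ∀ t : T.left, ∃ (i : ι) (t' : (T' i).left), (c i).left t' = t

/-- The family `b` is jointly fppf locally surjective. -/
def JSurj (b : ∀ k, H k ⟶ G) : Prop :=
  ∀ (T : Over S) (g : (yon S).obj T ⟶ G), ∃ (ι : Type u) (T' : ι → Over S) (c : ∀ i, T' i ⟶ T) (k : ι → κ)
    (h : ∀ i, (yon S).obj (T' i) ⟶ H (k i)), FpF c ∧ ∀ i, h i ≫ b (k i) = (yon S).map (c i) ≫ g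

theorem FpF.glue {T : Over S} {ι : Type u} {T' : ι → Over S} {c : ∀ i, T' i ⟶ T} (h : FpF c)
    (x : ∀ i, (yon S).obj (T' i) ⟶ F)
    (hx : ∀ (i j : ι) (R : Over S) (a : R ⟶ T' i) (b : R ⟶ T' j), a ≫ c i = b ≫ c j →
      (yon S).map a ≫ x i = (yon S).map b ≫ x j) :
    ∃! y : (yon S).obj T ⟶ F, ∀ i, (yon S).map (c i) ≫ y = x i := glueFam T' c h.flat h.lfp h.surj x hx

theorem FpF.ext {T : Over S} {ι : Type u} {T' : ι → Over S} {c : ∀ i, T' i ⟶ T} (h : FpF c)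
    {x y : (yon S).obj T ⟶ F} (hxy : ∀ i, (yon S).map (c i) ≫ x = (yon S).map (c i) ≫ y) : x = y := by
  obtain ⟨z, -, hz⟩ := h.glue (fun i => (yon S).map (c i) ≫ x) (fun i j R a b hab => by
    rw [← Category.assoc, ← Category.assoc, ← Functor.map_comp, ← Functor.map_comp, hab])
  exact (hz x fun i => rfl).trans (hz y fun i => (hxy i).symm).symm

theorem FpF.baseChange {T Z : Over S} {ι : Type u} {T' : ι → Over S} {c : ∀ i, T' i ⟶ T} (h : FpF c) (r : Z ⟶ T) :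
    FpF (fun i => pullback.fst r (c i)) where
  flat i := by
    have := h.flat i
    exact MorphismProperty.of_isPullback (P := @Flat)
      ((IsPullback.of_hasPullback r (c i)).flip.map (Over.forget S)) ‹_›
  lfp i := by
    have := h.lfp i
    exact MorphismProperty.of_isPullback (P := @LocallyOfFinitePresentation)
      ((IsPullback.of_hasPullback r (c i)).flip.map (Over.forget S)) ‹_›
  surj z := by
    obtain ⟨i, t', ht'⟩ := h.surj (r.left z)
    obtain ⟨w, hw, -⟩ := Scheme.exists_preimage_of_isPullback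
      ((IsPullback.of_hasPullback r (c i)).map (Over.forget S)) z t' ht'.symm
    exact ⟨i, w, hw⟩

theorem JSurj.hom_ext {b : ∀ k, H k ⟶ G} (h : JSurj b) {x y : G ⟶ F} (hxy : ∀ k, b k ≫ x = b k ≫ y) : x = y := by
  refine K613.Basic.hom_ext fun T g => ?_
  obtain ⟨ι, T', c, k, z, hc, hz⟩ := h T g
  refine hc.ext fun i => ?_
  rw [← Category.assoc, ← Category.assoc, ← hz, Category.assoc, Category.assoc, hxy]

/-- Maps out of the target of a jointly fppf locally surjective family of maps of sheaves can be constructed on the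
sources. -/
theorem JSurj.desc {b : ∀ k, H k ⟶ G} (h : JSurj b) (x : ∀ k, H k ⟶ F)
    (hx : ∀ (k l : κ) (R : Over S) (u : (yon S).obj R ⟶ H k) (v : (yon S).obj R ⟶ H l),
      u ≫ b k = v ≫ b l → u ≫ x k = v ≫ x l) :
    ∃! y : G ⟶ F, ∀ k, b k ≫ y = x k := by
  -- the value on a map from a scheme
  have key : ∀ (T : Over S) (g : (yon S).obj T ⟶ G), ∃! y : (yon S).obj T ⟶ F,
      ∀ (k : κ) (R : Over S) (r : R ⟶ T) (u : (yon S).obj R ⟶ H k), u ≫ b k = (yon S).map r ≫ g →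
        (yon S).map r ≫ y = u ≫ x k := by
    intro T g
    obtain ⟨ι, T', c, k, z, hc, hz⟩ := h T g
    obtain ⟨y, hy, hy'⟩ := hc.glue (fun i => z i ≫ x (k i)) (fun i j R p q hpq => by
      rw [← Category.assoc, ← Category.assoc]
      refine hx _ _ R _ _ ?_
      rw [Category.assoc, Category.assoc, hz, hz, ← Category.assoc, ← Category.assoc, ← Functor.map_comp,
        ← Functor.map_comp, hpq])
    refine ⟨y, fun l R r u hu => ?_, fun y' h' => hy' y' (fun i => h' (k i) (T' i) (c i) (z i) (hz i))⟩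
    refine (hc.baseChange r).ext fun i => ?_
    rw [← Category.assoc, ← Functor.map_comp, pullback.condition,
      Functor.map_comp, Category.assoc, hy, ← Category.assoc, ← Category.assoc]
    refine hx _ _ _ _ _ ?_
    rw [Category.assoc, Category.assoc, hz, hu, ← Category.assoc, ← Category.assoc, ← Functor.map_comp,
      ← Functor.map_comp, pullback.condition]
  choose φ hφ hφ' using key
  have hnat : ∀ (T T' : Over S) (t : T' ⟶ T) (g : (yon S).obj T ⟶ G),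
      φ T' ((yon S).map t ≫ g) = (yon S).map t ≫ φ T g := by
    intro T T' t g
    symm
    refine hφ' T' _ _ fun k R r u hu => ?_
    rw [← Category.assoc, ← Functor.map_comp]
    exact hφ T g k R (r ≫ t) u (by rw [hu, Functor.map_comp, Category.assoc])
  let y : G ⟶ F := ⟨{
    app := fun T => ↾fun s => (J S).uliftYonedaEquiv (φ T.unop ((J S).uliftYonedaEquiv.symm s))
    naturality := fun {T T'} t => by
      refine ConcreteCategory.hom_ext _ _ fun s => ?_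
      change (J S).uliftYonedaEquiv (φ T'.unop ((J S).uliftYonedaEquiv.symm (G.obj.map t s))) =
        F.obj.map t ((J S).uliftYonedaEquiv (φ T.unop ((J S).uliftYonedaEquiv.symm s)))
      have h1 : (J S).uliftYonedaEquiv.symm (G.obj.map t s) = (yon S).map t.unop ≫ (J S).uliftYonedaEquiv.symm s :=
        GrothendieckTopology.uliftYonedaEquiv_symm_map.{u + 1} (J := J S) t s
      rw [h1, hnat]
      exact (GrothendieckTopology.uliftYonedaEquiv_naturality'.{u + 1} (J := J S) _ t).symm }⟩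
  have hy : ∀ (T : Over S) (g : (yon S).obj T ⟶ G), g ≫ y = φ T g := by
    intro T g
    apply (J S).uliftYonedaEquiv.injective
    rw [GrothendieckTopology.uliftYonedaEquiv_comp]
    change (J S).uliftYonedaEquiv (φ T ((J S).uliftYonedaEquiv.symm ((J S).uliftYonedaEquiv g))) = _
    rw [Equiv.symm_apply_apply]
  have hby : ∀ k, b k ≫ y = x k := fun k => by
    refine K613.Basic.hom_ext fun T u => ?_
    rw [← Category.assoc, hy]
    have := hφ T (u ≫ b k) k T (𝟙 T) u (by rw [CategoryTheory.Functor.map_id, Category.id_comp])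
    rwa [CategoryTheory.Functor.map_id, Category.id_comp] at this
  refine ⟨y, hby, fun y' hy' => h.hom_ext fun k => ?_⟩
  rw [hby]
  exact hy' k

/-- The family consisting of two maps. -/
theorem JSurj.desc₂ {H₁ H₂ : Sp S} {b₁ : H₁ ⟶ G} {b₂ : H₂ ⟶ G}
    (h : JSurj (κ := Bool) (H := fun k => bif k then H₁ else H₂) (fun k => match k with | true => b₁ | false => b₂))
    (x₁ : H₁ ⟶ F) (x₂ : H₂ ⟶ F)
    (h₁₁ : ∀ (R : Over S) (u v : (yon S).obj R ⟶ H₁), u ≫ b₁ = v ≫ b₁ → u ≫ x₁ = v ≫ x₁)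
    (h₁₂ : ∀ (R : Over S) (u : (yon S).obj R ⟶ H₁) (v : (yon S).obj R ⟶ H₂), u ≫ b₁ = v ≫ b₂ → u ≫ x₁ = v ≫ x₂)
    (h₂₂ : ∀ (R : Over S) (u v : (yon S).obj R ⟶ H₂), u ≫ b₂ = v ≫ b₂ → u ≫ x₂ = v ≫ x₂) :
    ∃! y : G ⟶ F, b₁ ≫ y = x₁ ∧ b₂ ≫ y = x₂ := by
  obtain ⟨y, hy, hy'⟩ := h.desc (F := F) (fun k => match k with | true => x₁ | false => x₂) (fun k l R u v => by
    match k, l with
    | true, true => exact h₁₁ R u v
    | true, false => exact h₁₂ R u v
    | false, true => exact fun h => (h₁₂ R v u h.symm).symm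
    | false, false => exact h₂₂ R u v)
  refine ⟨y, ⟨hy true, hy false⟩, fun z hz => hy' z fun k => ?_⟩
  match k with
  | true => exact hz.1
  | false => exact hz.2

/-- the family on `Bool` given by two objects -/
abbrev fam {α : Type*} (H₁ H₂ : α) : Bool → α := fun k => bif k then H₁ else H₂

/-- the family of maps on `Bool` given by two maps -/
abbrev famMap {H₁ H₂ : Sp S} (b₁ : H₁ ⟶ G) (b₂ : H₂ ⟶ G) : ∀ k : Bool, fam H₁ H₂ k ⟶ G :=
  fun k => match k with | true => b₁ | false => b₂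

/-- two maps of schemes, flat, lfp and jointly surjective -/
structure FpC₂ {T T₁ T₂ : Over S} (c₁ : T₁ ⟶ T) (c₂ : T₂ ⟶ T) : Prop where
  flat₁ : Flat c₁.left
  flat₂ : Flat c₂.left
  lfp₁ : LocallyOfFinitePresentation c₁.left
  lfp₂ : LocallyOfFinitePresentation c₂.left
  surj : ∀ t : T.left, (∃ t' : T₁.left, c₁.left t' = t) ∨ ∃ t' : T₂.left, c₂.left t' = t

/-- the `ULift Bool` indexed family attached to two maps -/
abbrev covMap {T T₁ T₂ : Over S} (c₁ : T₁ ⟶ T) (c₂ : T₂ ⟶ T) : ∀ k : ULift.{u} Bool, fam T₁ T₂ k.down ⟶ T :=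
  fun k => match k with | ⟨true⟩ => c₁ | ⟨false⟩ => c₂

theorem FpC₂.fpF {T T₁ T₂ : Over S} {c₁ : T₁ ⟶ T} {c₂ : T₂ ⟶ T} (h : FpC₂ c₁ c₂) : FpF (covMap c₁ c₂) where
  flat k := match k with | ⟨true⟩ => h.flat₁ | ⟨false⟩ => h.flat₂
  lfp k := match k with | ⟨true⟩ => h.lfp₁ | ⟨false⟩ => h.lfp₂
  surj t := by
    rcases h.surj t with ⟨t', h'⟩ | ⟨t', h'⟩
    · exact ⟨⟨true⟩, t', h'⟩
    · exact ⟨⟨false⟩, t', h'⟩

theorem FpC₂.ext {T T₁ T₂ : Over S} {c₁ : T₁ ⟶ T} {c₂ : T₂ ⟶ T} (h : FpC₂ c₁ c₂) {x y : (yon S).obj T ⟶ F}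
    (h₁ : (yon S).map c₁ ≫ x = (yon S).map c₁ ≫ y) (h₂ : (yon S).map c₂ ≫ x = (yon S).map c₂ ≫ y) : x = y :=
  h.fpF.ext (fun k => match k with | ⟨true⟩ => h₁ | ⟨false⟩ => h₂)

theorem JSurj.mk₂ {H₁ H₂ : Sp S} {b₁ : H₁ ⟶ G} {b₂ : H₂ ⟶ G}
    (h : ∀ (T : Over S) (g : (yon S).obj T ⟶ G), ∃ (T₁ T₂ : Over S) (c₁ : T₁ ⟶ T) (c₂ : T₂ ⟶ T)
      (z₁ : (yon S).obj T₁ ⟶ H₁) (z₂ : (yon S).obj T₂ ⟶ H₂), FpC₂ c₁ c₂ ∧
        z₁ ≫ b₁ = (yon S).map c₁ ≫ g ∧ z₂ ≫ b₂ = (yon S).map c₂ ≫ g) :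
    JSurj (famMap b₁ b₂) := by
  intro T g
  obtain ⟨T₁, T₂, c₁, c₂, z₁, z₂, hc, hz₁, hz₂⟩ := h T g
  exact ⟨ULift.{u} Bool, fun k => fam T₁ T₂ k.down, covMap c₁ c₂, fun k => k.down,
    fun k => match k with | ⟨true⟩ => z₁ | ⟨false⟩ => z₂, hc.fpF,
    fun k => match k with | ⟨true⟩ => hz₁ | ⟨false⟩ => hz₂⟩

/-- a square from a jointly locally surjective pair of maps is a pushout -/
theorem isPushout_of_jSurj {H₁ H₂ : Sp S} {b₁ : H₁ ⟶ G} {b₂ : H₂ ⟶ G} (h : JSurj (famMap b₁ b₂))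
    {p₁ : P ⟶ H₁} {p₂ : P ⟶ H₂} (sq : IsPullback p₁ p₂ b₁ b₂)
    (h₁₁ : ∀ (R : Over S) (u v : (yon S).obj R ⟶ H₁), u ≫ b₁ = v ≫ b₁ → ∀ {F : Sp S} (x₁ : H₁ ⟶ F) (x₂ : H₂ ⟶ F),
      p₁ ≫ x₁ = p₂ ≫ x₂ → u ≫ x₁ = v ≫ x₁)
    (h₂₂ : ∀ (R : Over S) (u v : (yon S).obj R ⟶ H₂), u ≫ b₂ = v ≫ b₂ → ∀ {F : Sp S} (x₁ : H₁ ⟶ F) (x₂ : H₂ ⟶ F),
      p₁ ≫ x₁ = p₂ ≫ x₂ → u ≫ x₂ = v ≫ x₂) : IsPushout p₁ p₂ b₁ b₂ := by
  have key : ∀ s : PushoutCocone p₁ p₂, ∃! y : G ⟶ s.pt, b₁ ≫ y = s.inl ∧ b₂ ≫ y = s.inr := fun s =>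
    h.desc₂ s.inl s.inr (fun R u v huv => h₁₁ R u v huv s.inl s.inr s.condition)
      (fun R u v huv => by
        rw [← sq.lift_fst u v huv, Category.assoc, s.condition, ← Category.assoc, sq.lift_snd])
      (fun R u v huv => h₂₂ R u v huv s.inl s.inr s.condition)
  exact ⟨⟨sq.w⟩, ⟨PushoutCocone.IsColimit.mk _ (fun s => (key s).choose) (fun s => (key s).choose_spec.1.1)
    (fun s => (key s).choose_spec.1.2) (fun s m h1 h2 => (key s).choose_spec.2 m ⟨h1, h2⟩)⟩⟩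

end K640.Joint
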