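import Groth.Agent.AlgSp.K640.Joint

/-!
The modality "fppf locally" for predicates on morphisms into a scheme over `S`.
-/

set_option autoImplicit false
universe u v
open CategoryTheory CategoryTheory.Limits AlgebraicGeometry Opposite
open AlgSp K613.Basic K613.Cover K640.Joint

namespace K640.Loc

variable {S : Scheme.{u}} {F G H P Q : Sp S}

/-- `P` holds after restriction to the members of an fppf covering sieve. -/
def Locally (T : Over S) (P : ∀ ⦃T' : Over S⦄, (T' ⟶ T) → Prop) : Prop :=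
  ∃ R ∈ J S T, ∀ ⦃T' : Over S⦄ (c : T' ⟶ T), R c → P c

variable {T Z : Over S} {P Q : ∀ ⦃T' : Over S⦄, (T' ⟶ T) → Prop}

theorem Locally.of_forall (h : ∀ ⦃T' : Over S⦄ (c : T' ⟶ T), P c) : Locally T P :=
  ⟨⊤, (J S).top_mem T, fun _ c _ => h c⟩

theorem Locally.imp (h : Locally T P) (hPQ : ∀ ⦃T' : Over S⦄ (c : T' ⟶ T), P c → Q c) : Locally T Q := by
  obtain ⟨R, hR, hP⟩ := h
  exact ⟨R, hR, fun _ c hc => hPQ c (hP c hc)⟩

theorem Locally.and (h : Locally T P) (h' : Locally T Q) : Locally T (fun _ c => P c ∧ Q c) := by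
  obtain ⟨R, hR, hP⟩ := h
  obtain ⟨R', hR', hQ⟩ := h'
  exact ⟨R ⊓ R', (J S).intersection_covering hR hR', fun _ c hc => ⟨hP c hc.1, hQ c hc.2⟩⟩

theorem Locally.pullback (h : Locally T P) (r : Z ⟶ T) : Locally Z (fun _ c => P (c ≫ r)) := by
  obtain ⟨R, hR, hP⟩ := h
  exact ⟨R.pullback r, (J S).pullback_stable r hR, fun _ c hc => hP _ hc⟩

theorem Locally.bind (h : Locally T P) (h' : ∀ ⦃T' : Over S⦄ (c : T' ⟶ T), P c → Locally T' (fun _ d => Q (d ≫ c))) :
    Locally T Q := by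
  obtain ⟨R, hR, hP⟩ := h
  choose R' hR' hQ using h'
  refine ⟨Sieve.bind R.arrows (fun Y c hc => R' c (hP c hc)), (J S).transitive hR _ fun Y c hc => ?_, ?_⟩
  · refine GrothendieckTopology.superset_covering _ ?_ (hR' c (hP c hc))
    intro Z d hd
    exact ⟨Y, d, c, hc, hd, rfl⟩
  · rintro Z _ ⟨Y, d, c, hc, hd, rfl⟩
    exact hQ c (hP c hc) d hd

theorem _root_.K640.Joint.FpF.mem {ι : Type u} {T' : ι → Over S} {c : ∀ i, T' i ⟶ T} (h : FpF c) :
    Sieve.ofArrows T' c ∈ J S T := mem_J T' c h.flat h.lfp h.surj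

/-- to prove a property fppf locally, it suffices to prove it on the members of a covering family, if it is stable
under precomposition -/
theorem Locally.of_fpF {ι : Type u} {T' : ι → Over S} {c : ∀ i, T' i ⟶ T} (h : FpF c)
    (hP : ∀ (i : ι) ⦃Z : Over S⦄ (d : Z ⟶ T' i), P (d ≫ c i)) : Locally T P := by
  refine ⟨_, h.mem, ?_⟩
  rintro Z _ ⟨Y, d, _, ⟨i⟩, rfl⟩
  exact hP i d

theorem Locally.of_fpC {T' : Over S} {c : T' ⟶ T} (h : FpC c)
    (hP : ∀ ⦃Z : Over S⦄ (d : Z ⟶ T'), P (d ≫ c)) : Locally T P :=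
  Locally.of_fpF (ι := PUnit.{u + 1}) (T' := fun _ => T') (c := fun _ => c)
    ⟨fun _ => h.flat, fun _ => h.lfp, fun t => ⟨PUnit.unit, h.surj.surj t⟩⟩ (fun _ _ d => hP d)

theorem Locally.of_fpC₂ {T₁ T₂ : Over S} {c₁ : T₁ ⟶ T} {c₂ : T₂ ⟶ T} (h : FpC₂ c₁ c₂)
    (h₁ : ∀ ⦃Z : Over S⦄ (d : Z ⟶ T₁), P (d ≫ c₁)) (h₂ : ∀ ⦃Z : Over S⦄ (d : Z ⟶ T₂), P (d ≫ c₂)) : Locally T P :=
  Locally.of_fpF h.fpF (fun i => match i with | ⟨true⟩ => h₁ | ⟨false⟩ => h₂)

theorem hasIsos_fppf : Scheme.fppfPrecoverage.{u}.HasIsos :=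
  have : (@Flat ⊓ @LocallyOfFinitePresentation : MorphismProperty Scheme.{u}).ContainsIdentities :=
    ⟨fun _ => ⟨inferInstance, inferInstance⟩⟩
  inferInstanceAs (Scheme.precoverage (@Flat ⊓ @LocallyOfFinitePresentation : MorphismProperty Scheme.{u})).HasIsos

/-- A covering sieve contains a covering family. -/
theorem exists_fpF_of_mem {R : Sieve T} (hR : R ∈ J S T) :
    ∃ (ι : Type u) (T' : ι → Over S) (c : ∀ i, T' i ⟶ T), FpF c ∧ ∀ i, R (c i) := by
  have := hasIsos_fppf.{u}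
  rw [AlgSp.J_eq, GrothendieckTopology.mem_over_iff,
    Precoverage.mem_toGrothendieck_iff_of_isStableUnderComposition] at hR
  obtain ⟨P, hP, hle⟩ := hR
  have hP' : P ∈ Scheme.precoverage (@Flat ⊓ @LocallyOfFinitePresentation) T.left := hP
  obtain ⟨h1, h2⟩ := hP'
  have h3 : ∀ t : T.left, ∃ (Y : Scheme.{u}) (g : Y ⟶ T.left), P g ∧ t ∈ Set.range g := by
    rw [Scheme.jointlySurjectivePrecoverage, Presieve.mem_comap_jointlySurjectivePrecoverage_iff] at h1
    exact h1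
  choose Y g hg ht using h3
  refine ⟨T.left, fun t => Over.mk (g t ≫ T.hom), fun t => Over.homMk (g t) rfl, ⟨fun t => (h2 (hg t)).1,
    fun t => (h2 (hg t)).2, fun t => ⟨t, ht t⟩⟩, fun t => ?_⟩
  have := hle _ _ (hg t)
  rwa [Sieve.overEquiv_iff] at this

theorem Locally.exists_fpF (h : Locally T P) :
    ∃ (ι : Type u) (T' : ι → Over S) (c : ∀ i, T' i ⟶ T), FpF c ∧ ∀ i, P (c i) := by
  obtain ⟨R, hR, hP⟩ := h
  obtain ⟨ι, T', c, hc, hc'⟩ := exists_fpF_of_mem hR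
  exact ⟨ι, T', c, hc, fun i => hP _ (hc' i)⟩

/-- equality can be checked locally -/
theorem Locally.ext {x y : (yon S).obj T ⟶ F}
    (h : Locally T (fun _ c => (yon S).map c ≫ x = (yon S).map c ≫ y)) : x = y := by
  obtain ⟨ι, T', c, hc, hc'⟩ := h.exists_fpF
  exact hc.ext hc'

theorem Locally.ext' {X : Over S} {x y : T ⟶ X} (h : Locally T (fun _ c => c ≫ x = c ≫ y)) : x = y := by
  apply (yon S).map_injective
  refine Locally.ext (h.imp fun T' c hc => ?_)
  rw [← Functor.map_comp, ← Functor.map_comp, hc]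

/-- local unique existence implies global unique existence -/
theorem Locally.glue {Q : ∀ ⦃T' : Over S⦄, (T' ⟶ T) → ((yon S).obj T' ⟶ F) → Prop}
    (hres : ∀ ⦃T' T'' : Over S⦄ (c : T' ⟶ T) (d : T'' ⟶ T') (z : (yon S).obj T' ⟶ F), Q c z →
      Q (d ≫ c) ((yon S).map d ≫ z))
    (huniq : ∀ ⦃T' : Over S⦄ (c : T' ⟶ T) (z z' : (yon S).obj T' ⟶ F), Q c z → Q c z' → z = z')
    (h : Locally T (fun _ c => ∃ z, Q c z)) :
    ∃ z : (yon S).obj T ⟶ F, Locally T (fun _ c => Q c ((yon S).map c ≫ z)) := by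
  obtain ⟨R, hR, hz⟩ := h
  obtain ⟨ι, T', c, hc, hc'⟩ := exists_fpF_of_mem hR
  choose z hz using fun i => hz _ (hc' i)
  obtain ⟨y, hy, -⟩ := hc.glue z (fun i j Z a b hab => by
    refine huniq (a ≫ c i) _ _ (hres _ _ _ (hz i)) ?_
    rw [hab]
    exact hres _ _ _ (hz j))
  refine ⟨y, Locally.of_fpF hc fun i Z d => ?_⟩
  rw [Functor.map_comp, Category.assoc, hy]
  exact hres _ _ _ (hz i)

/-- the version for maps to schemes -/
theorem Locally.glue' {X : Over S} {Q : ∀ ⦃T' : Over S⦄, (T' ⟶ T) → (T' ⟶ X) → Prop}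
    (hres : ∀ ⦃T' T'' : Over S⦄ (c : T' ⟶ T) (d : T'' ⟶ T') (z : T' ⟶ X), Q c z → Q (d ≫ c) (d ≫ z))
    (huniq : ∀ ⦃T' : Over S⦄ (c : T' ⟶ T) (z z' : T' ⟶ X), Q c z → Q c z' → z = z')
    (h : Locally T (fun _ c => ∃ z, Q c z)) :
    ∃ z : T ⟶ X, Locally T (fun _ c => Q c (c ≫ z)) := by
  obtain ⟨z, hz⟩ := Locally.glue (F := (yon S).obj X) (Q := fun T' c z => Q c ((yon S).preimage z))
    (fun T' T'' c d z hz => by
      have : (yon S).preimage ((yon S).map d ≫ z) = d ≫ (yon S).preimage z := by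
        apply (yon S).map_injective
        rw [Functor.map_comp, Functor.map_preimage, Functor.map_preimage]
      rw [this]
      exact hres _ _ _ hz)
    (fun T' c z z' hz hz' => by
      have := huniq _ _ _ hz hz'
      rw [← (yon S).map_preimage z, this, (yon S).map_preimage])
    (h.imp fun T' c ⟨z, hz⟩ => ⟨(yon S).map z, by rwa [Functor.preimage_map]⟩)
  refine ⟨(yon S).preimage z, hz.imp fun T' c h => ?_⟩
  have : (yon S).preimage ((yon S).map c ≫ z) = c ≫ (yon S).preimage z := by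
    apply (yon S).map_injective
    rw [Functor.map_comp, Functor.map_preimage, Functor.map_preimage]
  rwa [this] at h

/-- lifting through a locally surjective map -/
theorem _root_.K613.Cover.FSurj.locally {b : H ⟶ G} (h : FSurj b) (g : (yon S).obj T ⟶ G) :
    Locally T (fun T' c => ∃ z : (yon S).obj T' ⟶ H, z ≫ b = (yon S).map c ≫ g) := by
  obtain ⟨T', c, z, hc, hz⟩ := h T g
  refine Locally.of_fpC hc fun Z d => ⟨(yon S).map d ≫ z, ?_⟩
  rw [Category.assoc, hz, Functor.map_comp, Category.assoc]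

theorem _root_.K640.Joint.JSurj.locally {κ : Type v} {H : κ → Sp S} {b : ∀ k, H k ⟶ G} (h : JSurj b)
    (g : (yon S).obj T ⟶ G) :
    Locally T (fun T' c => ∃ (k : κ) (z : (yon S).obj T' ⟶ H k), z ≫ b k = (yon S).map c ≫ g) := by
  obtain ⟨ι, T', c, k, z, hc, hz⟩ := h T g
  refine Locally.of_fpF hc fun i Z d => ⟨k i, (yon S).map d ≫ z i, ?_⟩
  rw [Category.assoc, hz, Functor.map_comp, Category.assoc]

/-- a map which locally lifts is jointly locally surjective -/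
theorem JSurj.of_locally {κ : Type v} {H : κ → Sp S} {b : ∀ k, H k ⟶ G}
    (h : ∀ (T : Over S) (g : (yon S).obj T ⟶ G),
      Locally T (fun T' c => ∃ (k : κ) (z : (yon S).obj T' ⟶ H k), z ≫ b k = (yon S).map c ≫ g)) : JSurj b := by
  intro T g
  obtain ⟨ι, T', c, hc, hz⟩ := (h T g).exists_fpF
  choose k z hz using hz
  exact ⟨ι, T', c, k, z, hc, hz⟩

/-- lifting through a cover by two maps -/
theorem locally_of_fpC₂ {T₁ T₂ : Over S} {c₁ : T₁ ⟶ T} {c₂ : T₂ ⟶ T} (h : FpC₂ c₁ c₂) {Z : Over S} (x : Z ⟶ T) :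
    Locally Z (fun T' c => (∃ z : T' ⟶ T₁, z ≫ c₁ = c ≫ x) ∨ (∃ z : T' ⟶ T₂, z ≫ c₂ = c ≫ x)) := by
  refine Locally.of_fpF (h.fpF.baseChange x) fun i Z' d => ?_
  match i with
  | ⟨true⟩ => exact Or.inl ⟨d ≫ pullback.snd x c₁, by
      rw [Category.assoc, Category.assoc, ← pullback.condition]⟩
  | ⟨false⟩ => exact Or.inr ⟨d ≫ pullback.snd x c₂, by
      rw [Category.assoc, Category.assoc, ← pullback.condition]⟩

end K640.Loc
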