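import Mathlib
import Groth.Agent.Sga3C.FlatPt

/-!
# Localization at `1 + J` and flatness along a closed subset

`J : Ideal B`, `locOne J = Localization (1 + J)`.
-/

set_option autoImplicit false
universe u
open CategoryTheory CategoryTheory.Limits AlgebraicGeometry

namespace K640.LocOne

variable {B : Type u} [CommRing B] (J : Ideal B)

/-- the submonoid `1 + J` -/
def oneAdd : Submonoid B := (⊥ : Submonoid (B ⧸ J)).comap (Ideal.Quotient.mk J)

theorem mem_oneAdd {b : B} : b ∈ oneAdd J ↔ b - 1 ∈ J := by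
  rw [oneAdd, Submonoid.mem_comap, Submonoid.mem_bot, ← map_one (Ideal.Quotient.mk J), Ideal.Quotient.eq]

theorem disjoint_of_le {p : Ideal B} (hp : p ≠ ⊤) (h : J ≤ p) : Disjoint (oneAdd J : Set B) (p : Set B) := by
  rw [Set.disjoint_left]
  intro b hb hbp
  apply hp
  rw [Ideal.eq_top_iff_one]
  have h1 : b - 1 ∈ p := h ((mem_oneAdd J).1 hb)
  have : (1 : B) = b - (b - 1) := by ring
  rw [this]
  exact Ideal.sub_mem _ hbp h1

variable (C : Type u) [CommRing C] [Algebra B C] [IsLocalization (oneAdd J) C]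

include J in
/-- maximal ideals of the localization at `1 + J` contain `J`. -/
theorem le_comap_of_isMaximal (m : Ideal C) [hm : m.IsMaximal] : J ≤ m.comap (algebraMap B C) := by
  intro j hj
  rw [Ideal.mem_comap]
  by_contra hn
  obtain ⟨c, hc⟩ := (Ideal.Quotient.exists_inv (I := m) (a := Ideal.Quotient.mk m (algebraMap B C j))
    (by rwa [Ne, Ideal.Quotient.eq_zero_iff_mem]))
  obtain ⟨c, rfl⟩ := Ideal.Quotient.mk_surjective c
  rw [← map_mul, ← map_one (Ideal.Quotient.mk m), Ideal.Quotient.eq] at hc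
  obtain ⟨⟨b, s⟩, hbs⟩ := IsLocalization.surj (oneAdd J) c
  have hs := IsLocalization.map_units C s
  -- j * b - s ∈ m ; s = 1 + j'; so s - j b is a unit
  have h1 : (s : B) - j * b ∈ oneAdd J := by
    rw [mem_oneAdd]
    have : (s : B) - j * b - 1 = (s - 1) - j * b := by ring
    rw [this]
    exact Ideal.sub_mem _ ((mem_oneAdd J).1 s.2) (Ideal.mul_mem_right _ _ hj)
  have h2 := IsLocalization.map_units C (⟨_, h1⟩ : oneAdd J)
  apply hm.ne_top
  refine Ideal.eq_top_of_isUnit_mem _ ?_ h2
  have h3 : algebraMap B C (s - j * b) = -(algebraMap B C s * (algebraMap B C j * c - 1)) := by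
    rw [map_sub, map_mul, ← hbs]
    ring
  change algebraMap B C (s - j * b) ∈ m
  rw [h3]
  exact neg_mem (Ideal.mul_mem_left _ _ hc)


/-- primes of `B` containing `J` are in the image of the localization at `1 + J`. -/
theorem exists_comap_eq (p : Ideal B) [hp : p.IsPrime] (h : J ≤ p) :
    ∃ q : Ideal C, q.IsPrime ∧ q.comap (algebraMap B C) = p :=
  ⟨p.map (algebraMap B C), IsLocalization.isPrime_of_isPrime_disjoint (oneAdd J) C p hp
    (disjoint_of_le J hp.ne_top h), IsLocalization.under_map_of_isPrime_disjoint (oneAdd J) C hp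
    (disjoint_of_le J hp.ne_top h)⟩

end K640.LocOne

namespace K640.LocOne

open Groth.Agent.Sga3C.FlatPt

variable {X Y : Scheme.{u}}

/-- flatness at a point is stable under generization -/
theorem isFlatAt_of_specializes {f : X ⟶ Y} {x x' : X} (h : x ⤳ x') (hf : IsFlatAt f x') : IsFlatAt f x := by
  have e : Spec.map (X.presheaf.stalkSpecializes h) ≫ X.fromSpecStalk x' = X.fromSpecStalk x :=
    Scheme.SpecMap_stalkSpecializes_fromSpecStalk h
  have h1 : Flat (Spec.map (X.presheaf.stalkSpecializes h) ≫ X.fromSpecStalk x') := by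
    rw [e]; infer_instance
  have h2 : Flat (Spec.map (X.presheaf.stalkSpecializes h)) := flat_of_comp_mono _ (X.fromSpecStalk x')
  unfold IsFlatAt at hf ⊢
  rw [← e, Category.assoc]
  infer_instance

variable {B : CommRingCat.{u}} (J : Ideal B)

/-- the localization at `1 + J` -/
noncomputable def loc : CommRingCat.{u} := CommRingCat.of (Localization (oneAdd J))

/-- the localization map -/
noncomputable def locMap : B ⟶ loc J := CommRingCat.ofHom (algebraMap B (Localization (oneAdd J)))

instance flat_locMap : Flat (Spec.map (locMap J)) := by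
  rw [Flat.SpecMap_iff]
  have h := IsLocalization.flat (Localization (oneAdd J)) (oneAdd J)
  exact (RingHom.flat_algebraMap_iff (R := B) (S := Localization (oneAdd J))).2 h

theorem mem_range_locMap (v : Spec B) (h : J ≤ v.asIdeal) : v ∈ Set.range (Spec.map (locMap J)) := by
  obtain ⟨q, hq, e⟩ := exists_comap_eq J (Localization (oneAdd J)) v.asIdeal h
  exact ⟨⟨q, hq⟩, PrimeSpectrum.ext e⟩

/-- If `h : Spec B ⟶ T` is flat along `V(J)` then `Spec (1 + J)⁻¹B ⟶ T` is flat. -/
theorem le_of_isMaximal (m : Ideal (loc J)) (hm : m.IsMaximal) : J ≤ m.comap (locMap J).hom :=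
  le_comap_of_isMaximal J (Localization (oneAdd J)) (hm := hm) (show Ideal (Localization (oneAdd J)) from m)

theorem flat_locMap_comp {T : Scheme.{u}} (h : Spec B ⟶ T)
    (hf : ∀ v : Spec B, J ≤ v.asIdeal → IsFlatAt h v) : Flat (Spec.map (locMap J) ≫ h) := by
  apply flat_of_forall_isFlatAt
  intro x
  obtain ⟨m, hm, hxm⟩ := Ideal.exists_le_maximal x.asIdeal x.2.ne_top
  let x' : Spec (loc J) := ⟨m, hm.isPrime⟩
  have hsp : x ⤳ x' := (PrimeSpectrum.le_iff_specializes x x').1 hxm
  refine isFlatAt_of_specializes hsp (IsFlatAt.comp (isFlatAt_of_flat _ _) (hf _ ?_))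
  exact le_of_isMaximal J m hm

theorem mem_iff_vanishingIdeal_le {E : Set (PrimeSpectrum B)} (hE : IsClosed E) (p : PrimeSpectrum B) :
    p ∈ E ↔ PrimeSpectrum.vanishingIdeal E ≤ p.asIdeal := by
  have h1 : p ∈ PrimeSpectrum.zeroLocus (PrimeSpectrum.vanishingIdeal E : Set B) ↔
    PrimeSpectrum.vanishingIdeal E ≤ p.asIdeal := Iff.rfl
  rw [← h1, PrimeSpectrum.zeroLocus_vanishingIdeal_eq_closure, hE.closure_eq]

/-- If `h : Spec B ⟶ T` is flat at the points of a closed subset `E` then there is a localization `Spec C ⟶ Spec B`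
whose image contains `E`, with `Spec C ⟶ T` flat. -/
theorem exists_loc {T : Scheme.{u}} (h : Spec B ⟶ T) {E : Set ↥(Spec B)} (hE : IsClosed E)
    (hf : ∀ p ∈ E, IsFlatAt h p) :
    ∃ (C : CommRingCat.{u}) (c : Spec C ⟶ Spec B), Flat (c ≫ h) ∧ E ⊆ Set.range c :=
  ⟨loc (PrimeSpectrum.vanishingIdeal (R := B) E), Spec.map (locMap _),
    flat_locMap_comp _ _ fun p hp => hf p ((mem_iff_vanishingIdeal_le hE p).2 hp),
    fun p hp => mem_range_locMap _ p ((mem_iff_vanishingIdeal_le hE p).1 hp)⟩

end K640.LocOne
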