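import Groth.Agent.AlgSp.K610.Sub
import Groth.Agent.AlgSp.K615.Cov
import Mathlib.CategoryTheory.Sites.LeftExact

/-!
# Pushouts of fppf sheaves: the two legs are jointly locally surjective; base change along monomorphisms
-/

set_option autoImplicit false
universe u v
open CategoryTheory CategoryTheory.Limits AlgebraicGeometry Opposite AlgSp

namespace K640.PushSurj

variable {S : Scheme.{u}} {A B C P : Sp S}

/-- the sieve of local lifts through one of two morphisms -/
def liftSieve (i : A ⟶ P) (j : B ⟶ P) {T : Over S} (y : (yon S).obj T ⟶ P) : Sieve T where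
  arrows T' g := (∃ x : (yon S).obj T' ⟶ A, x ≫ i = (yon S).map g ≫ y) ∨
    (∃ x : (yon S).obj T' ⟶ B, x ≫ j = (yon S).map g ≫ y)
  downward_closed := by
    rintro T' T'' g (⟨x, hx⟩ | ⟨x, hx⟩) k
    · exact Or.inl ⟨(yon S).map k ≫ x, by rw [Category.assoc, hx, (yon S).map_comp, Category.assoc]⟩
    · exact Or.inr ⟨(yon S).map k ≫ x, by rw [Category.assoc, hx, (yon S).map_comp, Category.assoc]⟩

theorem liftSieve_pullback (i : A ⟶ P) (j : B ⟶ P) {T T' : Over S} (y : (yon S).obj T ⟶ P) (g : T' ⟶ T) :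
    liftSieve i j ((yon S).map g ≫ y) = (liftSieve i j y).pullback g := by
  ext T'' k
  change (_ ∨ _) ↔ (_ ∨ _)
  rw [(yon S).map_comp, Category.assoc]

/-- local lifts -/
def pred (i : A ⟶ P) (j : B ⟶ P) : K610.Sub.LocPred P where
  pr T y := liftSieve i j y ∈ J S T
  map φ g h := by
    rw [liftSieve_pullback]
    exact (J S).pullback_stable φ h
  loc := by
    intro T y h
    let R : Sieve T :=
      { arrows := fun T' g => liftSieve i j ((yon S).map g ≫ y) ∈ J S T'
        downward_closed := by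
          intro T' T'' g hg k
          rw [(yon S).map_comp, Category.assoc, liftSieve_pullback]
          exact (J S).pullback_stable k hg }
    have hR : R ∈ J S T := K615.Cov.sieve_mem R fun t => by
      obtain ⟨Y, φ, h1, h2, h3, h4⟩ := h t
      exact ⟨Y, φ, h4, h1, h2, h3⟩
    refine (J S).transitive hR _ fun T' g hg => ?_
    rw [← liftSieve_pullback]
    exact hg

theorem jsurj_of_isPushout {f : C ⟶ A} {g : C ⟶ B} {i : A ⟶ P} {j : B ⟶ P} (H : IsPushout f g i j) (T : Over S)
    (y : (yon S).obj T ⟶ P) : liftSieve i j y ∈ J S T := by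
  obtain ⟨i', hi'⟩ := (pred i j).exists_lift i (fun T' x => by
    change liftSieve i j (x ≫ i) ∈ J S T'
    have : liftSieve i j (x ≫ i) = ⊤ := by
      rw [← Sieve.id_mem_iff_eq_top]
      exact Or.inl ⟨x, by simp⟩
    rw [this]
    exact (J S).top_mem _)
  obtain ⟨j', hj'⟩ := (pred i j).exists_lift j (fun T' x => by
    change liftSieve i j (x ≫ j) ∈ J S T'
    have : liftSieve i j (x ≫ j) = ⊤ := by
      rw [← Sieve.id_mem_iff_eq_top]
      exact Or.inr ⟨x, by simp⟩
    rw [this]
    exact (J S).top_mem _)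
  have hw : f ≫ i' = g ≫ j' := by
    rw [← cancel_mono (pred i j).ι, Category.assoc, Category.assoc, hi', hj', H.w]
  have hs : H.desc i' j' hw ≫ (pred i j).ι = 𝟙 P := by
    apply H.hom_ext
    · rw [H.inl_desc_assoc, hi', Category.comp_id]
    · rw [H.inr_desc_assoc, hj', Category.comp_id]
  have := (pred i j).pr_comp (y ≫ H.desc i' j' hw)
  rwa [Category.assoc, hs, Category.comp_id] at this

/-- Base change of a pushout along a monomorphism. -/
theorem isPushout_of_cube {f : C ⟶ A} {g : C ⟶ B} {i : A ⟶ P} {j : B ⟶ P} (H : IsPushout f g i j) [Mono f]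
    {C' A' B' P' : Sp S} {f' : C' ⟶ A'} {g' : C' ⟶ B'} {i' : A' ⟶ P'} {j' : B' ⟶ P'} {αC : C' ⟶ C} {αA : A' ⟶ A}
    {αB : B' ⟶ B} {αP : P' ⟶ P} (hf : IsPullback f' αC αA f) (hg : IsPullback g' αC αB g)
    (hi : IsPullback i' αA αP i) (hj : IsPullback j' αB αP j) (w : f' ≫ i' = g' ≫ j') : IsPushout f' g' i' j' :=
  (Adhesive.van_kampen H f' g' i' j' αC αA αB αP hf hg ⟨hi.w⟩ ⟨hj.w⟩ ⟨w⟩).2 ⟨hi, hj⟩

end K640.PushSurj
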