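import Groth.Agent.AlgSp.K615.RelNorm

/-!
# Relative normalization in a sheaf (helper640)

Variant of helper615's construction of relative normalizations: the source `Q` of `f : Q ⟶ X` is any fppf sheaf, and
over every affine étale chart `U` of `X` there are affine schemes `V`, `W` with `q : h_V ⟶ Q_U` locally surjective and
`p1 p2 : W ⟶ V` such that `q` coequalizes `p1 p2` and every `V ⟶ N` (`N` a scheme) with `p1 ≫ n = p2 ≫ n` factors
through `Q_U` (`W` need not cover `V ×_Q V`).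
-/

set_option autoImplicit false
universe u v
open CategoryTheory CategoryTheory.Limits AlgebraicGeometry Opposite AlgSp

namespace K640.QNorm

open K615 K615.Norm K615.Aff K615.UN K615.Desc

variable {S : Scheme.{u}}

structure ECov {Y : Sp S} {V W : Over S} (q : (yon S).obj V ⟶ Y) (p1 p2 : W ⟶ V) : Prop where
  affV : IsAffine V.left
  affW : IsAffine W.left
  w : (yon S).map p1 ≫ q = (yon S).map p2 ≫ q
  surj : ∀ (T : Over S) (y : (yon S).obj T ⟶ Y), ∃ R ∈ J S T, ∀ (T' : Over S) (g : T' ⟶ T), R g →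
    ∃ v : T' ⟶ V, (yon S).map v ≫ q = (yon S).map g ≫ y

theorem ECov.jsurj {Y : Sp S} {V W : Over S} {q : (yon S).obj V ⟶ Y} {p1 p2 : W ⟶ V}
    (h : ECov q p1 p2) : Pt.JSurj (fun _ : Unit => (yon S).obj V) (fun _ => q) := by
  intro T y
  obtain ⟨R, hR, H⟩ := h.surj T y
  refine ⟨R, hR, fun T' g hg => ?_⟩
  obtain ⟨v, hv⟩ := H T' g hg
  exact ⟨(), _, hv⟩

theorem ECov.ext {Y Z : Sp S} {V W : Over S} {q : (yon S).obj V ⟶ Y} {p1 p2 : W ⟶ V}
    (h : ECov q p1 p2) {k k' : Y ⟶ Z} (hk : q ≫ k = q ≫ k') : k = k' :=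
  h.jsurj.ext fun _ => hk

/-- Base change of a presentation. -/
theorem ECov.of_isPullback {Y Y' : Sp S} {V W V' W' U U' : Over S} {q : (yon S).obj V ⟶ Y} {p1 p2 : W ⟶ V}
    (h : ECov q p1 p2) {fY : Y ⟶ (yon S).obj U} {e : U' ⟶ U} {y : Y' ⟶ Y} {fY' : Y' ⟶ (yon S).obj U'}
    (hU : IsAffine U.left) (hU' : IsAffine U'.left)
    (sqY : IsPullback y fY' fY ((yon S).map e)) {v : V ⟶ U} (hv : q ≫ fY = (yon S).map v)
    {a : V' ⟶ V} {v' : V' ⟶ U'} (sqV : IsPullback a v' v e)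
    {b : W' ⟶ W} {w' : W' ⟶ U'} (sqW : IsPullback b w' (p1 ≫ v) e)
    {q' : (yon S).obj V' ⟶ Y'} (hq1 : q' ≫ y = (yon S).map a ≫ q) (hq2 : q' ≫ fY' = (yon S).map v')
    {p1' p2' : W' ⟶ V'} (h1 : p1' ≫ a = b ≫ p1) (h2 : p2' ≫ a = b ≫ p2) (h1' : p1' ≫ v' = w')
    (h2' : p2' ≫ v' = w') : ECov q' p1' p2' where
  affV := Int.isAffine_of_isPullback sqV h.affV hU' hU
  affW := Int.isAffine_of_isPullback sqW h.affW hU' hU
  w := by
    apply sqY.hom_ext
    · rw [Category.assoc, hq1, ← Category.assoc, ← (yon S).map_comp, h1, (yon S).map_comp, Category.assoc, h.w,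
        Category.assoc, hq1, ← Category.assoc ((yon S).map p2'), ← (yon S).map_comp, h2, (yon S).map_comp,
        Category.assoc]
    · rw [Category.assoc, hq2, ← (yon S).map_comp, h1', Category.assoc, hq2, ← (yon S).map_comp, h2']
  surj := by
    intro T z
    obtain ⟨R, hR, H⟩ := h.surj T (z ≫ y)
    refine ⟨R, hR, fun T' g hg => ?_⟩
    obtain ⟨t, ht⟩ := H T' g hg
    obtain ⟨z', hz'⟩ := (yon S).map_surjective (z ≫ fY')
    have hc : t ≫ v = (g ≫ z') ≫ e := (yon S).map_injective (by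
      rw [(yon S).map_comp, ← hv, ← Category.assoc, ht, Category.assoc, Category.assoc, sqY.w,
        (yon S).map_comp, (yon S).map_comp, hz', Category.assoc, Category.assoc])
    refine ⟨sqV.lift t (g ≫ z') hc, ?_⟩
    apply sqY.hom_ext
    · rw [Category.assoc, hq1, ← Category.assoc, ← (yon S).map_comp, sqV.lift_fst, ht, Category.assoc]
    · rw [Category.assoc, hq2, ← (yon S).map_comp, sqV.lift_snd, (yon S).map_comp, hz', Category.assoc]

theorem isRel {U V W N : Over S} {n : V ⟶ N} {ν : N ⟶ U} {p1 p2 : W ⟶ V} (h : NChar n ν p1 p2)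
    (hU : IsAffine U.left) {Y : Sp S} {q : (yon S).obj V ⟶ Y} (hc : ECov q p1 p2) {fY : Y ⟶ (yon S).obj U}
    (hv : q ≫ fY = (yon S).map (n ≫ ν)) {g : Y ⟶ (yon S).obj N} (hg : q ≫ g = (yon S).map n) :
    IsRelNormalization fY ((yon S).map ν) g := by
  refine ⟨hc.ext ?_, Int.yon_map ν h.integral, fun Z hZ π k hπ hk => ?_⟩
  · rw [← Category.assoc, hg, hv, (yon S).map_comp]
  obtain ⟨M, μ, e, he, hM, hμ⟩ := Int.exists_iso_of_isAffine hU π hπ
  have he' : e.inv ≫ (yon S).map μ = π := by rw [← he, Iso.inv_hom_id_assoc]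
  obtain ⟨κ, hκ⟩ := (yon S).map_surjective (q ≫ k ≫ e.inv)
  have hκμ : κ ≫ μ = n ≫ ν := (yon S).map_injective (by
    rw [(yon S).map_comp, hκ, Category.assoc, Category.assoc, he', hk, hv])
  have hκp : p1 ≫ κ = p2 ≫ κ := (yon S).map_injective (by
    rw [(yon S).map_comp, (yon S).map_comp, hκ, ← Category.assoc, hc.w, Category.assoc])
  have key : ∀ y, ∃ x, n.left.appTop x = κ.left.appTop y := by
    intro y
    apply h.surj
    · obtain ⟨P, hP, hP'⟩ := (IsIntegralHom.isIntegral_app μ.left ⊤ (isAffineOpen_top _)) y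
      refine ⟨P, hP, ?_⟩
      have e1 : (n ≫ ν).left.appTop = μ.left.appTop ≫ κ.left.appTop := by
        rw [← hκμ, Over.comp_left, Scheme.Hom.comp_appTop]
      rw [e1, CommRingCat.hom_comp, ← Polynomial.hom_eval₂]
      exact (congrArg _ hP').trans (map_zero _)
    · have := congrArg (fun k => k.left.appTop y) hκp
      simpa using this
  obtain ⟨m, hm⟩ := exists_factor n.left h.inj κ.left key
  have hmμ : m ≫ μ.left = ν.left := by
    apply eq_of_comp_eq n.left h.inj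
    rw [← Category.assoc, hm, ← Over.comp_left, hκμ, Over.comp_left]
  let m' : N ⟶ M := Over.homMk m (by
    rw [← Over.w μ, ← Category.assoc, hmμ, Over.w ν])
  have hm'1 : n ≫ m' = κ := by ext : 1; exact hm
  have hm'2 : m' ≫ μ = ν := by ext : 1; exact hmμ
  refine ⟨(yon S).map m' ≫ e.hom, ⟨?_, ?_⟩, ?_⟩
  · apply hc.ext
    rw [← Category.assoc, hg, ← Category.assoc, ← (yon S).map_comp, hm'1, hκ, Category.assoc, Category.assoc,
      e.inv_hom_id, Category.comp_id]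
  · rw [Category.assoc, he, ← (yon S).map_comp, hm'2]
  · rintro k' ⟨hk1, hk2⟩
    obtain ⟨l, hl⟩ := (yon S).map_surjective (k' ≫ e.inv)
    have : l = m' := by
      ext : 1
      apply eq_of_comp_eq n.left h.inj
      rw [← Over.comp_left, ← Over.comp_left, hm'1]
      congr 1
      apply (yon S).map_injective
      rw [(yon S).map_comp, hl, ← hg, Category.assoc, ← Category.assoc g, hk1, hκ]
    rw [← this, hl, Category.assoc, e.inv_hom_id, Category.comp_id]

theorem of_nChar {U V W N : Over S} {n : V ⟶ N} {ν : N ⟶ U} {p1 p2 : W ⟶ V} (h : NChar n ν p1 p2)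
    (hU : IsAffine U.left) {Y : Sp S} {q : (yon S).obj V ⟶ Y} (hc : ECov q p1 p2) {fY : Y ⟶ (yon S).obj U}
    (hv : q ≫ fY = (yon S).map (n ≫ ν)) {g : Y ⟶ (yon S).obj N} (hg : q ≫ g = (yon S).map n) :
    UNorm fY ((yon S).map ν) g := by
  have hgν : g ≫ (yon S).map ν = fY := hc.ext (by
    rw [← Category.assoc, hg, hv, (yon S).map_comp])
  refine ⟨hgν, Int.yon_map ν h.integral, ?_⟩
  intro U' a hU' ha
  obtain ⟨e, rfl⟩ := (yon S).map_surjective a
  have he : Etale e.left := (repWith_yon_map_iff _ _).1 ha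
  have sqN := IsPullback.of_hasPullback ν e
  have sqV := IsPullback.of_hasPullback (n ≫ ν) e
  have sqW := IsPullback.of_hasPullback (p1 ≫ n ≫ ν) e
  have sqY := IsPullback.of_hasPullback fY ((yon S).map e)
  have sqN' := Int.isPullback_yon sqN
  let n' := sqN.lift (pullback.fst (n ≫ ν) e ≫ n) (pullback.snd (n ≫ ν) e) (by
    rw [Category.assoc, sqV.w])
  have hn1 : n' ≫ pullback.fst ν e = pullback.fst (n ≫ ν) e ≫ n := sqN.lift_fst _ _ _
  have hn2 : n' ≫ pullback.snd ν e = pullback.snd (n ≫ ν) e := sqN.lift_snd _ _ _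
  have w2 : p2 ≫ n ≫ ν = p1 ≫ n ≫ ν := by
    rw [← Category.assoc, ← h.eq, Category.assoc]
  let p1' := sqV.lift (pullback.fst (p1 ≫ n ≫ ν) e ≫ p1) (pullback.snd (p1 ≫ n ≫ ν) e) (by
    rw [Category.assoc, sqW.w])
  let p2' := sqV.lift (pullback.fst (p1 ≫ n ≫ ν) e ≫ p2) (pullback.snd (p1 ≫ n ≫ ν) e) (by
    rw [Category.assoc, w2, sqW.w])
  have h1 : p1' ≫ pullback.fst (n ≫ ν) e = pullback.fst (p1 ≫ n ≫ ν) e ≫ p1 := sqV.lift_fst _ _ _
  have h1' : p1' ≫ pullback.snd (n ≫ ν) e = pullback.snd (p1 ≫ n ≫ ν) e := sqV.lift_snd _ _ _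
  have h2 : p2' ≫ pullback.fst (n ≫ ν) e = pullback.fst (p1 ≫ n ≫ ν) e ≫ p2 := sqV.lift_fst _ _ _
  have h2' : p2' ≫ pullback.snd (n ≫ ν) e = pullback.snd (p1 ≫ n ≫ ν) e := sqV.lift_snd _ _ _
  let q' := sqY.lift ((yon S).map (pullback.fst (n ≫ ν) e) ≫ q) ((yon S).map (pullback.snd (n ≫ ν) e)) (by
    rw [Category.assoc, hv, ← (yon S).map_comp, sqV.w, (yon S).map_comp])
  have hq1 : q' ≫ pullback.fst fY ((yon S).map e) = (yon S).map (pullback.fst (n ≫ ν) e) ≫ q :=
    sqY.lift_fst _ _ _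
  have hq2 : q' ≫ pullback.snd fY ((yon S).map e) = (yon S).map (pullback.snd (n ≫ ν) e) :=
    sqY.lift_snd _ _ _
  let g' := sqN'.lift (pullback.fst fY ((yon S).map e) ≫ g) (pullback.snd fY ((yon S).map e)) (by
    rw [Category.assoc, hgν, sqY.w])
  have hg1 : g' ≫ (yon S).map (pullback.fst ν e) = pullback.fst fY ((yon S).map e) ≫ g :=
    sqN'.lift_fst _ _ _
  have hg2 : g' ≫ (yon S).map (pullback.snd ν e) = pullback.snd fY ((yon S).map e) := sqN'.lift_snd _ _ _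
  have hc' := hc.of_isPullback hU hU' sqY hv sqV sqW hq1 hq2 h1 h2 h1' h2'
  have hN' := h.of_isPullback hU hU' hc.affV hc.affW (inferInstance : Smooth e.left) sqN sqV sqW hn1 hn2 h1 h2
    h1' h2'
  refine LNorm.of_one sqY sqN' hg2 hg1 (isRel hN' hU' hc' ?_ ?_)
  · rw [hq2, ← hn2]
  · apply sqN'.hom_ext
    · rw [Category.assoc, hg1, ← Category.assoc, hq1, Category.assoc, hg, ← (yon S).map_comp,
        ← (yon S).map_comp, hn1]
    · rw [Category.assoc, hg2, hq2, ← (yon S).map_comp, hn2]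

/-- A presentation of `Q_U` together with maps to schemes. -/
structure DCov {Y : Sp S} {V W : Over S} (q : (yon S).obj V ⟶ Y) (p1 p2 : W ⟶ V) : Prop extends ECov q p1 p2 where
  desc : ∀ {N : Over S} (n : V ⟶ N), p1 ≫ n = p2 ≫ n → ∃ g : Y ⟶ (yon S).obj N, q ≫ g = (yon S).map n

/-- The chart of the normalization attached to a presentation of the chart of `Q`. -/
theorem DCov.exists_nChar {U V W : Over S} (hU : IsAffine U.left) {Y : Sp S} {q : (yon S).obj V ⟶ Y} {p1 p2 : W ⟶ V}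
    (hc : DCov q p1 p2) (fY : Y ⟶ (yon S).obj U) :
    ∃ (N : Over S) (n : V ⟶ N) (ν : N ⟶ U) (g : Y ⟶ (yon S).obj N), NChar n ν p1 p2 ∧
      q ≫ fY = (yon S).map (n ≫ ν) ∧ q ≫ g = (yon S).map n ∧ UNorm fY ((yon S).map ν) g := by
  obtain ⟨v, hv⟩ := (yon S).map_surjective (q ≫ fY)
  have hp : p1 ≫ v = p2 ≫ v := (yon S).map_injective (by
    rw [(yon S).map_comp, (yon S).map_comp, hv, ← Category.assoc, ← Category.assoc, hc.w])
  obtain ⟨N, n, ν, hn, hN⟩ := Exist.exists_nChar v p1 p2 hU hp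
  obtain ⟨g, hg⟩ := hc.desc n hN.eq
  have hv' : q ≫ fY = (yon S).map (n ≫ ν) := by rw [hn, hv]
  exact ⟨N, n, ν, g, hN, hv', hg, of_nChar hN hU hc.toECov hv' hg⟩

/-- **Existence of the normalization in a sheaf.** -/
theorem exists_uNorm {X Q : Sp S} {f : Q ⟶ X} (hX : IsAlgSpace X)
    (H : ∀ c : Cov.Chart X, ∃ (V W : Over S) (q : (yon S).obj V ⟶ pullback f c.a) (p1 p2 : W ⟶ V), DCov q p1 p2) :
    ∃ (X' : Sp S) (ν : X' ⟶ X) (f' : Q ⟶ X'), IsAlgSpace X' ∧ UNorm f ν f' := by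
  have key : ∀ c : Cov.Chart X, ∃ (N : Over S) (ν : N ⟶ c.U) (g : pullback f c.a ⟶ (yon S).obj N),
      UNorm (pullback.snd f c.a) ((yon S).map ν) g := by
    intro c
    obtain ⟨V, W, q, p1, p2, hc⟩ := H c
    obtain ⟨N, n, ν, g, -, -, -, h⟩ := hc.exists_nChar c.affine (pullback.snd f c.a)
    exact ⟨N, ν, g, h⟩
  choose N ν g hun using key
  let L : Loc f (fun c : Cov.Chart X => (yon S).obj c.U) (fun c => c.a) :=
    { hU := fun c => IsAlgSpace.yon_obj _
      ha := fun c => c.etale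
      Y' := fun c => pullback f c.a
      y := fun c => pullback.fst f c.a
      f' := fun c => pullback.snd f c.a
      sq := fun c => IsPullback.of_hasPullback f c.a
      N := fun c => (yon S).obj (N c)
      ν := fun c => (yon S).map (ν c)
      g := g
      un := hun }
  obtain ⟨X', ν', f', m, h1, h2, h3, h4, h5⟩ := L.exists_glue hX (points_of_charts hX)
  refine ⟨X', ν', f', h1, h3, h2, fun U a hU ha => ?_⟩
  let c : Cov.Chart X := ⟨U, a, hU, ha⟩
  exact LNorm.of_one (L.sq c) (h4 c) (L.un c).w (h5 c) ((L.un c).isRel (L.hU c))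

/-- The charts of a normalization in a sheaf, computed from any presentation. -/
theorem UNorm.exists_chart {X Q X' : Sp S} {f : Q ⟶ X} {ν : X' ⟶ X} {f' : Q ⟶ X'} (h : UNorm f ν f')
    {U : Over S} (hU : IsAffine U.left) {a : (yon S).obj U ⟶ X} (ha : RepWith @Etale a) {QU : Sp S} {y : QU ⟶ Q}
    {fU : QU ⟶ (yon S).obj U} (sq : IsPullback y fU f a) {V W : Over S} {q : (yon S).obj V ⟶ QU} {p1 p2 : W ⟶ V}
    (hc : DCov q p1 p2) :
    ∃ (N : Over S) (n : V ⟶ N) (νU : N ⟶ U) (m : (yon S).obj N ⟶ X'), NChar n νU p1 p2 ∧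
      q ≫ fU = (yon S).map (n ≫ νU) ∧ IsPullback m ((yon S).map νU) ν a ∧ q ≫ y ≫ f' = (yon S).map n ≫ m := by
  obtain ⟨N, n, νU, g, hN, hv, hg, hun⟩ := hc.exists_nChar hU fU
  have sqν := IsPullback.of_hasPullback ν a
  let g' : QU ⟶ pullback ν a := sqν.lift (y ≫ f') fU (by rw [Category.assoc, h.w, sq.w])
  have hg'1 : g' ≫ pullback.fst ν a = y ≫ f' := sqν.lift_fst _ _ _
  have hg'2 : g' ≫ pullback.snd ν a = fU := sqν.lift_snd _ _ _
  have hrel : IsRelNormalization fU (pullback.snd ν a) g' := h.charts U a hU ha y fU _ _ g' sq sqν hg'2 hg'1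
  have hX' : IsAlgSpace (pullback ν a) := isAlgSpace_of_integral (Int.of_isPullback sqν h.integral) (IsAlgSpace.yon_obj U)
  obtain ⟨e, he1, he2⟩ := UN.exists_iso (IsAlgSpace.yon_obj N) hX' (hun.isRel (IsAlgSpace.yon_obj U)) hrel
  refine ⟨N, n, νU, e.hom ≫ pullback.fst ν a, hN, hv, ?_, ?_⟩
  · exact IsPullback.of_iso sqν e.symm (Iso.refl _) (Iso.refl _) (Iso.refl _) (by simp) (by simp [← he2]) (by simp) (by simp)
  · rw [← hg, Category.assoc, ← Category.assoc g, he1, hg'1]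

end K640.QNorm
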