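import Groth.Agent.AlgSp.K640.PinchChart
import Groth.Agent.AlgSp.K640.PushSurj
import Groth.Agent.AlgSp.K640.QNorm
import Groth.Agent.AlgSp.K639.NoethFib
import Groth.Agent.AlgSp.K617.FinLoc

/-!
# Pinching: glueing a closed subspace of the base along its preimage
-/

set_option autoImplicit false
universe u v
open CategoryTheory CategoryTheory.Limits AlgebraicGeometry Opposite
open AlgSp K613.Basic K613.Cover K640.Joint K640.Loc K640.Glue2 K640.PinchChart K640.QNorm K615.UN K615.Aff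

namespace K640.Pinch

variable {S : Scheme.{u}} {X Y Z C Q : Sp S}

theorem exists_dCov {f : X ⟶ Y} {κ : Z ⟶ Y} (hf : IsIntegralMor f) (hκ : RepWith @IsClosedImmersion κ) [Mono κ]
    {c1 : C ⟶ X} {c2 : C ⟶ Z} (sqC : IsPullback c1 c2 f κ) {inl : X ⟶ Q} {inr : Z ⟶ Q}
    (po : IsPushout c1 c2 inl inr) {fQ : Q ⟶ Y} (h1 : inl ≫ fQ = f) (h2 : inr ≫ fQ = κ) {U : Over S}
    (hU : IsAffine U.left) (a : (yon S).obj U ⟶ Y) {QU : Sp S} {y : QU ⟶ Q} {fU : QU ⟶ (yon S).obj U}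
    (sq : IsPullback y fU fQ a) :
    ∃ (XU ZU D V : Over S) (i : XU ⟶ U) (j : ZU ⟶ U) (d1 : D ⟶ XU) (d2 : D ⟶ ZU) (ia : XU ⟶ V) (ib : ZU ⟶ V)
      (yX : (yon S).obj XU ⟶ X) (yZ : (yon S).obj ZU ⟶ Z) (q : (yon S).obj V ⟶ QU),
      PData i j d1 d2 ia ib ∧ IsPullback yX ((yon S).map i) f a ∧ IsPullback yZ ((yon S).map j) κ a ∧
      DCov q (d1 ≫ ia) (d2 ≫ ib) ∧ (yon S).map ia ≫ q ≫ y = yX ≫ inl ∧ (yon S).map ib ≫ q ≫ y = yZ ≫ inr ∧
      (yon S).map ia ≫ q ≫ fU = (yon S).map i ∧ (yon S).map ib ≫ q ≫ fU = (yon S).map j := by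
  obtain ⟨XU, i, yX, sqX, hXU, hi⟩ := hf hU a
  obtain ⟨ZU, j, yZ, sqZ⟩ := hκ.1 a
  have hj : IsClosedImmersion j.left := hκ.2 a yZ j sqZ
  obtain ⟨D, V, d1, d2, ia, ib, hP⟩ := exists_pData hU i j hi hj
  let qX : (yon S).obj XU ⟶ QU := sq.lift (yX ≫ inl) ((yon S).map i) (by rw [Category.assoc, h1, sqX.w])
  let qZ : (yon S).obj ZU ⟶ QU := sq.lift (yZ ≫ inr) ((yon S).map j) (by rw [Category.assoc, h2, sqZ.w])
  have hqX1 : qX ≫ y = yX ≫ inl := sq.lift_fst _ _ _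
  have hqX2 : qX ≫ fU = (yon S).map i := sq.lift_snd _ _ _
  have hqZ1 : qZ ≫ y = yZ ≫ inr := sq.lift_fst _ _ _
  have hqZ2 : qZ ≫ fU = (yon S).map j := sq.lift_snd _ _ _
  have sqD := K615.Int.isPullback_yon hP.sq
  let αC : (yon S).obj D ⟶ C := sqC.lift ((yon S).map d1 ≫ yX) ((yon S).map d2 ≫ yZ) (by
    rw [Category.assoc, sqX.w, Category.assoc, sqZ.w, ← Category.assoc, sqD.w, Category.assoc])
  have hα1 : αC ≫ c1 = (yon S).map d1 ≫ yX := sqC.lift_fst _ _ _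
  have hα2 : αC ≫ c2 = (yon S).map d2 ≫ yZ := sqC.lift_snd _ _ _
  have w0 : (yon S).map d1 ≫ qX = (yon S).map d2 ≫ qZ := by
    apply sq.hom_ext
    · rw [Category.assoc, Category.assoc, hqX1, hqZ1, ← Category.assoc, ← hα1, Category.assoc, po.w,
        ← Category.assoc, hα2, Category.assoc]
    · rw [Category.assoc, Category.assoc, hqX2, hqZ2, sqD.w]
  have hi' : IsPullback qX yX y inl := by
    refine (IsPullback.of_bot (h₁₁ := yX) (v₁₁ := qX) (v₂₁ := fU) (v₁₂ := inl) (v₂₂ := fQ) (h₃₁ := a) (h₂₁ := y)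
      ?_ ?_ sq).flip
    · rw [hqX2, h1]; exact sqX
    · exact hqX1.symm
  have hj' : IsPullback qZ yZ y inr := by
    refine (IsPullback.of_bot (h₁₁ := yZ) (v₁₁ := qZ) (v₂₁ := fU) (v₁₂ := inr) (v₂₂ := fQ) (h₃₁ := a) (h₂₁ := y)
      ?_ ?_ sq).flip
    · rw [hqZ2, h2]; exact sqZ
    · exact hqZ1.symm
  have hf' : IsPullback ((yon S).map d1) αC yX c1 := by
    refine (IsPullback.of_right (h₁₁ := αC) (h₁₂ := c2) (v₁₁ := (yon S).map d1) (v₁₃ := κ) (h₂₁ := yX) (h₂₂ := f)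
      (v₁₂ := c1) ?_ hα1 sqC.flip).flip
    rw [hα2, sqX.w]
    exact sqD.flip.paste_horiz sqZ
  have hg' : IsPullback ((yon S).map d2) αC yZ c2 := by
    refine (IsPullback.of_right (h₁₁ := αC) (h₁₂ := c1) (v₁₁ := (yon S).map d2) (v₁₃ := f) (h₂₁ := yZ) (h₂₂ := κ)
      (v₁₂ := c2) ?_ hα2 sqC).flip
    rw [hα1, sqZ.w]
    exact sqD.paste_horiz sqX
  have hc1 : Mono c1 := ⟨fun x x' hx => sqC.hom_ext hx (by
    rw [← cancel_mono κ, Category.assoc, Category.assoc, ← sqC.w, ← Category.assoc, hx, Category.assoc])⟩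
  have H : IsPushout ((yon S).map d1) ((yon S).map d2) qX qZ := K640.PushSurj.isPushout_of_cube po hf' hg' hi' hj' w0
  have oa := hP.oa
  have ob := hP.ob
  have ma : Mono ia := mono_of_mono_left ia inferInstance
  have mb : Mono ib := mono_of_mono_left ib inferInstance
  obtain ⟨q, hq1, hq2⟩ := hP.fp.glue ma mb qX qZ (fun R u v huv => by
    have := hP.disj R u v huv
    exact eq_of_isEmpty _ _)
  refine ⟨XU, ZU, D, V, i, j, d1, d2, ia, ib, yX, yZ, q, hP, sqX, sqZ, ⟨⟨hP.affV, hP.affD, ?_, ?_⟩, ?_⟩, ?_, ?_, ?_, ?_⟩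
  · rw [(yon S).map_comp, Category.assoc, hq1, (yon S).map_comp, Category.assoc, hq2, w0]
  · intro T t
    refine ⟨_, K640.PushSurj.jsurj_of_isPushout H T t, ?_⟩
    rintro T' g (⟨x, hx⟩ | ⟨x, hx⟩)
    · obtain ⟨x, rfl⟩ := (yon S).map_surjective x
      exact ⟨x ≫ ia, by rw [(yon S).map_comp, Category.assoc, hq1, hx]⟩
    · obtain ⟨x, rfl⟩ := (yon S).map_surjective x
      exact ⟨x ≫ ib, by rw [(yon S).map_comp, Category.assoc, hq2, hx]⟩
  · intro N n hn
    have hw : (yon S).map d1 ≫ (yon S).map (ia ≫ n) = (yon S).map d2 ≫ (yon S).map (ib ≫ n) := by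
      rw [← (yon S).map_comp, ← (yon S).map_comp, ← Category.assoc, hn, Category.assoc]
    refine ⟨H.desc _ _ hw, ?_⟩
    apply hP.fp.ext
    · rw [← Category.assoc, hq1, H.inl_desc, (yon S).map_comp]
    · rw [← Category.assoc, hq2, H.inr_desc, (yon S).map_comp]
  · rw [← Category.assoc, hq1, hqX1]
  · rw [← Category.assoc, hq2, hqZ1]
  · rw [← Category.assoc, hq1, hqX2]
  · rw [← Category.assoc, hq2, hqZ2]

theorem isUnit_of_basicOpen_eq {X : Scheme.{u}} (f : Γ(X, ⊤)) (h : ⊤ ≤ X.basicOpen f) : IsUnit f :=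
  RingedSpace.isUnit_of_isUnit_germ (X := X.toRingedSpace) ⊤ f fun x hx =>
    (X.mem_basicOpen f x hx).1 (h hx)

theorem existsUnique_lift {f : X ⟶ Y} {κ : Z ⟶ Y} (hf : IsIntegralMor f) (hκ : RepWith @IsClosedImmersion κ) [Mono κ]
    {c1 : C ⟶ X} {c2 : C ⟶ Z} (sqC : IsPullback c1 c2 f κ) {inl : X ⟶ Q} {inr : Z ⟶ Q}
    (po : IsPushout c1 c2 inl inr) {fQ : Q ⟶ Y} (h1 : inl ≫ fQ = f) (h2 : inr ≫ fQ = κ) (hY : IsAlgSpace Y)
    {X' : Sp S} {ν : X' ⟶ Y} {f' : Q ⟶ X'} (hUN : UNorm fQ ν f') (T : Over S) (t : (yon S).obj T ⟶ X')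
    (ht : ∀ (R : Over S) (r : R ⟶ T) (z : (yon S).obj R ⟶ Z), (yon S).map r ≫ t ≫ ν = z ≫ κ → IsEmpty R.left) :
    ∃! x : (yon S).obj T ⟶ X, x ≫ inl ≫ f' = t := by
  let R : Sieve T :=
    { arrows := fun T' g => ∀ (T'' : Over S) (h : T'' ⟶ T'), ∃! x : (yon S).obj T'' ⟶ X,
        x ≫ inl ≫ f' = (yon S).map (h ≫ g) ≫ t
      downward_closed := by
        intro T' T'' g hg k T3 h
        rw [← Category.assoc]
        exact hg T3 (h ≫ k) }
  have hR : R ∈ J S T := by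
    obtain ⟨R0, hR0, H0⟩ := K615.Cov.charts_exists hY T (t ≫ ν)
    refine (J S).transitive hR0 _ fun T' g hg => ?_
    obtain ⟨U, a, u, hU, ha, hu⟩ := H0 T' g hg
    obtain ⟨XU, ZU, D, V, i, j, d1, d2, ia, ib, yX, yZ, q, hP, sqX, sqZ, hdc, e1, e2, e3, e4⟩ :=
      exists_dCov hf hκ sqC po h1 h2 hU a (IsPullback.of_hasPullback fQ a)
    obtain ⟨N, n, νU, m, hN, hfU, sqN, hm⟩ :=
      K640.QNorm.UNorm.exists_chart hUN hU ha (IsPullback.of_hasPullback fQ a) hdc
    have hi : ia ≫ n ≫ νU = i := (yon S).map_injective (by rw [(yon S).map_comp, ← hfU, e3])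
    have hj : ib ≫ n ≫ νU = j := (yon S).map_injective (by rw [(yon S).map_comp, ← hfU, e4])
    have := hP.affU
    have := hP.cl
    obtain ⟨l, hl⟩ := (yon S).map_surjective (sqN.lift ((yon S).map g ≫ t) u (by rw [Category.assoc, hu]))
    have hl1 : (yon S).map l ≫ m = (yon S).map g ≫ t := by rw [hl, sqN.lift_fst]
    have hl2 : (yon S).map l ≫ (yon S).map νU = u := by rw [hl, sqN.lift_snd]
    refine K615.Cov.sieve_mem _ fun x => ?_
    have hx : (l ≫ νU).left x ∉ Set.range j.left := by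
      rintro ⟨z, hz⟩
      obtain ⟨w, -, -⟩ := Scheme.exists_preimage_of_isPullback
        ((IsPullback.of_hasPullback (l ≫ νU) j).map (Over.forget S)) x z hz.symm
      refine (ht _ (pullback.fst (l ≫ νU) j ≫ g) ((yon S).map (pullback.snd (l ≫ νU) j) ≫ yZ) ?_).false w
      rw [(yon S).map_comp, Category.assoc, ← hu, ← hl2, ← (yon S).map_comp, Category.assoc, sqZ.w,
        ← Category.assoc, ← (yon S).map_comp, pullback.condition, (yon S).map_comp, Category.assoc]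
    obtain ⟨g0, hg0, hx0⟩ := exists_fun j.left _ hx
    let W : T'.left.Opens := (l ≫ νU).left ⁻¹ᵁ U.left.basicOpen g0
    refine ⟨K615.Cov.opn T' W, K615.Cov.opnι T' W, ?_, inferInstance, inferInstance, ?_⟩
    · intro T'' h
      have hunit : IsUnit (((h ≫ K615.Cov.opnι T' W ≫ l) ≫ νU).left.appTop g0) := by
        apply isUnit_of_basicOpen_eq
        rw [← Scheme.preimage_basicOpen_top]
        intro y _
        have h3 : (h ≫ K615.Cov.opnι T' W).left y ∈ W := (h.left y).2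
        exact h3
      obtain ⟨s, hs, hs'⟩ := hP.existsUnique_lift_X hN hi hj (h ≫ K615.Cov.opnι T' W ≫ l) g0 hg0 hunit
      have key : (yon S).map (h ≫ K615.Cov.opnι T' W ≫ l) ≫ m = (yon S).map (h ≫ K615.Cov.opnι T' W ≫ g) ≫ t := by
        rw [(yon S).map_comp, (yon S).map_comp, Category.assoc, Category.assoc, hl1, (yon S).map_comp,
          (yon S).map_comp, Category.assoc, Category.assoc]
      have hyX : yX ≫ inl ≫ f' = (yon S).map (ia ≫ n) ≫ m := by
        rw [(yon S).map_comp, Category.assoc, ← hm, ← Category.assoc yX, ← e1, Category.assoc, Category.assoc]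
      refine ⟨(yon S).map s ≫ yX, ?_, fun x' hx' => ?_⟩
      · change ((yon S).map s ≫ yX) ≫ inl ≫ f' = _
        rw [Category.assoc, hyX, ← Category.assoc, ← (yon S).map_comp, hs, key]
      · have hx'f : x' ≫ f = (yon S).map (h ≫ K615.Cov.opnι T' W ≫ l ≫ νU) ≫ a := by
          rw [← h1, ← hUN.w, ← Category.assoc inl, ← Category.assoc x', hx', Category.assoc]
          rw [(yon S).map_comp, (yon S).map_comp, (yon S).map_comp, (yon S).map_comp, (yon S).map_comp, hl2]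
          simp only [Category.assoc]
          rw [hu]
        obtain ⟨s', hs'e⟩ := (yon S).map_surjective (sqX.lift x' _ hx'f)
        have hs1 : (yon S).map s' ≫ yX = x' := by rw [hs'e, sqX.lift_fst]
        have hs2 : s' ≫ i = h ≫ K615.Cov.opnι T' W ≫ l ≫ νU := (yon S).map_injective (by
          rw [(yon S).map_comp, hs'e, sqX.lift_snd])
        rw [← hs1]
        congr 2
        apply hs'
        apply (yon S).map_injective
        apply sqN.hom_ext
        · rw [key, (yon S).map_comp, Category.assoc, ← hyX, ← Category.assoc, hs1]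
          exact hx'
        · rw [← (yon S).map_comp, ← (yon S).map_comp]
          congr 1
          simp only [Category.assoc]
          rw [hi, hs2]
    · exact ⟨⟨x, hx0⟩, rfl⟩
  obtain ⟨x, hx⟩ := K615.Pt.exists_glue (F := X) R hR (fun T' g hg => (hg T' (𝟙 T')).choose) (fun T' T'' g k hg => by
    have h3 := (hg T'' k).unique (y₁ := (R.downward_closed hg k T'' (𝟙 T'')).choose)
      (y₂ := (yon S).map k ≫ (hg T' (𝟙 T')).choose) ?_ ?_
    · exact h3
    · rw [(R.downward_closed hg k T'' (𝟙 T'')).choose_spec.1, Category.id_comp]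
    · rw [Category.assoc, (hg T' (𝟙 T')).choose_spec.1, Category.id_comp, ← Category.assoc, ← (yon S).map_comp])
  refine ⟨x, ?_, fun x' hx' => ?_⟩
  · refine K615.Pt.pt_ext R hR _ _ fun T' g hg => ?_
    rw [← Category.assoc, hx T' g hg, (hg T' (𝟙 T')).choose_spec.1, Category.id_comp]
  · refine K615.Pt.pt_ext R hR _ _ fun T' g hg => ?_
    rw [hx T' g hg]
    apply (hg T' (𝟙 T')).unique _ (hg T' (𝟙 T')).choose_spec.1
    rw [Category.assoc, hx', Category.id_comp]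

theorem mem_range {f : X ⟶ Y} {κ : Z ⟶ Y} (hf : IsIntegralMor f) (hκ : RepWith @IsClosedImmersion κ) [Mono κ]
    {c1 : C ⟶ X} {c2 : C ⟶ Z} (sqC : IsPullback c1 c2 f κ) {inl : X ⟶ Q} {inr : Z ⟶ Q}
    (po : IsPushout c1 c2 inl inr) {fQ : Q ⟶ Y} (h1 : inl ≫ fQ = f) (h2 : inr ≫ fQ = κ) (hY : IsAlgSpace Y)
    {X' : Sp S} {ν : X' ⟶ Y} {f' : Q ⟶ X'} (hUN : UNorm fQ ν f') (x' : Points X') (z : Points Z)
    (hz : Points.map ν x' = Points.map κ z) : ∃ w : Points Z, Points.map (inr ≫ f') w = x' := by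
  obtain ⟨c, u, hu⟩ := K615.Desc.points_of_charts hY (Points.map ν x')
  obtain ⟨u0, rfl⟩ := (Points.schemeEquiv c.U).surjective u
  have hu' : Points.map ν x' = Points.ofPt c.a u0 := by rw [← hu, Points.ofPt_eq_map_ofScheme]; rfl
  obtain ⟨XU, ZU, D, V, i, j, d1, d2, ia, ib, yX, yZ, q, hP, sqX, sqZ, hdc, e1, e2, e3, e4⟩ :=
    exists_dCov hf hκ sqC po h1 h2 c.affine c.a (IsPullback.of_hasPullback fQ c.a)
  obtain ⟨N, n, νU, m, hN, hfU, sqN, hm⟩ :=
    K640.QNorm.UNorm.exists_chart hUN c.affine c.etale (IsPullback.of_hasPullback fQ c.a) hdc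
  have hi : ia ≫ n ≫ νU = i := (yon S).map_injective (by rw [(yon S).map_comp, ← hfU, e3])
  have hj : ib ≫ n ≫ νU = j := (yon S).map_injective (by rw [(yon S).map_comp, ← hfU, e4])
  obtain ⟨n0, hn1, hn2⟩ := K610.Base.exists_of_isPullback_yon sqN x' u0 hu'
  obtain ⟨z0, hz1, hz2⟩ := K610.Base.exists_of_isPullback_yon sqZ z u0 (by rw [← hz, hu'])
  let T : Over S := Over.mk (N.left.fromSpecResidueField n0 ≫ N.hom)
  let t : T ⟶ N := Over.homMk (N.left.fromSpecResidueField n0) rfl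
  have : IsIntegral T.left := inferInstanceAs (IsIntegral (Spec (N.left.residueField n0)))
  obtain ⟨s, hs⟩ := hP.exists_lift_Z hN hi hj t (by
    rintro _ ⟨p, rfl⟩
    refine ⟨z0, ?_⟩
    rw [hz2, ← hn2]
    change νU.left n0 = νU.left ((N.left.fromSpecResidueField n0) p)
    rw [Scheme.fromSpecResidueField_apply])
  let p0 : T.left := (IsLocalRing.closedPoint (N.left.residueField n0) : Spec (N.left.residueField n0))
  have hp0 : (ib ≫ n).left (s.left p0) = n0 := by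
    have h3 : (s ≫ ib ≫ n).left p0 = n0 := by
      rw [hs]
      exact Scheme.fromSpecResidueField_apply _ _
    exact h3
  refine ⟨Points.ofPt yZ (s.left p0), ?_⟩
  have e5 : yZ ≫ inr ≫ f' = (yon S).map (ib ≫ n) ≫ m := by
    rw [(yon S).map_comp, Category.assoc, ← hm, ← Category.assoc yZ, ← e2]
    simp only [Category.assoc]
  rw [← hn1, ← hp0, Points.map_ofPt, e5, K610.Base.ofPt_map_comp]

theorem isFiniteMor {f : X ⟶ Y} {κ : Z ⟶ Y} (hf : IsIntegralMor f) (hκ : RepWith @IsClosedImmersion κ) [Mono κ]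
    {c1 : C ⟶ X} {c2 : C ⟶ Z} (sqC : IsPullback c1 c2 f κ) {inl : X ⟶ Q} {inr : Z ⟶ Q}
    (po : IsPushout c1 c2 inl inr) {fQ : Q ⟶ Y} (h1 : inl ≫ fQ = f) (h2 : inr ≫ fQ = κ) (hY : IsAlgSpace Y)
    {X' : Sp S} {ν : X' ⟶ Y} {f' : Q ⟶ X'} (hUN : UNorm fQ ν f') (hfin : IsFiniteMor f) (hn : IsLocNoethSp Y) :
    IsFiniteMor ν := by
  have key : ∀ c : K615.Cov.Chart Y, ∃ (N : Over S) (νU : N ⟶ c.U) (m : (yon S).obj N ⟶ X'),
      IsPullback m ((yon S).map νU) ν c.a ∧ IsFiniteMor ((yon S).map νU) := by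
    intro c
    obtain ⟨XU, ZU, D, V, i, j, d1, d2, ia, ib, yX, yZ, q, hP, sqX, sqZ, hdc, e1, e2, e3, e4⟩ :=
      exists_dCov hf hκ sqC po h1 h2 c.affine c.a (IsPullback.of_hasPullback fQ c.a)
    obtain ⟨N, n, νU, m, hN, hfU, sqN, hm⟩ :=
      K640.QNorm.UNorm.exists_chart hUN c.affine c.etale (IsPullback.of_hasPullback fQ c.a) hdc
    have hi : ia ≫ n ≫ νU = i := (yon S).map_injective (by rw [(yon S).map_comp, ← hfU, e3])
    have hj : ib ≫ n ≫ νU = j := (yon S).map_injective (by rw [(yon S).map_comp, ← hfU, e4])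
    have := c.affine
    have := hP.affX
    have := hN.affN
    have hnU := K639.NoethFib.isLocallyNoetherian_chart hn c.etale
    have hnoeth : IsNoetherianRing Γ(c.U.left, ⊤) := hnU.component_noetherian ⟨⊤, isAffineOpen_top _⟩
    have hif : IsFinite i.left := (K617.FinLoc.isFiniteMor_iff.1 hfin).2 c.a yX i sqX
    have hfr := (hP.pinch hN hi hj).finite (Scheme.Hom.finite_appTop i.left)
    have hνf : IsFinite νU.left := by
      rw [HasAffineProperty.iff_of_isAffine (P := @IsFinite)]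
      exact ⟨hN.affN, hfr⟩
    refine ⟨N, νU, m, sqN, K617.FinLoc.isFiniteMor_iff.2 ((repWith_yon_map_iff _ _).2 hνf)⟩
  choose N νU m sqN hfin using key
  exact K617.FinLoc.finite_family (fun c : K615.Cov.Chart Y => c.etale) (K615.Desc.points_of_charts hY) sqN hfin

end K640.Pinch
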