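import Mathlib

/-!
# Pinching: commutative algebra

`A → B`, `A → C` (surjective, kernel `I`), `R = {(b, c) | b mod I B = c}`.
-/

set_option autoImplicit false
universe u

namespace K640.PinchRing

variable {A B C D R : Type u} [CommRing A] [CommRing B] [CommRing C] [CommRing D] [CommRing R]

/-- `R` is the ring of compatible pairs -/
structure Pinch (i : A →+* B) (j : A →+* C) (d1 : B →+* D) (d2 : C →+* D) (ν : A →+* R) (β : R →+* B) (γ : R →+* C) :
    Prop where
  νβ : β.comp ν = i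
  νγ : γ.comp ν = j
  w : d1.comp i = d2.comp j
  βγ : d1.comp β = d2.comp γ
  inj : ∀ x, β x = 0 → γ x = 0 → x = 0
  surj : ∀ b c, d1 b = d2 c → ∃ x, β x = b ∧ γ x = c
  jsurj : Function.Surjective j
  ker : ∀ b, d1 b = 0 → b ∈ (RingHom.ker j).map i

variable {i : A →+* B} {j : A →+* C} {d1 : B →+* D} {d2 : C →+* D} {ν : A →+* R} {β : R →+* B} {γ : R →+* C}

theorem Pinch.β_ν (h : Pinch i j d1 d2 ν β γ) (a : A) : β (ν a) = i a := congrArg (fun k => k a) h.νβ
theorem Pinch.γ_ν (h : Pinch i j d1 d2 ν β γ) (a : A) : γ (ν a) = j a := congrArg (fun k => k a) h.νγ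
theorem Pinch.d_eq (h : Pinch i j d1 d2 ν β γ) (a : A) : d1 (i a) = d2 (j a) := congrArg (fun k => k a) h.w
theorem Pinch.βγ_eq (h : Pinch i j d1 d2 ν β γ) (x : R) : d1 (β x) = d2 (γ x) := congrArg (fun k => k x) h.βγ

theorem Pinch.ext (h : Pinch i j d1 d2 ν β γ) {x y : R} (h1 : β x = β y) (h2 : γ x = γ y) : x = y := by
  rw [← sub_eq_zero]
  exact h.inj _ (by rw [map_sub, h1, sub_self]) (by rw [map_sub, h2, sub_self])

theorem Pinch.γsurj (h : Pinch i j d1 d2 ν β γ) : Function.Surjective γ := fun c => by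
  obtain ⟨a, rfl⟩ := h.jsurj c
  exact ⟨ν a, h.γ_ν a⟩

/-- The square of an element of `ker γ` is in `I R`. -/
theorem Pinch.sq_mem (h : Pinch i j d1 d2 ν β γ) {x : R} (hx : γ x = 0) : x * x ∈ (RingHom.ker j).map ν := by
  have h1 : d1 (β x) = 0 := by rw [h.βγ_eq, hx, map_zero]
  have h2 : ∀ b' ∈ (RingHom.ker j).map i, ∃ y ∈ (RingHom.ker j).map ν, β y = b' * β x ∧ γ y = 0 := by
    intro b' hb'
    refine Submodule.span_induction (p := fun b' _ => ∀ r : B, ∃ y ∈ (RingHom.ker j).map ν, β y = r * b' * β x ∧ γ y = 0)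
      ?_ ?_ ?_ ?_ hb' 1 |>.imp fun y hy => ⟨hy.1, by rw [hy.2.1, one_mul], hy.2.2⟩
    · rintro _ ⟨a, ha, rfl⟩ r
      obtain ⟨y, hy1, hy2⟩ := h.surj (r * β x) 0 (by rw [map_mul, h1, mul_zero, map_zero])
      refine ⟨ν a * y, Ideal.mul_mem_right _ _ (Ideal.mem_map_of_mem _ ha), ?_, ?_⟩
      · rw [map_mul, h.β_ν, hy1]; ring
      · rw [map_mul, hy2, mul_zero]
    · intro r
      exact ⟨0, Ideal.zero_mem _, by simp, by simp⟩
    · intro x1 x2 _ _ hx1 hx2 r
      obtain ⟨y1, a1, b1, c1⟩ := hx1 r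
      obtain ⟨y2, a2, b2, c2⟩ := hx2 r
      exact ⟨y1 + y2, Ideal.add_mem _ a1 a2, by rw [map_add, b1, b2]; ring, by rw [map_add, c1, c2, add_zero]⟩
    · intro a x1 _ hx1 r
      obtain ⟨y1, a1, b1, c1⟩ := hx1 (r * a)
      exact ⟨y1, a1, by rw [b1, smul_eq_mul]; ring, c1⟩
  obtain ⟨y, hy1, hy2, hy3⟩ := h2 (β x) (h.ker _ h1)
  have : x * x = y := h.ext (by rw [map_mul, hy2]) (by rw [map_mul, hx, mul_zero, hy3])
  rw [this]
  exact hy1

theorem Pinch.ker_le (h : Pinch i j d1 d2 ν β γ) (q : Ideal R) [hq : q.IsPrime] (hI : (RingHom.ker j).map ν ≤ q) :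
    RingHom.ker γ ≤ q := fun x hx => by
  rcases hq.mem_or_mem (hI (h.sq_mem hx)) with h | h <;> exact h

/-- Homomorphisms from `R` inverting an element of `I` extend uniquely to `B`. -/
theorem Pinch.exists_lift (h : Pinch i j d1 d2 ν β γ) {g : A} (hg : j g = 0) {T : Type u} [CommRing T] (φ : R →+* T)
    (hu : IsUnit (φ (ν g))) : ∃ ψ : B →+* T, ψ.comp β = φ ∧ ∀ ψ' : B →+* T, ψ'.comp β = φ → ψ' = ψ := by
  have hc : ∀ b : B, ∃ c : R, β c = i g * b ∧ γ c = 0 := fun b =>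
    h.surj _ _ (by rw [map_mul, h.d_eq, hg, map_zero, zero_mul])
  choose c hc1 hc2 using hc
  obtain ⟨u, hu⟩ := hu
  have hu' : (↑u⁻¹ : T) * φ (ν g) = 1 := by rw [← hu, Units.inv_mul]
  have hcβ : ∀ x : R, c (β x) = ν g * x := fun x => h.ext
    (by rw [hc1, map_mul, h.β_ν]) (by rw [hc2, map_mul, h.γ_ν, hg, zero_mul])
  have hadd : ∀ b b', c (b + b') = c b + c b' := fun b b' => h.ext
    (by rw [hc1, map_add, hc1, hc1]; ring) (by rw [hc2, map_add, hc2, hc2, add_zero])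
  have hmul : ∀ b b', c b * c b' = ν g * c (b * b') := fun b b' => h.ext
    (by rw [map_mul, map_mul, hc1, hc1, hc1, h.β_ν]; ring) (by rw [map_mul, map_mul, hc2, hc2, hc2, mul_zero, mul_zero])
  let ψ : B →+* T :=
    { toFun := fun b => ↑u⁻¹ * φ (c b)
      map_one' := by
        have : c 1 = ν g := by rw [← map_one β, hcβ, mul_one]
        rw [this, hu']
      map_mul' := fun b b' => by
        have h1 : φ (c b) * φ (c b') = φ (ν g) * φ (c (b * b')) := by rw [← map_mul, hmul, map_mul]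
        calc (↑u⁻¹ : T) * φ (c (b * b')) = ↑u⁻¹ * ((↑u⁻¹ * φ (ν g)) * φ (c (b * b'))) := by rw [hu', one_mul]
          _ = ↑u⁻¹ * (↑u⁻¹ * (φ (ν g) * φ (c (b * b')))) := by rw [mul_assoc]
          _ = ↑u⁻¹ * (↑u⁻¹ * (φ (c b) * φ (c b'))) := by rw [h1]
          _ = ↑u⁻¹ * φ (c b) * (↑u⁻¹ * φ (c b')) := by ring
      map_zero' := by
        have : c 0 = 0 := by rw [← map_zero β, hcβ, mul_zero]
        rw [this, map_zero, mul_zero]
      map_add' := fun b b' => by
        change (↑u⁻¹ : T) * φ (c (b + b')) = ↑u⁻¹ * φ (c b) + ↑u⁻¹ * φ (c b')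
        rw [hadd, map_add, mul_add] }
  refine ⟨ψ, ?_, fun ψ' hψ' => ?_⟩
  · ext x
    change (↑u⁻¹ : T) * φ (c (β x)) = φ x
    rw [hcβ, map_mul, ← mul_assoc, hu', one_mul]
  · ext b
    change ψ' b = ↑u⁻¹ * φ (c b)
    have h1 : φ (c b) = φ (ν g) * ψ' b := by
      rw [← hψ', RingHom.comp_apply, RingHom.comp_apply, hc1, map_mul, h.β_ν]
    rw [h1, ← mul_assoc, hu', one_mul]

theorem Pinch.finite (h : Pinch i j d1 d2 ν β γ) [IsNoetherianRing A] (hi : i.Finite) : ν.Finite := by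
  algebraize [i, j, ν]
  have : Module.Finite A B := hi
  have : Module.Finite A C := Module.Finite.of_surjective (Algebra.linearMap A C) h.jsurj
  let β' : R →ₗ[A] B :=
    { toFun := β
      map_add' := map_add _
      map_smul' := fun a x => by
        rw [Algebra.smul_def, RingHom.id_apply, Algebra.smul_def, map_mul]
        change β (ν a) * _ = i a * _
        rw [h.β_ν] }
  let γ' : R →ₗ[A] C :=
    { toFun := γ
      map_add' := map_add _
      map_smul' := fun a x => by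
        rw [Algebra.smul_def, RingHom.id_apply, Algebra.smul_def, map_mul]
        change γ (ν a) * _ = j a * _
        rw [h.γ_ν] }
  have hinj : Function.Injective (β'.prod γ') := fun x y hxy => h.ext (congrArg Prod.fst hxy) (congrArg Prod.snd hxy)
  exact Module.Finite.of_injective _ hinj

end K640.PinchRing
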