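import Groth.Agent.AlgSp.K640.Glue2
import Groth.Agent.AlgSp.K640.PinchRing
import Groth.Agent.AlgSp.K615.RelNorm
import Groth.Agent.Sga3C.Affinization

/-!
# Pinching: affine charts
-/

set_option autoImplicit false
universe u v
open CategoryTheory CategoryTheory.Limits AlgebraicGeometry Opposite
open AlgSp K613.Basic K613.Cover K640.Joint K640.Loc

namespace K640.PinchChart

variable {S : Scheme.{u}}

/-- Elements of a product of commutative rings. -/
theorem exists_of_prod (A B : CommRingCat.{u}) (x : A) (y : B) :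
    ∃ z : (A ⨯ B : CommRingCat.{u}), (prod.fst : A ⨯ B ⟶ A) z = x ∧ (prod.snd : A ⨯ B ⟶ B) z = y := by
  let l : CommRingCat.of (A × B) ⟶ A ⨯ B := prod.lift (CommRingCat.ofHom (RingHom.fst A B))
    (CommRingCat.ofHom (RingHom.snd A B))
  have h1 : l ≫ prod.fst = CommRingCat.ofHom (RingHom.fst A B) := prod.lift_fst _ _
  have h2 : l ≫ prod.snd = CommRingCat.ofHom (RingHom.snd A B) := prod.lift_snd _ _
  refine ⟨l (x, y), ?_, ?_⟩
  · rw [← ConcreteCategory.comp_apply, h1]; rfl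
  · rw [← ConcreteCategory.comp_apply, h2]; rfl

theorem ext_of_prod (A B : CommRingCat.{u}) (z z' : (A ⨯ B : CommRingCat.{u}))
    (h1 : (prod.fst : A ⨯ B ⟶ A) z = (prod.fst : A ⨯ B ⟶ A) z')
    (h2 : (prod.snd : A ⨯ B ⟶ B) z = (prod.snd : A ⨯ B ⟶ B) z') : z = z' := by
  let l : CommRingCat.of (A × B) ⟶ A ⨯ B := prod.lift (CommRingCat.ofHom (RingHom.fst A B))
    (CommRingCat.ofHom (RingHom.snd A B))
  let e : (A ⨯ B : CommRingCat.{u}) ⟶ CommRingCat.of (A × B) :=
    CommRingCat.ofHom (RingHom.prod (prod.fst : A ⨯ B ⟶ A).hom (prod.snd : A ⨯ B ⟶ B).hom)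
  have h : e ≫ l = 𝟙 _ := by
    apply Limits.prod.hom_ext
    · rw [Category.assoc, prod.lift_fst, Category.id_comp]; rfl
    · rw [Category.assoc, prod.lift_snd, Category.id_comp]; rfl
  have he : e z = e z' := Prod.ext h1 h2
  have hz : ∀ w, l (e w) = w := fun w => by rw [← ConcreteCategory.comp_apply, h]; rfl
  rw [← hz z, he, hz]

theorem coprod_sect (X Y : Scheme.{u}) (x : Γ(X, coprod.inl (C := Scheme) ⁻¹ᵁ (⊤ : (X ⨿ Y).Opens)))
    (y : Γ(Y, coprod.inr (C := Scheme) ⁻¹ᵁ (⊤ : (X ⨿ Y).Opens))) :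
    ∃ z : Γ(X ⨿ Y, ⊤), (coprod.inl (C := Scheme)).app ⊤ z = x ∧ (coprod.inr (C := Scheme)).app ⊤ z = y := by
  obtain ⟨z, hz1, hz2⟩ := exists_of_prod _ _ x y
  refine ⟨(Scheme.coprodPresheafObjIso ⊤).inv z, ?_, ?_⟩
  · rw [← Scheme.coprodPresheafObjIso_hom_fst, ← ConcreteCategory.comp_apply, Iso.inv_hom_id_assoc]; exact hz1
  · rw [← Scheme.coprodPresheafObjIso_hom_snd, ← ConcreteCategory.comp_apply, Iso.inv_hom_id_assoc]; exact hz2

theorem coprod_sect_ext (X Y : Scheme.{u}) (z z' : Γ(X ⨿ Y, ⊤))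
    (h1 : (coprod.inl (C := Scheme)).app ⊤ z = (coprod.inl (C := Scheme)).app ⊤ z')
    (h2 : (coprod.inr (C := Scheme)).app ⊤ z = (coprod.inr (C := Scheme)).app ⊤ z') : z = z' := by
  have hinj : Function.Injective (Scheme.coprodPresheafObjIso (X := X) (Y := Y) ⊤).hom :=
    (ConcreteCategory.bijective_of_isIso _).1
  apply hinj
  apply ext_of_prod
  · rw [← ConcreteCategory.comp_apply, ← ConcreteCategory.comp_apply, Scheme.coprodPresheafObjIso_hom_fst]; exact h1
  · rw [← ConcreteCategory.comp_apply, ← ConcreteCategory.comp_apply, Scheme.coprodPresheafObjIso_hom_snd]; exact h2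

theorem exists_coprod_affine (A B : Over S) (hA : IsAffine A.left) (hB : IsAffine B.left) :
    ∃ (G : Over S) (a : A ⟶ G) (b : B ⟶ G), IsAffine G.left ∧ IsOpenImmersion a.left ∧ IsOpenImmersion b.left ∧
      FpC₂ a b ∧ (∀ (T : Over S) (x : T ⟶ A) (y : T ⟶ B), x ≫ a = y ≫ b → IsEmpty T.left) ∧
      (∀ (x : Γ(A.left, ⊤)) (y : Γ(B.left, ⊤)), ∃ z : Γ(G.left, ⊤), a.left.appTop z = x ∧ b.left.appTop z = y) ∧
      (∀ z z' : Γ(G.left, ⊤), a.left.appTop z = a.left.appTop z' → b.left.appTop z = b.left.appTop z' → z = z') := by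
  let G : Over S := Over.mk (coprod.desc A.hom B.hom)
  let a : A ⟶ G := Over.homMk coprod.inl (coprod.inl_desc _ _)
  let b : B ⟶ G := Over.homMk coprod.inr (coprod.inr_desc _ _)
  have ha : IsOpenImmersion a.left := inferInstanceAs (IsOpenImmersion (coprod.inl (X := A.left) (Y := B.left)))
  have hb : IsOpenImmersion b.left := inferInstanceAs (IsOpenImmersion (coprod.inr (X := A.left) (Y := B.left)))
  refine ⟨G, a, b, inferInstanceAs (IsAffine (A.left ⨿ B.left)), ha, hb,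
    ⟨inferInstance, inferInstance, inferInstance, inferInstance, fun t => ?_⟩, fun T x y h => ⟨fun t => ?_⟩, ?_, ?_⟩
  · have h1 := (isCompl_range_inl_inr A.left B.left).sup_eq_top
    have h2 : t ∈ Set.range (coprod.inl (X := A.left) (Y := B.left)) ⊔ Set.range (coprod.inr (X := A.left) (Y := B.left)) := by
      rw [h1]; trivial
    exact h2
  · have h1 := congrArg (fun z => z.left t) h
    exact inl_ne_inr A.left B.left (x.left t) (y.left t) h1
  · exact fun x y => coprod_sect A.left B.left x y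
  · exact fun z z' h1 h2 => coprod_sect_ext A.left B.left z z' h1 h2

/-- The data of a pinching chart. -/
structure PData {U XU ZU D V : Over S} (i : XU ⟶ U) (j : ZU ⟶ U) (d1 : D ⟶ XU) (d2 : D ⟶ ZU) (ia : XU ⟶ V)
    (ib : ZU ⟶ V) : Prop where
  affU : IsAffine U.left
  affX : IsAffine XU.left
  affZ : IsAffine ZU.left
  affV : IsAffine V.left
  affD : IsAffine D.left
  int : IsIntegralHom i.left
  cl : IsClosedImmersion j.left
  sq : IsPullback d1 d2 i j
  oa : IsOpenImmersion ia.left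
  ob : IsOpenImmersion ib.left
  fp : FpC₂ ia ib
  disj : ∀ (T : Over S) (x : T ⟶ XU) (y : T ⟶ ZU), x ≫ ia = y ≫ ib → IsEmpty T.left
  sect : ∀ (x : Γ(XU.left, ⊤)) (y : Γ(ZU.left, ⊤)), ∃ z : Γ(V.left, ⊤), ia.left.appTop z = x ∧ ib.left.appTop z = y
  sext : ∀ z z' : Γ(V.left, ⊤), ia.left.appTop z = ia.left.appTop z' → ib.left.appTop z = ib.left.appTop z' → z = z'

theorem exists_pData {U XU ZU : Over S} (hU : IsAffine U.left) (i : XU ⟶ U) (j : ZU ⟶ U) (hi : IsIntegralHom i.left)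
    (hj : IsClosedImmersion j.left) : ∃ (D V : Over S) (d1 : D ⟶ XU) (d2 : D ⟶ ZU) (ia : XU ⟶ V) (ib : ZU ⟶ V),
      PData i j d1 d2 ia ib := by
  have hX : IsAffine XU.left := isAffine_of_isAffineHom i.left
  have hZ : IsAffine ZU.left := isAffine_of_isAffineHom j.left
  obtain ⟨V, ia, ib, hV, oa, ob, fp, disj, sect, sext⟩ := exists_coprod_affine XU ZU hX hZ
  have sq := IsPullback.of_hasPullback i j
  exact ⟨pullback i j, V, pullback.fst i j, pullback.snd i j, ia, ib, hU, hX, hZ, hV,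
    K615.Int.isAffine_of_isPullback sq hX hZ hU, hi, hj, sq, oa, ob, fp, disj, sect, sext⟩

theorem mem_of_isPullback {P X Y Z : Scheme.{u}} {fst : P ⟶ X} {snd : P ⟶ Y} {f : X ⟶ Z} {g : Y ⟶ Z} [IsAffine X]
    [IsAffine Y] [IsAffine Z] (h : IsPullback fst snd f g) (hg : Function.Surjective g.appTop.hom) (b : Γ(X, ⊤))
    (hb : fst.appTop.hom b = 0) : b ∈ (RingHom.ker g.appTop.hom).map f.appTop.hom := by
  have po := isPushout_appTop_of_isPullback h
  let I : Ideal Γ(Z, ⊤) := RingHom.ker g.appTop.hom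
  let J : Ideal Γ(X, ⊤) := I.map f.appTop.hom
  let E : CommRingCat.{u} := CommRingCat.of (Γ(X, ⊤) ⧸ J)
  let φ : Γ(X, ⊤) ⟶ E := CommRingCat.ofHom (Ideal.Quotient.mk J)
  have h1 : ∀ a ∈ I, (Ideal.Quotient.mk J) (f.appTop.hom a) = 0 := fun a ha =>
    Ideal.Quotient.eq_zero_iff_mem.2 (Ideal.mem_map_of_mem _ ha)
  let ψ0 : Γ(Y, ⊤) →+* Γ(X, ⊤) ⧸ J := RingHom.liftOfSurjective g.appTop.hom hg
    ⟨(Ideal.Quotient.mk J).comp f.appTop.hom, fun a ha => h1 a ha⟩
  let ψ : Γ(Y, ⊤) ⟶ E := CommRingCat.ofHom ψ0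
  have hw : f.appTop ≫ φ = g.appTop ≫ ψ := by
    ext a
    change (Ideal.Quotient.mk J) (f.appTop.hom a) = ψ0 (g.appTop.hom a)
    exact (RingHom.liftOfSurjective_comp_apply g.appTop.hom hg
      ⟨(Ideal.Quotient.mk J).comp f.appTop.hom, fun a ha => h1 a ha⟩ a).symm
  have h2 : φ b = po.desc φ ψ hw (fst.appTop b) := by
    rw [← ConcreteCategory.comp_apply, po.inl_desc]
  have h3 : φ b = 0 := by
    rw [h2]
    exact (congrArg _ hb).trans (map_zero _)
  exact Ideal.Quotient.eq_zero_iff_mem.1 h3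

theorem appTop_comp_left {X Y Z : Over S} (f : X ⟶ Y) (g : Y ⟶ Z) :
    (f ≫ g).left.appTop.hom = f.left.appTop.hom.comp g.left.appTop.hom := by
  rw [Over.comp_left, Scheme.Hom.comp_appTop]; rfl

variable {U XU ZU D V : Over S} {i : XU ⟶ U} {j : ZU ⟶ U} {d1 : D ⟶ XU} {d2 : D ⟶ ZU} {ia : XU ⟶ V} {ib : ZU ⟶ V}

open K615.Aff PinchRing

theorem PData.pinch (h : PData i j d1 d2 ia ib) {N : Over S} {n : V ⟶ N} {ν : N ⟶ U}
    (hN : NChar n ν (d1 ≫ ia) (d2 ≫ ib)) (hi : ia ≫ n ≫ ν = i) (hj : ib ≫ n ≫ ν = j) :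
    Pinch i.left.appTop.hom j.left.appTop.hom d1.left.appTop.hom d2.left.appTop.hom ν.left.appTop.hom
      (ia ≫ n).left.appTop.hom (ib ≫ n).left.appTop.hom := by
  have := h.affU
  have := h.affX
  have := h.affZ
  have := h.cl
  have hsurj : Function.Surjective j.left.appTop.hom := (IsClosedImmersion.isAffine_surjective_of_isAffine j.left).2
  refine ⟨?_, ?_, ?_, ?_, ?_, ?_, hsurj, ?_⟩
  · rw [← appTop_comp_left, Category.assoc, hi]
  · rw [← appTop_comp_left, Category.assoc, hj]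
  · rw [← appTop_comp_left, ← appTop_comp_left, h.sq.w]
  · rw [← appTop_comp_left, ← appTop_comp_left, ← Category.assoc, hN.eq, Category.assoc]
  · intro x hx1 hx2
    rw [appTop_comp_left] at hx1 hx2
    apply hN.inj
    rw [map_zero]
    apply h.sext
    · rw [map_zero]; exact hx1
    · rw [map_zero]; exact hx2
  · intro b c hbc
    obtain ⟨z, hz1, hz2⟩ := h.sect b c
    have key1 : RingHom.IsIntegralElem (n ≫ ν).left.appTop.hom z := by
      obtain ⟨P, hP1, hP2⟩ := (h.int.isIntegral_app ⊤ (isAffineOpen_top _)) b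
      obtain ⟨a, ha⟩ := hsurj c
      refine ⟨P * (Polynomial.X - Polynomial.C a), hP1.mul (Polynomial.monic_X_sub_C a), ?_⟩
      apply h.sext
      · rw [map_zero, Polynomial.eval₂_mul, map_mul]
        have e1 : ia.left.appTop (Polynomial.eval₂ (n ≫ ν).left.appTop.hom z P) = 0 := by
          change ia.left.appTop.hom _ = 0
          rw [Polynomial.hom_eval₂, ← appTop_comp_left, hi]
          have : ia.left.appTop.hom z = b := hz1
          rw [this]
          exact hP2
        rw [e1, zero_mul]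
      · rw [map_zero, Polynomial.eval₂_mul, map_mul]
        have e1 : ib.left.appTop (Polynomial.eval₂ (n ≫ ν).left.appTop.hom z (Polynomial.X - Polynomial.C a)) = 0 := by
          change ib.left.appTop.hom _ = 0
          rw [Polynomial.hom_eval₂, ← appTop_comp_left, hj]
          have : ib.left.appTop.hom z = c := hz2
          rw [this, Polynomial.eval₂_sub, Polynomial.eval₂_X, Polynomial.eval₂_C, ha, sub_self]
        rw [e1, mul_zero]
    have key2 : (d1 ≫ ia).left.appTop z = (d2 ≫ ib).left.appTop z := by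
      rw [Over.comp_left, Over.comp_left, Scheme.Hom.comp_appTop, Scheme.Hom.comp_appTop]
      change d1.left.appTop (ia.left.appTop z) = d2.left.appTop (ib.left.appTop z)
      rw [hz1, hz2]
      exact hbc
    obtain ⟨x, hx⟩ := hN.surj z key1 key2
    refine ⟨x, ?_, ?_⟩
    · rw [appTop_comp_left]
      exact (congrArg _ hx).trans hz1
    · rw [appTop_comp_left]
      exact (congrArg _ hx).trans hz2
  · intro b hb
    exact mem_of_isPullback (K615.Int.isPullback_left h.sq) hsurj b hb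

open Groth.Agent.Sga3C.Affinization in
/-- Points of `N` over the closed subscheme lift to it. -/
theorem PData.exists_lift_Z (h : PData i j d1 d2 ia ib) {N : Over S} {n : V ⟶ N} {ν : N ⟶ U}
    (hN : NChar n ν (d1 ≫ ia) (d2 ≫ ib)) (hi : ia ≫ n ≫ ν = i) (hj : ib ≫ n ≫ ν = j) {T : Over S}
    [IsIntegral T.left] (t : T ⟶ N) (ht : Set.range (t ≫ ν).left ⊆ Set.range j.left) :
    ∃ s : T ⟶ ZU, s ≫ ib ≫ n = t := by
  have := h.affU
  have := h.affX
  have := h.affZ
  have := h.cl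
  have := hN.affN
  have hp := h.pinch hN hi hj
  have h0 : ∀ a : Γ(U.left, ⊤), j.left.appTop.hom a = 0 → t.left.appTop.hom (ν.left.appTop.hom a) = 0 := by
    intro a ha
    have e1 : t.left.appTop.hom (ν.left.appTop.hom a) = (t ≫ ν).left.appTop a := by
      rw [Over.comp_left, Scheme.Hom.comp_appTop]; rfl
    rw [e1]
    refine (basicOpen_eq_bot_iff (X := T.left) (U := ⊤) _).1 ?_
    rw [← Scheme.preimage_basicOpen_top, eq_bot_iff]
    intro x hx
    obtain ⟨z, hz⟩ := ht ⟨x, rfl⟩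
    have h1 : z ∈ j.left ⁻¹ᵁ U.left.basicOpen a := by
      change j.left z ∈ U.left.basicOpen a
      rw [hz]
      exact hx
    rw [Scheme.preimage_basicOpen_top] at h1
    have h2 : j.left.appTop a = 0 := ha
    rw [h2, Scheme.basicOpen_zero] at h1
    exact h1
  have hq : (RingHom.ker t.left.appTop.hom).IsPrime := RingHom.ker_isPrime _
  have h1 : RingHom.ker (ib ≫ n).left.appTop.hom ≤ RingHom.ker t.left.appTop.hom := by
    apply hp.ker_le
    rw [Ideal.map_le_iff_le_comap]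
    intro a ha
    exact h0 a ha
  let ψ : Γ(ZU.left, ⊤) →+* Γ(T.left, ⊤) := RingHom.liftOfSurjective (ib ≫ n).left.appTop.hom hp.γsurj
    ⟨t.left.appTop.hom, h1⟩
  have hψ : ψ.comp (ib ≫ n).left.appTop.hom = t.left.appTop.hom := RingHom.liftOfSurjective_comp _ _ _
  obtain ⟨s, hs⟩ := exists_appTop_eq (X := T.left) (Z := ZU.left) (CommRingCat.ofHom ψ)
  have h2 : s ≫ (ib ≫ n).left = t.left := by
    apply ext_of_isAffine
    rw [Scheme.Hom.comp_appTop, hs]
    ext1
    exact hψ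
  refine ⟨Over.homMk s ?_, ?_⟩
  · rw [← Over.w (ib ≫ n), ← Category.assoc, h2, Over.w]
  · ext : 1
    exact h2

open Groth.Agent.Sga3C.Affinization in
/-- Morphisms to `N` on which an element of the ideal of the closed subscheme is invertible. -/
theorem PData.existsUnique_lift_X (h : PData i j d1 d2 ia ib) {N : Over S} {n : V ⟶ N} {ν : N ⟶ U}
    (hN : NChar n ν (d1 ≫ ia) (d2 ≫ ib)) (hi : ia ≫ n ≫ ν = i) (hj : ib ≫ n ≫ ν = j) {T : Over S} (t : T ⟶ N)
    (g : Γ(U.left, ⊤)) (hg : j.left.appTop g = 0) (hu : IsUnit ((t ≫ ν).left.appTop g)) :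
    ∃! s : T ⟶ XU, s ≫ ia ≫ n = t := by
  have := h.affU
  have := h.affX
  have := h.affZ
  have := h.cl
  have := hN.affN
  have hp := h.pinch hN hi hj
  obtain ⟨ψ, hψ, hψ'⟩ := hp.exists_lift (g := g) hg t.left.appTop.hom (by
    have e1 : (t ≫ ν).left.appTop g = t.left.appTop.hom (ν.left.appTop.hom g) := by
      rw [Over.comp_left, Scheme.Hom.comp_appTop]; rfl
    rw [← e1]
    exact hu)
  obtain ⟨s, hs⟩ := exists_appTop_eq (X := T.left) (Z := XU.left) (CommRingCat.ofHom ψ)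
  have h2 : s ≫ (ia ≫ n).left = t.left := by
    apply ext_of_isAffine
    rw [Scheme.Hom.comp_appTop, hs]
    ext1
    exact hψ
  refine ⟨Over.homMk s ?_, ?_, fun s' hs' => ?_⟩
  · rw [← Over.w (ia ≫ n), ← Category.assoc, h2, Over.w]
  · ext : 1
    exact h2
  · ext : 1
    change s'.left = s
    apply ext_of_isAffine
    rw [hs]
    ext1
    apply hψ'
    change s'.left.appTop.hom.comp _ = _
    rw [← appTop_comp_left, hs']

/-- Functions vanishing on a closed subscheme separate it from points. -/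
theorem exists_fun {Z U : Scheme.{u}} [IsAffine U] (j : Z ⟶ U) [IsClosedImmersion j] (x : U) (hx : x ∉ Set.range j) :
    ∃ g : Γ(U, ⊤), j.appTop g = 0 ∧ x ∈ U.basicOpen g := by
  have : IsAffine Z := isAffine_of_isAffineHom j
  have ho : IsOpen (Set.range j)ᶜ := j.isClosedEmbedding.isClosed_range.isOpen_compl
  obtain ⟨g, hg1, hg2⟩ := (isAffineOpen_top U).exists_basicOpen_le (V := ⟨_, ho⟩) ⟨x, hx⟩ trivial
  have h1 : Z.basicOpen (j.appTop g) = ⊥ := by
    rw [← Scheme.preimage_basicOpen_top, eq_bot_iff]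
    intro z hz
    exact (hg1 hz) ⟨z, rfl⟩
  have h2 : IsNilpotent (j.appTop g) := by
    rw [Scheme.isNilpotent_iff_basicOpen_eq_bot]
    exact h1
  obtain ⟨k, hk⟩ := h2
  refine ⟨g ^ (k + 1), ?_, ?_⟩
  · rw [map_pow, pow_succ, hk, zero_mul]
  · rw [Scheme.basicOpen_pow _ _ (Nat.succ_pos k)]
    exact hg2

end K640.PinchChart
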